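import Mathlib

/-!
# The exceptional configuration: the arithmetic
-/

set_option autoImplicit false

namespace CfsgLib.GW.Dne.Exc

theorem eq_product {M N w : ℕ} {Z : ℤ} (hN : Even N) (hN0 : 0 < N) (hw : 0 < w) (hM : Odd M)
    (hcop : M.Coprime (2 * N * w)) (hZ : 0 < Z * (Z + 1))
    (h : (M : ℤ) * (Z - 1) ^ 2 = 2 * (N : ℤ) ^ 2 * (w : ℤ) ^ 2 * (Z * (Z + 1))) :
    ∃ δ : ℤ, (δ = 1 ∨ δ = -1) ∧ (M : ℤ) = (1 + 2 * δ * N * w) * (1 + δ * N * w) := by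
  have hd : ((N : ℤ) * w) ^ 2 ∣ (Z - 1) ^ 2 := by
    have h1 : IsCoprime ((((N : ℤ) * w) ^ 2)) (M : ℤ) := by
      refine IsCoprime.pow_left ?_
      rw [← Nat.cast_mul, Int.isCoprime_iff_gcd_eq_one, Int.gcd_natCast_natCast]
      exact (hcop.coprime_dvd_right ⟨2, by ring⟩).symm
    exact h1.dvd_of_dvd_mul_left ⟨2 * (Z * (Z + 1)), by rw [h]; ring⟩
  obtain ⟨c, hc⟩ := (Int.pow_dvd_pow_iff two_ne_zero).1 hd
  have hNw : ((N : ℤ) * w) ≠ 0 := mul_ne_zero (Int.natCast_ne_zero.2 hN0.ne') (Int.natCast_ne_zero.2 hw.ne')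
  have h2 : (M : ℤ) * c ^ 2 = 2 * (Z * (Z + 1)) := by
    refine mul_left_cancel₀ (pow_ne_zero 2 hNw) ?_
    rw [hc] at h
    linear_combination h
  have hc4 : c ∣ 4 := ⟨(M : ℤ) * c - 2 * ((N : ℤ) * w) * (Z + 2), by
    linear_combination -h2 - 2 * (Z + 2) * hc⟩
  obtain ⟨N', hN'⟩ := hN
  have hMo : ((M : ℤ)) % 2 = 1 := by obtain ⟨j, hj⟩ := hM; omega
  have hbound : -4 ≤ c ∧ c ≤ 4 :=
    ⟨by have := Int.le_of_dvd (by norm_num) ((Int.neg_dvd).2 hc4); omega, Int.le_of_dvd (by norm_num) hc4⟩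
  obtain ⟨h3, h4⟩ := hbound
  have hN2 : (N : ℤ) = 2 * (N' : ℤ) := by omega
  interval_cases c
  · -- c = -4
    exfalso
    have hZe : Z = 1 - 8 * ((N' : ℤ) * w) := by rw [hN2] at hc; linear_combination hc
    have e : 8 * (M : ℤ) = Z * (Z + 1) := mul_left_cancel₀ two_ne_zero (by linear_combination h2)
    rw [hZe] at e
    have e2 : 8 * (M : ℤ) = 8 * ((8 * ((N' : ℤ) * w) - 3) * ((N' : ℤ) * w)) + 2 := by rw [e]; ring
    omega
  · norm_num at hc4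
  · exact ⟨-1, Or.inr rfl, by
      have hZe : Z = 1 - 2 * ((N : ℤ) * w) := by linear_combination hc
      rw [hZe] at h2; exact mul_left_cancel₀ four_ne_zero (by linear_combination h2)⟩
  · exfalso
    have e : (M : ℤ) = 2 * (Z * (Z + 1)) := by linear_combination h2
    omega
  · exfalso
    rw [mul_zero, sub_eq_zero] at hc
    rw [hc] at h2
    norm_num at h2
  · exfalso
    have e : (M : ℤ) = 2 * (Z * (Z + 1)) := by linear_combination h2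
    omega
  · exact ⟨1, Or.inl rfl, by
      have hZe : Z = 1 + 2 * ((N : ℤ) * w) := by linear_combination hc
      rw [hZe] at h2; exact mul_left_cancel₀ four_ne_zero (by linear_combination h2)⟩
  · norm_num at hc4
  · exfalso
    have hZe : Z = 1 + 8 * ((N' : ℤ) * w) := by rw [hN2] at hc; linear_combination hc
    have e : 8 * (M : ℤ) = Z * (Z + 1) := mul_left_cancel₀ two_ne_zero (by linear_combination h2)
    rw [hZe] at e
    have e2 : 8 * (M : ℤ) = 8 * ((8 * ((N' : ℤ) * w) + 3) * ((N' : ℤ) * w)) + 2 := by rw [e]; ring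
    omega

theorem no_solution {M r k m q n : ℕ} {ε Z : ℤ} (hr : r.Prime) (hr5 : 5 ≤ r) (hk : 0 < k) (hn : 1 ≤ n)
    (hm : Odd m) (hm1 : m ≠ 1) (hmr : m ≤ r + 1) (hM : Odd M) (hcop : M.Coprime (r ^ 3 * k * m))
    (hq : IsPrimePow q) (hε : ε = 1 ∨ ε = -1) (hqe : (q : ℤ) - ε = 2 * 2 ^ n * (r * k : ℕ))
    (hqd : q ∣ 2 * 2 ^ n * (r ^ 3 * k * m) * M) (hZ : 0 < Z * (Z + 1))
    (h : (M : ℤ) * (Z - 1) ^ 2 =
      2 * ((2 ^ n : ℕ) : ℤ) ^ 2 * ((r ^ 2 * k * m : ℕ) : ℤ) ^ 2 * (Z * (Z + 1))) : False := by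
  obtain ⟨p, e, hp, he, rfl⟩ := (isPrimePow_nat_iff q).1 hq
  set N := 2 ^ n with hNdef
  have hN2 : 2 ∣ N := dvd_pow_self 2 (by omega)
  have hNpos : 0 < N := pow_pos two_pos n
  have hq' : ((p ^ e : ℕ) : ℤ) - ε = 2 * (N : ℤ) * r * k := by rw [hqe, hNdef]; push_cast; ring
  have hpd : (p : ℤ) ∣ ((p ^ e : ℕ) : ℤ) := Int.natCast_dvd_natCast.2 (dvd_pow_self p he.ne')
  have hndvd : ∀ d : ℕ, (d : ℤ) ∣ 2 * (N : ℤ) * r * k → ¬ p ∣ d := by
    intro d hd hpd'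
    have h1 : (p : ℤ) ∣ ε := by
      have := dvd_sub hpd ((Int.natCast_dvd_natCast.2 hpd').trans (hq' ▸ hd))
      rwa [sub_sub_cancel] at this
    have h2 : (p : ℤ) ∣ 1 := by
      rcases hε with rfl | rfl
      · exact h1
      · exact dvd_neg.1 h1
    exact hp.not_dvd_one (Int.natCast_dvd_natCast.1 h2)
  have hp2 : ¬ p ∣ 2 := hndvd 2 ⟨(N : ℤ) * r * k, by ring⟩
  have hpN : ¬ p ∣ N := hndvd N ⟨2 * (r : ℤ) * k, by ring⟩
  have hpr : ¬ p ∣ r := hndvd r ⟨2 * (N : ℤ) * k, by ring⟩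
  have hpk : ¬ p ∣ k := hndvd k ⟨2 * (N : ℤ) * r, by ring⟩
  have hc : ∀ d : ℕ, ¬ p ∣ d → (p ^ e).Coprime d := fun d hd =>
    ((hp.coprime_iff_not_dvd).2 hd).pow_left e
  have hq1 : p ^ e ∣ m * M := by
    have h1 : (p ^ e).Coprime (2 * N * (r ^ 3 * k)) :=
      ((hc 2 hp2).mul_right (hc N hpN)).mul_right (((hc r hpr).pow_right 3).mul_right (hc k hpk))
    refine h1.dvd_of_dvd_mul_left ?_
    rwa [show 2 * N * (r ^ 3 * k) * (m * M) = 2 * N * (r ^ 3 * k * m) * M by ring]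
  have hk1 : (1 : ℤ) ≤ k := by exact_mod_cast hk
  have hN1 : (2 : ℤ) ≤ N := by exact_mod_cast Nat.le_of_dvd hNpos hN2
  have hrz : (5 : ℤ) ≤ r := by exact_mod_cast hr5
  have hmrz : (m : ℤ) ≤ r + 1 := by exact_mod_cast hmr
  have hqbig : (4 : ℤ) * r - 1 ≤ ((p ^ e : ℕ) : ℤ) := by
    have h1 : 4 * (r : ℤ) ≤ 2 * (N : ℤ) * r * k := by nlinarith [mul_le_mul hN1 hk1 zero_le_one (by positivity)]
    rcases hε with rfl | rfl <;> omega
  have hqM : p ^ e ∣ M := by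
    by_cases hpm : p ∣ m
    · exfalso
      have hpM : ¬ p ∣ M := fun hd =>
        hp.ne_one (Nat.eq_one_of_dvd_coprimes hcop hd (hpm.trans (dvd_mul_left _ _)))
      have h1 : p ^ e ≤ m := Nat.le_of_dvd hm.pos ((hc M hpM).dvd_of_dvd_mul_right hq1)
      have h2 : ((p ^ e : ℕ) : ℤ) ≤ m := by exact_mod_cast h1
      omega
    · exact (hc m hpm).dvd_of_dvd_mul_left hq1
  set w := r ^ 2 * k * m with hwdef
  have hwpos : 0 < w := mul_pos (mul_pos (pow_pos hr.pos 2) hk) hm.pos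
  have hcop' : M.Coprime (2 * N * w) := by
    refine Nat.Coprime.mul_right ?_ (hcop.coprime_dvd_right ⟨r, by rw [hwdef]; ring⟩)
    have h2 : M.Coprime 2 := Nat.coprime_two_right.2 hM
    exact h2.mul_right (h2.pow_right n)
  obtain ⟨δ, hδ, hMe⟩ := eq_product (even_iff_two_dvd.2 hN2) hNpos hwpos hM hcop' hZ h
  have hwe : 2 * δ * (N : ℤ) * (w : ℤ) = δ * r * m * (((p ^ e : ℕ) : ℤ) - ε) := by
    rw [hq', hwdef]; push_cast; ring
  have hqz : ((p ^ e : ℕ) : ℤ) ∣ (1 + 2 * δ * N * w) * (1 + δ * N * w) :=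
    hMe ▸ Int.natCast_dvd_natCast.2 hqM
  obtain ⟨c, hcb, hdc⟩ : ∃ c : ℤ, (-2 ≤ c ∧ c ≤ 2) ∧ ((p ^ e : ℕ) : ℤ) ∣ (r : ℤ) * m - c := by
    have hpz : Prime (p : ℤ) := Nat.prime_iff_prime_int.1 hp
    have key : ∀ c₀ : ℤ, ((p ^ e : ℕ) : ℤ) ∣ c₀ + 2 * δ * N * w →
        ((p ^ e : ℕ) : ℤ) ∣ (r : ℤ) * m - δ * ε * c₀ := by
      intro c₀ hc₀
      rw [hwe] at hc₀
      have h1 : ((p ^ e : ℕ) : ℤ) ∣ c₀ - δ * ε * (r * m) := by
        have := dvd_sub hc₀ (dvd_mul_left ((p ^ e : ℕ) : ℤ) (δ * r * m))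
        rwa [show c₀ + δ * r * m * (((p ^ e : ℕ) : ℤ) - ε) - δ * r * m * ((p ^ e : ℕ) : ℤ) =
          c₀ - δ * ε * (r * m) by ring] at this
      have h2 := h1.mul_left (-(δ * ε))
      have h3 : δ * ε * (δ * ε) = 1 := by
        rcases hδ with rfl | rfl <;> rcases hε with rfl | rfl <;> norm_num
      rwa [show -(δ * ε) * (c₀ - δ * ε * (r * m)) = δ * ε * (δ * ε) * (r * m) - δ * ε * c₀ by ring, h3,
        one_mul] at h2
    by_cases hp1 : (p : ℤ) ∣ 1 + 2 * δ * N * w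
    · have hp2' : ¬ (p : ℤ) ∣ 1 + δ * N * w := fun hd => hp.not_dvd_one (Int.natCast_dvd_natCast.1 (by
        have := dvd_sub (hd.mul_left 2) hp1
        rwa [show 2 * (1 + δ * N * w) - (1 + 2 * δ * N * w) = ((1 : ℕ) : ℤ) by push_cast; ring] at this))
      refine ⟨δ * ε * 1, ?_, key 1 ?_⟩
      · rcases hδ with rfl | rfl <;> rcases hε with rfl | rfl <;> norm_num
      · rw [Nat.cast_pow] at hqz ⊢
        exact hpz.pow_dvd_of_dvd_mul_right e hp2' hqz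
    · refine ⟨δ * ε * 2, ?_, key 2 ?_⟩
      · rcases hδ with rfl | rfl <;> rcases hε with rfl | rfl <;> norm_num
      · rw [Nat.cast_pow] at hqz ⊢
        have := (hpz.pow_dvd_of_dvd_mul_left e hp1 hqz).mul_left 2
        rwa [show 2 * (1 + δ * N * w) = 2 + 2 * δ * N * w by ring] at this
  obtain ⟨j, hj⟩ := hdc
  have hm3 : (3 : ℤ) ≤ m := by obtain ⟨l, rfl⟩ := hm; omega
  have hrm : (15 : ℤ) ≤ (r : ℤ) * m := by nlinarith
  have hj1 : 1 ≤ j := by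
    by_contra hj1
    have : ((p ^ e : ℕ) : ℤ) * j ≤ 0 :=
      mul_nonpos_of_nonneg_of_nonpos (Int.natCast_nonneg _) (by omega)
    omega
  have hj2 : 2 * j ≤ r := by
    by_contra hj2
    have h1 : (4 * (r : ℤ) - 1) * j ≤ ((p ^ e : ℕ) : ℤ) * j :=
      mul_le_mul_of_nonneg_right hqbig (by omega)
    have h2 : (4 * (r : ℤ) - 1) * ((r : ℤ) + 1) ≤ (4 * (r : ℤ) - 1) * (2 * j) :=
      mul_le_mul_of_nonneg_left (by omega) (by omega)
    have h3 : (r : ℤ) * m ≤ r * (r + 1) := mul_le_mul_of_nonneg_left hmrz (by omega)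
    nlinarith
  have hr2 : (2 * j : ℤ) ≠ r := fun e2 => by
    have hodd := hr.odd_of_ne_two (by omega)
    obtain ⟨l, rfl⟩ := hodd
    omega
  have hje : j * ε + c = (r : ℤ) * ((m : ℤ) - 2 * j * N * k) := by
    linear_combination -hj + (-j) * hq'
  have hzero : j * ε + c = 0 := by
    by_contra hne
    have h1 : (r : ℤ) ≤ |j * ε + c| :=
      Int.le_of_dvd (abs_pos.2 hne) ((dvd_abs _ _).2 ⟨_, hje⟩)
    have h2 : |j * ε + c| ≤ j + 2 := by
      rcases hε with rfl | rfl <;> rw [abs_le] <;> constructor <;> omega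
    omega
  rw [hzero, eq_comm, mul_eq_zero, sub_eq_zero] at hje
  rcases hje with h0 | h0
  · omega
  · obtain ⟨l, hl⟩ := hm
    have h2 : (m : ℤ) = 2 * (j * N * k) := by rw [h0]; ring
    omega

end CfsgLib.GW.Dne.Exc
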