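import Cfsg.Agent.Lib.GW.Dne.Exceptional.Chars
import Cfsg.Agent.Lib.GW.Dne.Exceptional.Arith

/-!
# The exceptional configuration does not occur
-/

set_option autoImplicit false

namespace CfsgLib.GW.Dne

open Subgroup CfsgLib.GW

universe u

variable {G : Type u} [Group G] [Finite G]

/-- The exceptional configuration does not occur. -/
theorem noExceptional (hK : Components G) (hB : OneComponent G) : NoExceptional G := by
  intro σ t u₁ u₂ g₁ g₂ r x y K hC E
  letI := Fintype.ofFinite G
  obtain ⟨q, ε, hq, hε, hqe, hqd⟩ := E.exists_q hK.solvableLocal hK.countData hC hB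
  obtain ⟨Z, hZ, hZe⟩ := E.exists_Z hC hB
  have hU := E.card_U
  have hw : Nat.card (Exceptional.Inv t u₁) = r ^ 2 * Nat.card K * E.topIndex := by
    have h1 := E.card_Inv
    rw [hU, show r ^ 3 * Nat.card K * E.topIndex = r * (r ^ 2 * Nat.card K * E.topIndex) by ring] at h1
    exact Nat.eq_of_mul_eq_mul_left E.prime.pos h1
  rw [hw] at hZe
  refine Exc.no_solution E.prime E.five_le Nat.card_pos σ.pos E.odd_m E.m_ne_one E.m_le E.odd_M
    (hU ▸ E.coprime_M hC hB) hq hε hqe ?_ hZ hZe
  rw [← card_mul_index (centralizer ({t} : Set G)), E.card_C, hU] at hqd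
  exact hqd

end CfsgLib.GW.Dne
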