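import Cfsg.Agent.Lib.GW.Dne.Exceptional.Small

/-!
# The exceptional configuration: `C(z) ≤ C(t)` for the elements of order prime to `r`
-/

set_option autoImplicit false

namespace CfsgLib.GW.Dne.Exceptional

open Subgroup CfsgLib.GW CfsgLib.GW.Dne.Exc
open CfsgLib.Signalizer (involution_sq involution_inv involution_ne_one orderOf_conj)

universe u

variable {G : Type u} [Group G] [Finite G] {σ : Hyp G} {t u₁ u₂ g₁ g₂ : G} {r : ℕ} {x y : G}
  {K : Subgroup G} (E : Exceptional σ t u₁ u₂ g₁ g₂ r x y K)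

include E

theorem unique_of_order {z : G} (hz : z ∈ U t) (hzr : z ^ r ≠ 1) :
    ∀ j ∈ centralizer ({z} : Set G), orderOf j = 2 → Commute j t → j = t := by
  intro j hj hjo hjt
  by_contra hne
  exact hzr (E.invol_fix hjt (involution_sq hjo) (involution_ne_one hjo) hne hz
    (commute_of_mem_centralizer hj).symm).1

theorem pow_r_ne_of_coprime {z : G} (hz1 : z ≠ 1) (hc : (orderOf z).Coprime r) : z ^ r ≠ 1 := fun h =>
  hz1 (orderOf_eq_one_iff.1 (Nat.eq_one_of_dvd_coprimes hc dvd_rfl (orderOf_dvd_of_pow_eq_one h)))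

theorem K_cop {z : G} (hz : z ∈ K) : (orderOf z).Coprime r :=
  ((E.prime.coprime_iff_not_dvd.2 E.K_coprime).coprime_dvd_right (Subgroup.orderOf_dvd_natCard K hz)).symm

/-- Step 2. -/
theorem centralizer_K_le (hC : CoreFixed G) (hB : OneComponent G) {z : G} (hz : z ∈ K) (hz1 : z ≠ 1) :
    centralizer ({z} : Set G) ≤ centralizer ({t} : Set G) := by
  have hzU := E.K_le hz
  have huniq := E.unique_of_order hzU (E.pow_r_ne_of_coprime hz1 (E.K_cop hz))
  have htX : t ∈ centralizer ({z} : Set G) := mem_centralizer_of_commute (E.U_mem hzU).symm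
  have hcX := σ.complement_of_unique htX E.ht huniq
  have hQA : ∀ a ∈ rCore r t, a ∈ oddPart (centralizer ({z} : Set G)) := fun a ha =>
    (mem_oddPart hcX).2 ⟨mem_centralizer_of_commute (E.K_comm z hz a ha).symm, E.U_odd (E.Q_le ha)⟩
  refine E.centralizer_le_of_plane hC hB (E.U_mem hzU) (E.K_inv₁ z hz) (E.x_central z hzU) huniq
    fun q W htW huW hxW _ _ _ _ _ hN hP a ha => ?_
  obtain ⟨b, hb, k, hk, hbk⟩ := E.exists_moving_y
  have hy := hN (hQA y E.y_mem)
  have hb' := hN (hQA b hb)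
  let φ := proj W
  refine hP.trivial_of_heisenberg (η := φ ⟨y, hy⟩) (β := φ ⟨b, hb'⟩) (mem_normalizer_quot _)
    (mem_normalizer_quot _) ?_ ?_ ?_ ?_ hk ?_ ha
  · exact (show Commute (⟨y, hy⟩ : normalizer (W : Set G)) ⟨t, htW⟩ from
      Subtype.ext (E.U_mem E.y_U).eq).map φ
  · exact (show Commute (⟨y, hy⟩ : normalizer (W : Set G)) ⟨u₁, huW⟩ from Subtype.ext E.y_u₁.eq).map φ
  · exact (show Commute (⟨b, hb'⟩ : normalizer (W : Set G)) ⟨t, htW⟩ from
      Subtype.ext (E.U_mem (E.Q_le hb)).eq).map φ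
  · exact (show Commute (⟨x, hxW⟩ : normalizer (W : Set G)) ⟨y, hy⟩ from
      Subtype.ext (E.x_central y E.y_U).symm.eq).map φ
  · rw [← map_inv, ← map_mul, ← map_mul, ← map_pow, ← map_mul]
    exact congrArg φ (Subtype.ext (by simpa using hbk))

/-- `2r` divides `q - 1` or `q + 1`. -/
theorem two_mul_le {q : ℕ} (hq : q.Prime) (hq2 : q ≠ 2) (hd : r ∣ q ^ 2 - 1) : 2 * r ≤ q + 1 := by
  have h5 := E.five_le
  have hqo := hq.odd_of_ne_two hq2
  have h2q := hq.two_le
  obtain ⟨l, hl⟩ := hqo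
  have e : q ^ 2 - 1 = (q + 1) * (q - 1) := by
    have := Nat.sq_sub_sq q 1
    simpa using this
  rw [e] at hd
  have hcop : Nat.Coprime r 2 := (Nat.coprime_primes E.prime Nat.prime_two).2 E.r_ne_two
  rcases (Nat.Prime.dvd_mul E.prime).1 hd with h | h
  · exact Nat.le_of_dvd (show 0 < q + 1 by omega)
      (by rw [mul_comm]; exact hcop.mul_dvd_of_dvd_of_dvd h ⟨l + 1, by omega⟩)
  · exact (Nat.le_of_dvd (show 0 < q - 1 by omega) (by
      rw [mul_comm]; exact hcop.mul_dvd_of_dvd_of_dvd h ⟨l, by omega⟩)).trans (Nat.sub_le q 1 |>.trans (by omega))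

/-- Step 3 for an element of prime order inverted by `u₁`. -/
theorem centralizer_inverted_le (hC : CoreFixed G) (hB : OneComponent G) {z : G} (hz : z ∈ U t)
    (hzY : z ∉ rCore r t ⊔ K) (hzp : (orderOf z).Prime) (hzr : orderOf z ≠ r)
    (hzu : u₁ * z * u₁⁻¹ = z⁻¹) :
    centralizer ({z} : Set G) ≤ centralizer ({t} : Set G) := by
  have hz1 : z ≠ 1 := fun e => hzY (e ▸ one_mem _)
  have huniq := E.unique_of_order hz
    (E.pow_r_ne_of_coprime hz1 ((Nat.coprime_primes hzp E.prime).2 hzr))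
  refine E.centralizer_le_of_plane hC hB (E.U_mem hz) hzu (E.x_central z hz) huniq
    fun q W htW huW hxW hq hqr hWp hWz hWo _ hP a ha => ?_
  by_contra hmv
  haveI := Fact.mk hq
  have hdvd := hP.dvd_of_moved ha hmv
  obtain ⟨p, -, hp, hp1, -, -, -, -⟩ := hP.exists_lines ha hmv
  obtain ⟨c, hcW, hcu, rfl⟩ := exists_fixed_lift hWo (s := ⟨u₁, huW⟩) E.u₁_sq hp.1
    (commute_of_conj_eq hp.2.2).symm
  have hct : ¬ Commute (c : G) t := fun h => by
    have h1 := conj_eq_of_commute ((show Commute (⟨t, htW⟩ : normalizer (W : Set G)) c from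
      Subtype.ext h.symm.eq).map (proj W))
    rw [hp.2.1] at h1
    exact hp1 (hP.eq_one_of_sq hp.1 (by nth_rw 1 [← h1]; rw [inv_mul_cancel]))
  set L := W ⊓ centralizer ({u₁} : Set G) with hL
  have htL : t ∈ normalizer (L : Set G) := CfsgLib.Transfer.normalizer_le_normalizer_inf
    ⟨htW, mem_normalizer_centralizer (Or.inl (conj_eq_of_commute E.frame.rot₁.comm))⟩
  obtain ⟨c', -, i, hi, hc't, hit, e, -⟩ := exists_fixed_inverted
    (hWo.of_dvd_nat (card_dvd_of_le inf_le_left) : Odd (Nat.card L)) E.t_sq htL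
    (q := (c : G)) ⟨hcW, mem_centralizer_of_commute hcu⟩
  have hi1 : i ≠ 1 := fun h => hct (by rw [e, h, mul_one]; exact hc't)
  obtain ⟨j, hj⟩ := hWp ⟨i, hi.1⟩
  obtain ⟨j', -, hio⟩ := (Nat.dvd_prime_pow hq).1 (orderOf_dvd_of_pow_eq_one (congrArg Subtype.val hj))
  have hj' : j' ≠ 0 := fun h => hi1 (orderOf_eq_one_iff.1 (by rw [hio, h, pow_zero]))
  set a₀ := i ^ (orderOf i / q) with ha₀
  have ha₀q : orderOf a₀ = q := orderOf_pow_orderOf_div (orderOf_pos i).ne' (hio ▸ dvd_pow_self q hj')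
  have ha₀W : a₀ ∈ W := pow_mem hi.1 _
  have ha₀u : Commute a₀ u₁ := (commute_of_mem_centralizer hi.2).pow_left _
  -- its preimage in `U t`
  set b := g₁⁻¹ * a₀ * g₁ with hb
  have hbo : orderOf b = q := by
    have := orderOf_conj g₁⁻¹ a₀
    rw [inv_inv] at this
    rw [hb, this, ha₀q]
  have hbU : b ∈ U t := by
    refine (σ.mem_U E.ht).2 ⟨?_, by rw [hbo]; exact hq.odd_of_ne_two hP.odd⟩
    have := ha₀u.map (MulAut.conj g₁⁻¹).toMonoidHom
    simp only [MulEquiv.coe_toMonoidHom, MulAut.conj_apply, inv_inv] at this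
    rwa [show g₁⁻¹ * u₁ * g₁ = t by rw [← E.frame.rot₁.conj1]; group] at this
  have hbK : b ∈ K := by
    refine E.mem_K_of_coprime (E.mem_Y_of_coprime hbU ?_) (by rw [hbo]; exact (Nat.coprime_primes hq E.prime).2 hqr)
    rw [hbo]
    refine hq.coprime_iff_not_dvd.2 fun hd => ?_
    have h1 := Nat.le_of_dvd E.odd_m.pos hd
    have h2 := E.two_mul_le hq hP.odd hdvd
    have h3 := E.m_le
    have h5 := E.five_le
    omega
  have hb1 : b ≠ 1 := fun h => hq.ne_one (by rw [← hbo, h, orderOf_one])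
  have hzb : g₁⁻¹ * z * g₁ ∈ centralizer ({b} : Set G) := by
    refine mem_centralizer_of_commute ?_
    have := ((commute_of_mem_centralizer (hWz ha₀W)).symm).map (MulAut.conj g₁⁻¹).toMonoidHom
    simpa [hb] using this
  have h1 := (commute_of_mem_centralizer (E.centralizer_K_le hC hB hbK hb1 hzb)).map
    (MulAut.conj g₁).toMonoidHom
  simp only [MulEquiv.coe_toMonoidHom, MulAut.conj_apply, E.frame.rot₁.conj1] at h1
  rw [show g₁ * (g₁⁻¹ * z * g₁) * g₁⁻¹ = z by group] at h1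
  rw [conj_eq_of_commute h1.symm] at hzu
  exact hz1 (eq_one_of_inv_self (E.U_odd hz) hzu.symm)

/-- Step 3. -/
theorem centralizer_top_le (hC : CoreFixed G) (hB : OneComponent G) {g : G} (hg : g ∈ U t)
    (hgY : g ∉ rCore r t ⊔ K) : centralizer ({g} : Set G) ≤ centralizer ({t} : Set G) := by
  haveI : ((rCore r t ⊔ K).subgroupOf (U t)).Normal := normal_subgroupOf_of_le_normalizer E.Y_normal
  -- a prime dividing the order of the image
  obtain ⟨q, hq, hqd⟩ := Nat.exists_prime_and_dvd (fun e : orderOf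
      (QuotientGroup.mk' ((rCore r t ⊔ K).subgroupOf (U t)) ⟨g, hg⟩) = 1 => hgY
    (mem_subgroupOf.1 ((QuotientGroup.eq_one_iff _).1 (orderOf_eq_one_iff.1 e))))
  haveI := Fact.mk hq
  have hqm : q ∣ E.topIndex := hqd.trans (orderOf_dvd_natCard _)
  have hqr : q ≠ r := fun e => E.r_not_dvd_m (e ▸ hqm)
  have hqo : q ∣ orderOf g := by
    have h1 := hqd.trans (orderOf_map_dvd (QuotientGroup.mk' ((rCore r t ⊔ K).subgroupOf (U t))) ⟨g, hg⟩)
    rwa [Subgroup.orderOf_mk] at h1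
  obtain ⟨a, l, hl, hgo⟩ := Nat.exists_eq_pow_mul_and_not_dvd (orderOf_pos g).ne' q hq.ne_one
  have ha : a ≠ 0 := fun e => hl (by rw [hgo, e, pow_zero, one_mul] at hqo; exact hqo)
  set h := g ^ l with hh
  have hcg : centralizer ({g} : Set G) ≤ centralizer ({h} : Set G) := fun c hc =>
    mem_centralizer_of_commute ((commute_of_mem_centralizer hc).pow_right l)
  refine hcg.trans ?_
  have hhY : h ∉ rCore r t ⊔ K := by
    intro hY
    have h1 : QuotientGroup.mk' ((rCore r t ⊔ K).subgroupOf (U t)) ⟨g, hg⟩ ^ l = 1 := by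
      rw [← map_pow, QuotientGroup.mk'_apply, QuotientGroup.eq_one_iff]
      exact mem_subgroupOf.2 (by rw [coe_pow]; exact hY)
    exact hl (hqd.trans (orderOf_dvd_of_pow_eq_one h1))
  have hho : orderOf h = q ^ a := by
    have hl0 : l ≠ 0 := fun e => hl (e ▸ dvd_zero q)
    rw [hh, orderOf_pow_of_dvd hl0 (hgo ▸ dvd_mul_left _ _), hgo, Nat.mul_div_cancel _ (Nat.pos_of_ne_zero hl0)]
  have hhU : h ∈ U t := pow_mem hg _
  set h₀ := h ^ q ^ (a - 1) with hh₀
  have hh₀o : orderOf h₀ = q := by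
    rw [hh₀, orderOf_pow_of_dvd (pow_ne_zero _ hq.ne_zero) (hho ▸ pow_dvd_pow q (Nat.sub_le a 1)), hho,
      Nat.pow_div (Nat.sub_le a 1) hq.pos, show a - (a - 1) = 1 by omega, pow_one]
  have hch : centralizer ({h} : Set G) ≤ centralizer ({h₀} : Set G) := fun c hc =>
    mem_centralizer_of_commute ((commute_of_mem_centralizer hc).pow_right _)
  refine hch.trans ?_
  have hh₀1 : h₀ ≠ 1 := fun e => hq.ne_one (by rw [← hh₀o, e, orderOf_one])
  by_cases h₀Y : h₀ ∈ rCore r t ⊔ K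
  · exact E.centralizer_K_le hC hB
      (E.mem_K_of_coprime h₀Y (by rw [hh₀o]; exact (Nat.coprime_primes hq E.prime).2 hqr)) hh₀1
  -- move it into a four-group invariant Sylow subgroup
  have htU : t ∈ normalizer (U t : Set G) := E.C_le_normalizer_U (mem_centralizer_of_commute (Commute.refl t))
  obtain ⟨R, hRp, -, hRU, htR, huR, hidx, -⟩ := exists_sylow_four E.ht E.frame.hu₁ E.frame.rot₁.comm
    (σ.odd_U E.ht) htU (E.C_le_normalizer_U E.u₁_C) q (R₀ := ⊥) (IsPGroup.of_bot) bot_le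
    (mem_normalizer_of_conj fun b hb => by rw [mem_bot] at hb ⊢; rw [hb]; group)
    (mem_normalizer_of_conj fun b hb => by rw [mem_bot] at hb ⊢; rw [hb]; group)
  have hq2 : q ≠ 2 := fun e => by
    subst e
    exact (Nat.not_even_iff_odd.2 E.odd_m) (even_iff_two_dvd.2 hqm)
  let P : Sylow q (U t) := (hRp.comap_of_injective (U t).subtype (U t).subtype_injective).toSylow hidx
  obtain ⟨c, hc⟩ := CfsgLib.TwoGroups.exists_conj_le_sylow P
    (IsPGroup.of_card (n := 1) (by
      rw [Nat.card_zpowers, Subgroup.orderOf_mk, hh₀o, pow_one]) :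
      IsPGroup q (zpowers (⟨h₀, pow_mem hhU _⟩ : U t)))
  set z := (c : G) * h₀ * (c : G)⁻¹ with hz
  have hzR : z ∈ R := hc (CfsgLib.TwoGroups.conj_mem_map_conj (mem_zpowers (⟨h₀, pow_mem hhU _⟩ : U t)))
  have hRo : ∀ b ∈ R, IsRElt q b ∧ Odd (orderOf b) := fun b hb =>
    ⟨isRElt_of_mem hRp hb, E.U_odd (hRU hb)⟩
  have hinv := CfsgLib.PGroups.BSW.inverts_of_fpf R E.u₁_sq
    (fun b hb => (mem_normalizer_iff.1 huR b).1 hb) (fun b hb hfix =>
      E.eq_one_of_four_fixed hq hqr (hRo b hb).1 (hRo b hb).2 (E.U_mem (hRU hb))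
        (Or.inl (commute_of_conj_eq hfix).symm)) z hzR
  have hzY : z ∉ rCore r t ⊔ K := fun hzY => h₀Y (by
    have := E.conj_mem_Y (inv_mem (E.U_C c.2)) hzY
    rw [hz] at this
    simpa [mul_assoc] using this)
  have hzo : orderOf z = q := by rw [hz, orderOf_conj]; exact hh₀o
  intro w hw
  have hw' := E.centralizer_inverted_le hC hB (hRU hzR) hzY (hzo ▸ hq) (hzo ▸ hqr) hinv
    (mem_centralizer_of_commute (x := (c : G) * w * (c : G)⁻¹)
      ((commute_of_mem_centralizer hw).map (MulAut.conj (c : G)).toMonoidHom))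
  have hct : c.1 ∈ centralizer ({t} : Set G) := E.U_C c.2
  have := mul_mem (mul_mem (inv_mem hct) hw') hct
  simpa [mul_assoc] using this

/-- Every non-trivial element of `O(C(t))` of order prime to `r` has centraliser in `C(t)`. -/
theorem centralizer_coprime_le (hC : CoreFixed G) (hB : OneComponent G) {z : G} (hz : z ∈ U t)
    (hz1 : z ≠ 1) (hc : (orderOf z).Coprime r) :
    centralizer ({z} : Set G) ≤ centralizer ({t} : Set G) := by
  by_cases hY : z ∈ rCore r t ⊔ K
  · exact E.centralizer_K_le hC hB (E.mem_K_of_coprime hY hc) hz1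
  · exact E.centralizer_top_le hC hB hz hY

end CfsgLib.GW.Dne.Exceptional
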