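import Cfsg.Agent.Lib.GW.Dne.Exceptional.Coprime

/-!
# Subgroups with an isolated involution
-/

set_option autoImplicit false

namespace CfsgLib.GW.Dne.Exc

open Subgroup CfsgLib.GW
open CfsgLib.Signalizer (involution_sq involution_inv involution_ne_one orderOf_conj)

universe u

variable {G : Type u} [Group G] [Finite G]

theorem mem_normalizer_sup {H K : Subgroup G} {g : G} (h1 : g ∈ normalizer (H : Set G))
    (h2 : g ∈ normalizer (K : Set G)) : g ∈ normalizer ((H ⊔ K : Subgroup G) : Set G) := by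
  rw [← CfsgLib.Transfer.map_conj_eq_self_iff, Subgroup.map_sup,
    CfsgLib.Transfer.map_conj_eq_self_iff.2 h1, CfsgLib.Transfer.map_conj_eq_self_iff.2 h2]

/-- An element fixed or inverted by `g` spans a subgroup normalised by `g`. -/
theorem mem_normalizer_zpowers {a g : G} (h : g * a * g⁻¹ = a ∨ g * a * g⁻¹ = a⁻¹) :
    g ∈ normalizer (zpowers a : Set G) := by
  refine mem_normalizer_of_conj fun b hb => ?_
  obtain ⟨k, rfl⟩ := hb
  rw [← conj_zpow]
  refine zpow_mem ?_ k
  rcases h with e | e <;> rw [e]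
  exacts [mem_zpowers a, inv_mem (mem_zpowers a)]

/-- An element fixed or inverted by `g` has a centraliser normalised by `g`. -/
theorem mem_normalizer_centralizer {a g : G} (h : g * a * g⁻¹ = a ∨ g * a * g⁻¹ = a⁻¹) :
    g ∈ normalizer (centralizer ({a} : Set G) : Set G) := by
  refine mem_normalizer_of_conj fun b hb => mem_centralizer_of_commute ?_
  have h1 := (commute_of_mem_centralizer hb).map (MulAut.conj g).toMonoidHom
  simp only [MulEquiv.coe_toMonoidHom, MulAut.conj_apply] at h1
  rcases h with e | e <;> rw [e] at h1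
  exacts [h1, by simpa using h1.inv_right]

/-- An isolated involution is central in a Sylow 2-subgroup of `X` containing it. -/
theorem central_of_unique {X : Subgroup G} {i : G} (hi : i ∈ X) (hio : orderOf i = 2)
    (huniq : ∀ j ∈ X, orderOf j = 2 → Commute j i → j = i) :
    ∃ P : Sylow 2 X, (⟨i, hi⟩ : X) ∈ (P : Subgroup X) ∧
      ∀ p ∈ (P : Subgroup X), Commute (p : G) i := by
  classical
  have : Fact (Nat.Prime 2) := ⟨Nat.prime_two⟩
  have hz : IsPGroup 2 (zpowers (⟨i, hi⟩ : X)) :=
    IsPGroup.of_card (n := 1) (by rw [Nat.card_zpowers, pow_one, Subgroup.orderOf_mk]; exact hio)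
  obtain ⟨P, hP⟩ := hz.exists_le_sylow
  have hiP : (⟨i, hi⟩ : X) ∈ (P : Subgroup X) := hP (mem_zpowers _)
  refine ⟨P, hiP, ?_⟩
  obtain ⟨z, hzP, hzo, hzc⟩ : ∃ z ∈ (P : Subgroup X), orderOf z = 2 ∧
      ∀ q ∈ (P : Subgroup X), q * z = z * q := by
    haveI : Nontrivial (P : Subgroup X) := ⟨⟨⟨_, hiP⟩, 1, fun e =>
      involution_ne_one hio (congrArg (fun w : (P : Subgroup X) => ((w : X) : G)) e)⟩⟩
    haveI := P.2.center_nontrivial
    obtain ⟨k, hk, hcard⟩ := (P.2.to_subgroup (center (P : Subgroup X))).nontrivial_iff_card.1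
      inferInstance
    obtain ⟨z, hz⟩ := exists_prime_orderOf_dvd_card' (G := center (P : Subgroup X)) 2
      (hcard ▸ dvd_pow_self 2 hk.ne')
    exact ⟨z, (z : (P : Subgroup X)).2, by rw [Subgroup.orderOf_coe, Subgroup.orderOf_coe, hz],
      fun q hq => congrArg Subtype.val (mem_center_iff.1 z.2 ⟨q, hq⟩)⟩
  have hzi : (z : G) = i := huniq z z.2 (by rw [Subgroup.orderOf_coe]; exact hzo)
    (congrArg Subtype.val (hzc ⟨i, hi⟩ hiP)).symm
  intro p hp
  rw [← hzi]
  exact congrArg Subtype.val (hzc p hp)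

end CfsgLib.GW.Dne.Exc

namespace CfsgLib.GW.Dne.Hyp

open Subgroup CfsgLib.GW
open CfsgLib.Signalizer (involution_sq involution_inv involution_ne_one orderOf_conj)

universe u

variable {G : Type u} [Group G] [Finite G] (σ : Hyp G)

include σ in
/-- A subgroup with an isolated involution has a normal 2-complement. -/
theorem complement_of_unique {X : Subgroup G} {i : G} (hi : i ∈ X) (hio : orderOf i = 2)
    (huniq : ∀ j ∈ X, orderOf j = 2 → Commute j i → j = i) : Cfsg.HasNormalPComplement 2 X := by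
  classical
  have : Fact (Nat.Prime 2) := ⟨Nat.prime_two⟩
  by_contra hX
  obtain ⟨a, b, g, ha, hb, -, hR⟩ :=
    CfsgLib.GW.exists_rot σ.inj σ.range σ.pos X hX
  obtain ⟨P, -, hPc⟩ := Exc.central_of_unique hi hio huniq
  have hT : IsPGroup 2 ((four a b).subgroupOf X) :=
    (isPGroup_four hR.ht hR.hu hR.comm).comap_of_injective _ X.subtype_injective
  obtain ⟨c, hc⟩ := CfsgLib.TwoGroups.exists_conj_le_sylow P hT
  have key : ∀ (v : G) (hv : v ∈ X), orderOf v = 2 → v ∈ four a b → (c : G) * v * (c : G)⁻¹ = i := by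
    intro v hv hvo hvT
    have hmem : c * ⟨v, hv⟩ * c⁻¹ ∈ (P : Subgroup X) :=
      hc (CfsgLib.TwoGroups.conj_mem_map_conj (show (⟨v, hv⟩ : X) ∈ (four a b).subgroupOf X from hvT))
    exact huniq _ (mul_mem (mul_mem c.2 hv) (inv_mem c.2)) (by rw [orderOf_conj]; exact hvo) (hPc _ hmem)
  exact hR.ne (mul_left_cancel (mul_right_cancel ((key a ha hR.ht (subset_closure (by simp))).trans
    (key b hb hR.hu (subset_closure (by simp))).symm)))

include σ in
/-- If the odd part centralises the isolated involution, so does the whole subgroup. -/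
theorem le_centralizer_of_unique {X : Subgroup G} {i : G} (hi : i ∈ X) (hio : orderOf i = 2)
    (huniq : ∀ j ∈ X, orderOf j = 2 → Commute j i → j = i)
    (h : ∀ a ∈ oddPart X, Commute a i) : X ≤ centralizer ({i} : Set G) := by
  classical
  have : Fact (Nat.Prime 2) := ⟨Nat.prime_two⟩
  have hcX := σ.complement_of_unique hi hio huniq
  obtain ⟨P, -, hPc⟩ := Exc.central_of_unique hi hio huniq
  obtain ⟨N, hN, hcop, hP⟩ := CfsgLib.Transfer.hasNormalPComplement_iff_exists.1 hcX
  have htop : (P : Subgroup X) ⊔ N = ⊤ := by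
    apply index_eq_one.1
    have h1 : ((P : Subgroup X) ⊔ N).index ∣ (P : Subgroup X).index := index_dvd_of_le le_sup_left
    have h2 : ((P : Subgroup X) ⊔ N).index ∣ N.index := index_dvd_of_le le_sup_right
    have h3 : (P : Subgroup X).index.Coprime N.index := by
      obtain ⟨k, hk⟩ := IsPGroup.iff_card.1 hP
      rw [← Subgroup.index_eq_card] at hk
      rw [hk]
      exact ((Nat.Prime.coprime_iff_not_dvd Nat.prime_two).2 P.not_dvd_index).symm.pow_right k
    exact Nat.eq_one_of_dvd_coprimes h3 h1 h2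
  intro c hcm
  obtain ⟨p, hp, a, ha, e⟩ := mem_sup_of_normal_right.1 (htop ▸ mem_top _ :
    (⟨c, hcm⟩ : X) ∈ (P : Subgroup X) ⊔ N)
  rw [show c = (p : G) * a from (congrArg Subtype.val e).symm]
  refine mul_mem (mem_centralizer_of_commute (hPc p hp)) (mem_centralizer_of_commute (h a ?_))
  refine (mem_oddPart hcX).2 ⟨a.2, ?_⟩
  rw [Subgroup.orderOf_coe]
  exact (Nat.coprime_two_right.1 hcop).of_dvd_nat (orderOf_dvd_natCard N ha)

end CfsgLib.GW.Dne.Hyp
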