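import Cfsg.Agent.Lib.GW.Dne.Exceptional.Orders
import Cfsg.Agent.Lib.GW.Dne.Exceptional.Unique

/-!
# The exceptional configuration: `C(x) ≤ C(t)`
-/

set_option autoImplicit false

namespace CfsgLib.GW.Dne.Exceptional

open Subgroup CfsgLib.GW CfsgLib.GW.Dne.Exc
open CfsgLib.Signalizer (involution_sq involution_inv involution_ne_one orderOf_conj)

universe u

variable {G : Type u} [Group G] [Finite G] {σ : Hyp G} {t u₁ u₂ g₁ g₂ : G} {r : ℕ} {x y : G}
  {K : Subgroup G} (E : Exceptional σ t u₁ u₂ g₁ g₂ r x y K)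

include E

theorem not_cyclic_Q : ¬ IsCyclic (rCore r t) := by
  intro hc
  obtain ⟨a, ha, b, hb, hab⟩ := E.nonab
  haveI := hc
  exact hab (congrArg Subtype.val
    (IsCyclic.commGroup.mul_comm (⟨a, ha⟩ : rCore r t) (⟨b, hb⟩ : rCore r t)))

theorem big : Big G r := Or.inl ⟨t, rCore r t, E.ht, E.Q_le, E.isP_Q, E.not_cyclic_Q⟩

theorem cfixed (hC : CoreFixed G) : CFixed G r := hC r E.prime E.big

theorem ne_prod : t * u₁ ≠ t := fun e => involution_ne_one E.frame.hu₁ (mul_eq_left.1 e)

theorem prod_inv_x : t * u₁ * x * (t * u₁)⁻¹ = x⁻¹ := by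
  rw [show t * u₁ * x * (t * u₁)⁻¹ = t * (u₁ * x * u₁⁻¹) * t⁻¹ by group, E.x_inv₁,
    conj_eq_of_commute (E.U_mem E.x_U).symm.inv_right]

/-- An element of odd order of `C(x)` fixed by another involution of the four-group fixes `t`. -/
theorem commute_t_of_fixed (hC : CoreFixed G) (hB : OneComponent G) {v g : G} (hv : Rot t v g)
    (hvx : v * x * v⁻¹ = x⁻¹) (hD : D t v = zpowers y) {a : G} (hax : Commute a x)
    (hao : Odd (orderOf a)) (hav : Commute a v) : Commute a t := by
  haveI := E.fact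
  by_contra hat
  set A₀ := centralizer ({x} : Set G) ⊓ centralizer ({v} : Set G) with hA₀
  -- an element of prime order inverted by `t`
  obtain ⟨i, hi, hit, hi1⟩ : ∃ i : G, (Commute i x ∧ Commute i v ∧ Odd (orderOf i)) ∧
      t * i * t⁻¹ = i⁻¹ ∧ i ≠ 1 := by
    set d := a⁻¹ * (t * a * t⁻¹) with hd
    have hta : Commute (t * a * t⁻¹) v ∧ Commute (t * a * t⁻¹) x :=
      ⟨by simpa [conj_eq_of_commute hv.comm] using hav.map (MulAut.conj t).toMonoidHom,
        by simpa [conj_eq_of_commute (E.U_mem E.x_U).symm] using hax.map (MulAut.conj t).toMonoidHom⟩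
    -- `d` has odd order in the abstract group generated by odd elements of `C(x)`
    have huniq : ∀ j ∈ centralizer ({x} : Set G), orderOf j = 2 → Commute j t → j = t := by
      intro j hj hjo hjt
      by_contra hne
      have h1 := E.invol_inv_x hjt (involution_sq hjo) (involution_ne_one hjo) hne
      rw [conj_eq_of_commute (commute_of_mem_centralizer hj)] at h1
      exact E.x_ne (eq_one_of_inv_self (E.U_odd E.x_U) h1.symm)
    have hcX := σ.complement_of_unique (mem_centralizer_of_commute (E.U_mem E.x_U).symm) E.ht huniq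
    set A := oddPart (centralizer ({x} : Set G)) with hA
    have haA : a ∈ A := (mem_oddPart hcX).2 ⟨mem_centralizer_of_commute hax, hao⟩
    have htN : t ∈ normalizer ((A ⊓ centralizer ({v} : Set G) : Subgroup G) : Set G) :=
      CfsgLib.Transfer.normalizer_le_normalizer_inf
        ⟨normalizer_le_oddPart hcX (mem_normalizer_centralizer (Or.inl (conj_eq_of_commute (E.U_mem E.x_U).symm))),
          mem_normalizer_centralizer (Or.inl (conj_eq_of_commute hv.comm))⟩
    have hAo : Odd (Nat.card (A ⊓ centralizer ({v} : Set G) : Subgroup G)) :=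
      (odd_oddPart hcX).of_dvd_nat (card_dvd_of_le inf_le_left)
    obtain ⟨c, -, i, hi, hct, hit, e, -⟩ := exists_fixed_inverted hAo E.t_sq htN
      (q := a) ⟨haA, mem_centralizer_of_commute hav⟩
    refine ⟨i, ⟨commute_of_mem_centralizer (oddPart_le _ hi.1), commute_of_mem_centralizer hi.2,
      odd_orderOf_of_mem hAo hi⟩, hit, fun h1 => hat ?_⟩
    rw [e, h1, mul_one]; exact hct
  obtain ⟨p, hp, hpd⟩ := Nat.exists_prime_and_dvd (fun e => hi1 (orderOf_eq_one_iff.1 e))
  set a₀ := i ^ (orderOf i / p) with ha₀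
  have ha₀p : orderOf a₀ = p := orderOf_pow_orderOf_div (orderOf_pos i).ne' hpd
  have ha₀1 : a₀ ≠ 1 := fun e => hp.ne_one (by rw [← ha₀p, e, orderOf_one])
  have ha₀x : Commute a₀ x := hi.1.pow_left _
  have ha₀v : Commute a₀ v := hi.2.1.pow_left _
  have ha₀o : Odd (orderOf a₀) := hi.2.2.of_dvd_nat (orderOf_pow_dvd _)
  have ha₀t : t * a₀ * t⁻¹ = a₀⁻¹ := by rw [ha₀, ← conj_pow, hit, inv_pow]
  -- transport to `t`
  have hback : ∀ {c : G}, Commute c v → Commute (g⁻¹ * c * g) t := by
    intro c hc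
    have := hc.map (MulAut.conj g⁻¹).toMonoidHom
    simp only [MulEquiv.coe_toMonoidHom, MulAut.conj_apply, inv_inv] at this
    rwa [show g⁻¹ * v * g = t by rw [← hv.conj1]; group] at this
  have hoback : ∀ c : G, orderOf (g⁻¹ * c * g) = orderOf c := fun c => by
    have := orderOf_conj g⁻¹ c
    rwa [inv_inv] at this
  have hne : ∀ {c : G}, c ≠ v → g⁻¹ * c * g ≠ t := fun hc e => hc (by rw [← hv.conj1, ← e]; group)
  set b := g⁻¹ * a₀ * g with hb
  have hbU : b ∈ U t := (σ.mem_U E.ht).2 ⟨hback ha₀v, by rw [hb, hoback]; exact ha₀o⟩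
  set tt := g⁻¹ * t * g with htt
  have htto : orderOf tt = 2 := by rw [htt, hoback]; exact E.ht
  have httt : Commute tt t := hback hv.comm
  have httne : tt ≠ t := hne hv.ne
  have httb : tt * b * tt⁻¹ = b⁻¹ := by
    rw [htt, hb, show g⁻¹ * t * g * (g⁻¹ * a₀ * g) * (g⁻¹ * t * g)⁻¹ = g⁻¹ * (t * a₀ * t⁻¹) * g by group,
      ha₀t]
    group
  have huniq : ∀ j ∈ centralizer ({a₀} : Set G), orderOf j = 2 → Commute j v → j = v := by
    intro j hj hjo hjv
    by_contra hjne
    have hjo' : orderOf (g⁻¹ * j * g) = 2 := by rw [hoback]; exact hjo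
    have hfix : Commute b (g⁻¹ * j * g) := by
      have := ((commute_of_mem_centralizer hj).symm).map (MulAut.conj g⁻¹).toMonoidHom
      simpa [hb] using this
    have h1 := E.no_fix_inv (hback hjv) (involution_sq hjo') (involution_ne_one hjo') (hne hjne)
      httt (involution_sq htto) (involution_ne_one htto) httne hbU hfix httb
    rw [← orderOf_eq_one_iff, hb, hoback, ha₀p] at h1
    exact hp.ne_one h1
  have hcZ := σ.complement_of_unique (mem_centralizer_of_commute ha₀v.symm) hv.hu huniq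
  set W := oddPart (centralizer ({a₀} : Set G)) with hW
  have htW : t ∈ normalizer (W : Set G) :=
    normalizer_le_oddPart hcZ (mem_normalizer_centralizer (Or.inr ha₀t))
  have hvW : v ∈ normalizer (W : Set G) :=
    normalizer_le_oddPart hcZ (mem_normalizer_centralizer (Or.inl (conj_eq_of_commute ha₀v.symm)))
  have hxW : x ∈ W := (mem_oddPart hcZ).2 ⟨mem_centralizer_of_commute ha₀x.symm, E.U_odd E.x_U⟩
  set x' := g * x * g⁻¹ with hx'
  have hx'W : x' ∈ W := by
    refine (mem_oddPart hcZ).2 ⟨mem_centralizer_of_commute ?_, ?_⟩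
    · have := ((E.x_central b hbU).symm).map (MulAut.conj g).toMonoidHom
      simp only [MulEquiv.coe_toMonoidHom, MulAut.conj_apply] at this
      rwa [show g * b * g⁻¹ = a₀ by rw [hb]; group] at this
    · rw [hx', orderOf_conj]; exact E.U_odd E.x_U
  have hx'v : Commute x' v := by
    rw [← hv.conj1]; exact (E.U_mem E.x_U).map (MulAut.conj g).toMonoidHom
  have hx't : t * x' * t⁻¹ = x'⁻¹ := by
    have h1 := E.invol_inv_x httt (involution_sq htto) (involution_ne_one htto) httne
    rw [hx', show t * (g * x * g⁻¹) * t⁻¹ = g * (tt * x * tt⁻¹) * g⁻¹ by rw [htt]; group, h1]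
    group
  -- the invariant Sylow subgroup
  set R₀ := zpowers x ⊔ (W ⊓ zpowers y) with hR₀
  have hR₀Q : R₀ ≤ rCore r t :=
    sup_le (zpowers_le.2 E.x_mem) (inf_le_right.trans (zpowers_le.2 E.y_mem))
  have htR₀ : t ∈ normalizer (R₀ : Set G) := mem_normalizer_sup
    (mem_normalizer_zpowers (Or.inl (conj_eq_of_commute (E.U_mem E.x_U).symm)))
    (CfsgLib.Transfer.normalizer_le_normalizer_inf
      ⟨htW, mem_normalizer_zpowers (Or.inl (conj_eq_of_commute (E.U_mem E.y_U).symm))⟩)
  have hyv : Commute y v := Hyp.D_commute (hD.symm ▸ mem_zpowers y : y ∈ D t v)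
  have hvR₀ : v ∈ normalizer (R₀ : Set G) := mem_normalizer_sup
    (mem_normalizer_zpowers (Or.inr hvx))
    (CfsgLib.Transfer.normalizer_le_normalizer_inf
      ⟨hvW, mem_normalizer_zpowers (Or.inl (conj_eq_of_commute hyv.symm))⟩)
  obtain ⟨R, hRp, hR₀R, -, htR, hvR, -, hmax⟩ := exists_sylow_four E.ht hv.hu hv.comm
    (odd_oddPart hcZ) htW hvW r (E.isP_Q.to_le hR₀Q) (sup_le (zpowers_le.2 hxW) inf_le_left) htR₀ hvR₀
  have hx'R : x' ∈ R := by
    refine hmax (fun c hc hct hcv => le_normalizer (hR₀R (mem_sup_right ⟨hc, ?_⟩)))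
      (zpowers x') (IsPGroup.of_card (n := 1) ?_) (zpowers_le.2 hx'W)
      (mem_normalizer_zpowers (Or.inr hx't))
      (mem_normalizer_zpowers (Or.inl (conj_eq_of_commute hx'v.symm))) (mem_zpowers x')
    · rw [← hD]
      exact (σ.mem_D E.ht).2 ⟨hct, hcv, odd_orderOf_of_mem (odd_oddPart hcZ) hc⟩
    · rw [Nat.card_zpowers, hx', orderOf_conj, E.x_order, pow_one]
  rcases hB r R t v g E.prime E.r_ne_two (E.cfixed hC) hv hRp htR hvR with h | h
  · have := conj_eq_of_commute (h x (hR₀R (mem_sup_left (mem_zpowers x))) (E.U_mem E.x_U)).symm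
    rw [hvx] at this
    exact E.x_ne (eq_one_of_inv_self (E.U_odd E.x_U) this)
  · have := conj_eq_of_commute (h x' hx'R hx'v).symm
    rw [hx't] at this
    refine E.x_ne (orderOf_eq_one_iff.1 ?_)
    rw [← orderOf_conj g x, ← hx']
    exact orderOf_eq_one_iff.2 (eq_one_of_inv_self (by rw [hx', orderOf_conj]; exact E.U_odd E.x_U) this)

/-- `t` is the only involution of `C(x)` commuting with `t`. -/
theorem unique_x : ∀ j ∈ centralizer ({x} : Set G), orderOf j = 2 → Commute j t → j = t := by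
  intro j hj hjo hjt
  by_contra hne
  have h1 := E.invol_inv_x hjt (involution_sq hjo) (involution_ne_one hjo) hne
  rw [conj_eq_of_commute (commute_of_mem_centralizer hj)] at h1
  exact E.x_ne (eq_one_of_inv_self (E.U_odd E.x_U) h1.symm)

/-- Step 1. -/
theorem centralizer_x_le (hC : CoreFixed G) (hB : OneComponent G) :
    centralizer ({x} : Set G) ≤ centralizer ({t} : Set G) := by
  have htX : t ∈ centralizer ({x} : Set G) := mem_centralizer_of_commute (E.U_mem E.x_U).symm
  have hcX := σ.complement_of_unique htX E.ht E.unique_x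
  refine σ.le_centralizer_of_unique htX E.ht E.unique_x fun a ha => ?_
  have hax : ∀ b ∈ oddPart (centralizer ({x} : Set G)), Commute b x ∧ Odd (orderOf b) := fun b hb =>
    ⟨commute_of_mem_centralizer (oddPart_le _ hb), ((mem_oddPart hcX).1 hb).2⟩
  refine commute_of_mem_centralizer (le_of_four_fixed E.ht E.frame.hu₁ E.frame.rot₁.ne E.frame.rot₁.comm
    (odd_oddPart hcX) (normalizer_le_oddPart hcX (le_normalizer htX))
    (normalizer_le_oddPart hcX (mem_normalizer_centralizer (Or.inr E.x_inv₁)))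
    (fun b _ h => mem_centralizer_of_commute h) (fun b hb h => mem_centralizer_of_commute ?_)
    (fun b hb h => mem_centralizer_of_commute ?_) ha)
  · exact E.commute_t_of_fixed hC hB E.frame.rot₁ E.x_inv₁ E.D₁ (hax b hb).1 (hax b hb).2 h
  · exact E.commute_t_of_fixed hC hB (swap_rot E.frame.rot₁) E.prod_inv_x
      (by rw [σ.D_mul E.ht, E.D₁]) (hax b hb).1 (hax b hb).2 h

/-- `N(⟨x⟩) ≤ C(t)`. -/
theorem commute_t_of_normalizes_x (hC : CoreFixed G) (hB : OneComponent G) {c : G}
    (hc : c⁻¹ * x * c ∈ zpowers x) : Commute c t := by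
  obtain ⟨k, hk⟩ := hc
  have h1 : Commute (c⁻¹ * x * c) t := (show x ^ k = c⁻¹ * x * c from hk) ▸ (E.U_mem E.x_U).zpow_left k
  have h2 := h1.map (MulAut.conj c).toMonoidHom
  simp only [MulEquiv.coe_toMonoidHom, MulAut.conj_apply] at h2
  rw [show c * (c⁻¹ * x * c) * c⁻¹ = x by group] at h2
  have h3 : c * t * c⁻¹ ∈ centralizer ({x} : Set G) := mem_centralizer_of_commute h2.symm
  exact commute_of_conj_eq (E.unique_x _ h3 (by rw [orderOf_conj]; exact E.ht)
    (commute_of_mem_centralizer (E.centralizer_x_le hC hB h3)))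

end CfsgLib.GW.Dne.Exceptional
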