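import Cfsg.Agent.Lib.GW.Dne.Exceptional.Induced
import Cfsg.Agent.Lib.Char.Exceptional.D8Centralizer
import Cfsg.Agent.Lib.Blocks.DihedralBlock.Section
import Cfsg.Agent.Lib.ZStar.PrincipalBlock

/-!
# The exceptional configuration: the equation from the characters
-/

set_option autoImplicit false

open scoped ComplexConjugate

namespace CfsgLib.GW.Dne.Exceptional

open Subgroup CfsgLib.GW CfsgLib.GW.Dne.Exc CfsgLib.Char CfsgLib.Char.Exceptional
open CfsgLib.Signalizer (involution_sq involution_inv involution_ne_one orderOf_conj)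
open Cfsg (classInner indFun IsIrrCharacter IsPModular principalBlock AlgInt)

universe u

variable {G : Type u} [Group G] [Fintype G] {σ : Hyp G} {t u₁ u₂ g₁ g₂ : G} {r : ℕ} {x y : G}
  {K : Subgroup G} (E : Exceptional σ t u₁ u₂ g₁ g₂ r x y K)

include E

/-- `θ` as a linear character of `O(C(t)) ⟨u₁ u₂⟩` inside `C(t)`. -/
theorem exists_thetaC (l : U t →* ℂˣ) :
    ∃ θ : E.C0.subgroupOf (centralizer ({t} : Set G)) →* ℂˣ,
      ∀ a, (θ a : ℂ) = E.theta l ((a : centralizer ({t} : Set G)) : G) :=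
  ⟨(E.thetaHom l).comp (subgroupOfEquivOfLe E.C0_le).toMonoidHom, fun a => by
    rw [MonoidHom.comp_apply, E.thetaHom_eq l]; rfl⟩

/-- The class function has norm three and one trivial constituent. -/
theorem special_norm [Fintype (centralizer ({t} : Set G))] {l : U t →* ℂˣ}
    (hl : ∀ h : U t, (h : G) ∈ rCore r t ⊔ K → l h = 1) (hne : ∃ h : U t, l h ≠ 1) :
    classInner (E.special l) (E.special l) = 3 ∧ classInner (E.special l) (fun _ => 1) = 1 ∧
      Cfsg.IsGeneralizedCharacter (centralizer ({t} : Set G)) (E.special l) ∧ E.special l 1 = 0 := by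
  classical
  haveI := Fintype.ofFinite (E.C0.subgroupOf (centralizer ({t} : Set G)))
  set C0' := E.C0.subgroupOf (centralizer ({t} : Set G)) with hC0'
  obtain ⟨θ, hθ⟩ := E.exists_thetaC l
  have hlin : IsIrrCharacter C0' (fun a => (θ a : ℂ)) := isIrrCharacter_linear θ
  have hlinv : IsIrrCharacter C0' (fun a => (((θ a)⁻¹ : ℂˣ) : ℂ)) :=
    isIrrCharacter_linear (invMonoidHom.comp θ)
  obtain ⟨h, hh⟩ := hne
  have hmem : (h : G) ∈ E.C0 := ⟨h, h.2, 0, by simp⟩
  set a₀ : C0' := ⟨⟨(h : G), E.C0_le hmem⟩, mem_subgroupOf.2 hmem⟩ with ha₀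
  have ha₀θ : (θ a₀ : ℂ) = (l h : ℂ) := by
    rw [hθ]
    show E.theta l (h : G) = _
    conv_lhs => rw [show (h : G) = (h : G) * (u₁ * u₂) ^ (0 : ℤ) by rw [zpow_zero, mul_one]]
    rw [E.theta_eq l h.2]
  have ne1 : (fun _ : C0' => (1 : ℂ)) ≠ fun a => (θ a : ℂ) := fun e => by
    have := congrFun e a₀
    rw [ha₀θ] at this
    exact hh (Units.ext this.symm)
  have ne2 : (fun _ : C0' => (1 : ℂ)) ≠ fun a => (((θ a)⁻¹ : ℂˣ) : ℂ) := fun e => by
    have := congrFun e a₀
    rw [Units.val_inv_eq_inv_val, ha₀θ, eq_comm, inv_eq_one] at this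
    exact hh (Units.ext this)
  have ne3 : (fun a : C0' => (θ a : ℂ)) ≠ fun a => (((θ a)⁻¹ : ℂˣ) : ℂ) := fun e => by
    have := congrFun e a₀
    rw [Units.val_inv_eq_inv_val, ha₀θ] at this
    exact E.l_sq_ne hh (Units.ext (by rw [Units.val_inv_eq_inv_val]; exact this.symm))
  have hspec : E.special l = indFun C0'
      ((fun _ : C0' => (1 : ℂ)) - fun a : C0' => (θ a : ℂ)) := by
    rw [E.special_eq hl]
    congr 1
    funext a
    simp only [Pi.sub_apply, hθ]
  have hres : (fun a : C0' => E.special l (a : centralizer ({t} : Set G))) =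
      ((fun _ => (1 : ℂ)) - (fun a => (θ a : ℂ))) + ((fun _ => (1 : ℂ)) - fun a => (((θ a)⁻¹ : ℂˣ) : ℂ)) := by
    funext a
    simp only [Pi.add_apply, Pi.sub_apply, Units.val_inv_eq_inv_val, hθ, special]
    rw [if_pos (mem_subgroupOf.1 a.2)]
    ring
  have hcl : Cfsg.IsClassFunction _ (E.special l) := hspec ▸ isClassFunction_indFun _ _
  refine ⟨?_, ?_, hspec ▸ CfsgLib.Char.Exceptional.IsGen.indFun C0' (CfsgLib.Char.Exceptional.IsGen.sub CfsgLib.Char.Exceptional.isGen_one (CfsgLib.Char.Exceptional.IsGen.of_irr hlin)), ?_⟩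
  · nth_rw 1 [hspec]
    rw [frobenius_reciprocity C0' _ hcl, hres, classInner_sub_left, classInner_add_right,
      classInner_sub_right, classInner_sub_right, classInner_add_right, classInner_sub_right,
      classInner_sub_right]
    erw [classInner_self_of_irr isIrrCharacter_one, classInner_self_of_irr hlin,
      classInner_eq_zero_of_irr isIrrCharacter_one hlin ne1,
      classInner_eq_zero_of_irr hlin isIrrCharacter_one ne1.symm,
      classInner_eq_zero_of_irr isIrrCharacter_one hlinv ne2,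
      classInner_eq_zero_of_irr hlin hlinv ne3]
    norm_num
  · rw [hspec, frobenius_reciprocity C0' _ (IsIrr.isClassFunction isIrrCharacter_one), classInner_sub_left]
    erw [classInner_self_of_irr isIrrCharacter_one, classInner_eq_zero_of_irr hlin isIrrCharacter_one ne1.symm]
    norm_num
  · rw [hspec, indFun_apply_one]; simp

/-- The equation `|G : C(t)| (Z - 1)² = 2 N² w² Z (Z + 1)`. -/
theorem exists_Z (hC : CoreFixed G) (hB : OneComponent G) :
    ∃ Z : ℤ, 0 < Z * (Z + 1) ∧ ((centralizer ({t} : Set G)).index : ℤ) * (Z - 1) ^ 2 =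
      2 * ((2 ^ σ.n : ℕ) : ℤ) ^ 2 * ((Nat.card (Inv t u₁) : ℕ) : ℤ) ^ 2 * (Z * (Z + 1)) := by
  classical
  haveI : Fact (Nat.Prime 2) := ⟨Nat.prime_two⟩
  set C := centralizer ({t} : Set G) with hCdef
  haveI := Fintype.ofFinite (U t)
  haveI := Fintype.ofFinite (Cfsg.IrrCharacter G)
  obtain ⟨l, hl, hne⟩ := E.exists_linear
  obtain ⟨hn3, hone, hgen, h01⟩ := E.special_norm hl hne
  set f := E.special l with hf
  have hcl : Cfsg.IsClassFunction C f := CfsgLib.Char.Exceptional.IsGen.isClassFunction hgen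
  have hTI := E.supp_TI hC hB hl
  set F := indFun C f with hF
  have hFgen : Cfsg.IsGeneralizedCharacter G F := CfsgLib.Char.Exceptional.IsGen.indFun C hgen
  have hF3 : classInner F F = 3 := by
    rw [hF, ti_indFun_inner hTI (E.special_supp l) hcl (E.special_supp l), hn3]
  have hFone : classInner F (fun _ => 1) = 1 := by
    rw [hF, frobenius_reciprocity C f (IsIrr.isClassFunction isIrrCharacter_one), hone]
  have hF0 : F 1 = 0 := by rw [hF, indFun_apply_one, h01, mul_zero]
  obtain ⟨a, b, ha, hb, -, -, hab, hFab⟩ := CfsgLib.Char.Exceptional.IsGen.norm_three hFgen hF3 hFone hF0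
  have hFt : ∀ h : U t, 1 + b (t * (h : G)) - a (t * (h : G)) = 2 - (l h : ℂ) - (l h : ℂ)⁻¹ := by
    intro h
    rw [← E.indFun_t hC hB hl hcl h]
    have := congrFun hFab (t * (h : G))
    simp only [Pi.add_apply, Pi.sub_apply] at this
    exact this.symm
  -- the mean over `t O(C(t))`
  have hsum : ∑ h : U t, (2 - (l h : ℂ) - (l h : ℂ)⁻¹) = 2 * (Nat.card (U t) : ℂ) := by
    obtain ⟨h₀, hh₀⟩ := hne
    have e1 : ∑ h : U t, (l h : ℂ) = 0 := sum_hom_units_eq_zero ((Units.coeHom ℂ).comp l)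
      (fun e => hh₀ (Units.ext (DFunLike.congr_fun e h₀)))
    have e2 : ∑ h : U t, ((l h : ℂ))⁻¹ = 0 := by
      have := sum_hom_units_eq_zero ((Units.coeHom ℂ).comp (invMonoidHom.comp l))
        (fun e => hh₀ (by
          have h1 := DFunLike.congr_fun e h₀
          simp only [MonoidHom.comp_apply, Units.coeHom_apply, invMonoidHom_apply, MonoidHom.one_apply,
            Units.val_inv_eq_inv_val, inv_eq_one] at h1
          exact Units.ext h1))
      simpa [Units.val_inv_eq_inv_val] using this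
    rw [Finset.sum_sub_distrib, Finset.sum_sub_distrib, e1, e2, Finset.sum_const, Finset.card_univ,
      Nat.card_eq_fintype_card, nsmul_eq_mul]
    ring
  -- principal block or not
  obtain ⟨M, hM⟩ := CfsgLib.ZStar.exists_isPModular Nat.prime_two
  haveI : M.IsPrime := hM.2.1.isPrime
  have hx2 : ∃ k : ℕ, orderOf t = 2 ^ k := ⟨1, by rw [pow_one]; exact E.ht⟩
  set N := (U t).subgroupOf C with hN
  haveI : N.Normal := normal_subgroupOf_of_le_normalizer E.C_le_normalizer_U
  have hNc : Nat.card N = Nat.card (U t) := Nat.card_congr (subgroupOfEquivOfLe (U_le t)).toEquiv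
  have hN2 : ¬ 2 ∣ Nat.card N := by
    rw [hNc, ← even_iff_two_dvd, Nat.not_even_iff_odd]; exact σ.odd_U E.ht
  have hNidx : N.index = 2 ^ (σ.n + 1) := by
    have h1 := card_mul_index N
    rw [hNc, E.card_C, mul_comm (2 * 2 ^ σ.n) (Nat.card (U t)), ← pow_succ'] at h1
    exact Nat.eq_of_mul_eq_mul_left Nat.card_pos h1
  have hdich : ∀ χ : Cfsg.IrrCharacter G,
      (∀ h : U t, (χ : G → ℂ) (t * (h : G)) = (χ : G → ℂ) t) ∨
        ∑ h : U t, (χ : G → ℂ) (t * (h : G)) = 0 := by
    intro χ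
    by_cases hχ : χ ∈ principalBlock M G
    · exact Or.inl fun h => CfsgLib.Blocks.apply_mul_eq_of_mem_principalBlock hM hx2 hχ hN2
        (v := ⟨(h : G), U_le t h.2⟩) (mem_subgroupOf.2 h.2)
    · right
      have h0 := CfsgLib.Blocks.DihedralBlock.sum_section_eq_zero hM hx2 hN2 hNidx hχ
      rw [← h0]
      exact (Fintype.sum_equiv (subgroupOfEquivOfLe (U_le t)).toEquiv
        (fun v : N => (χ : G → ℂ) (t * (((v : N) : C) : G))) (fun h : U t => (χ : G → ℂ) (t * (h : G)))
        fun _ => rfl).symm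
  have hu0 : (Nat.card (U t) : ℂ) ≠ 0 := Nat.cast_ne_zero.2 Nat.card_pos.ne'
  have hcardU : ((Fintype.card (U t) : ℕ) : ℂ) = (Nat.card (U t) : ℂ) := by rw [Nat.card_eq_fintype_card]
  have htot : ∑ h : U t, (1 + b (t * (h : G)) - a (t * (h : G))) = 2 * (Nat.card (U t) : ℂ) := by
    rw [Finset.sum_congr rfl fun h _ => hFt h, hsum]
  have ht1 : 1 + b t - a t = 0 := by
    have := hFt 1
    rw [OneMemClass.coe_one, mul_one, map_one, Units.val_one, inv_one] at this
    rw [this]; norm_num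
  have hcases : (b t = 1 ∧ a t = 2) ∨ (b t = -2 ∧ a t = -1) := by
    have htot' := htot
    rw [Finset.sum_sub_distrib, Finset.sum_add_distrib, Finset.sum_const, Finset.card_univ,
      nsmul_eq_mul, mul_one, hcardU] at htot'
    rcases hdich ⟨a, ha⟩ with hA | hA <;> rcases hdich ⟨b, hb⟩ with hB' | hB' <;>
      simp only at hA hB'
    · exfalso
      simp only [hA, hB', ht1, Finset.sum_const_zero] at htot
      exact mul_ne_zero two_ne_zero hu0 htot.symm
    · simp only [hA, hB', Finset.sum_const, Finset.card_univ, nsmul_eq_mul, hcardU, add_zero] at htot'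
      have hat : a t = -1 := mul_left_cancel₀ hu0 (by linear_combination -htot')
      exact Or.inr ⟨by linear_combination ht1 + hat, hat⟩
    · simp only [hA, hB', Finset.sum_const, Finset.card_univ, nsmul_eq_mul, hcardU, sub_zero] at htot'
      have hbt : b t = 1 := mul_left_cancel₀ hu0 (by linear_combination htot')
      exact Or.inl ⟨hbt, by linear_combination hbt - ht1⟩
    · exfalso
      rw [hA, hB', add_zero, sub_zero] at htot'
      exact hu0 (by linear_combination -htot')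
  -- pairs of involutions
  obtain ⟨B, hB0, hB1⟩ := IsIrr.exists_degree hb
  have hA1 : a 1 = ((B + 1 : ℕ) : ℂ) := by rw [hab, hB1]; push_cast; ring
  have hG : ∑ᶠ p ∈ {p : G × G | IsConj t p.1 ∧ IsConj t p.2}, F (p.1 * p.2) =
      (C.index : ℂ) ^ 2 * (1 + b t ^ 2 / (B : ℂ) - a t ^ 2 / ((B + 1 : ℕ) : ℂ)) := by
    rw [finsum_mem_eq_toFinset_sum,
      show {p : G × G | IsConj t p.1 ∧ IsConj t p.2}.toFinset =
        CharIntegral.classFinset t ×ˢ CharIntegral.classFinset t by
          ext p; simp [CharIntegral.mem_classFinset],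
      Finset.sum_product]
    have h1 := D8Centralizer.class_pair_sum (trivChar G) (d := 1) (by simp) t
    have h2 := D8Centralizer.class_pair_sum (⟨b, hb⟩ : Cfsg.IrrCharacter G) (d := B) hB1 t
    have h3 := D8Centralizer.class_pair_sum (⟨a, ha⟩ : Cfsg.IrrCharacter G) (d := B + 1) hA1 t
    simp only [trivChar_apply, one_pow, mul_one, Nat.cast_one, div_one] at h1
    simp only at h2 h3
    simp only [hFab, Pi.add_apply, Pi.sub_apply, Finset.sum_add_distrib, Finset.sum_sub_distrib, h1, h2, h3]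
    rw [hCdef]
    ring
  rw [ti_involution_pair_sum hTI (E.supp_le l) (E.supp_inv l) (E.special_supp l) E.ht E.ht,
    E.special_pair_sum hl hne] at hG
  have hidx : (C.index : ℂ) ≠ 0 := Nat.cast_ne_zero.2 index_ne_zero_of_finite
  have hB0' : (B : ℂ) ≠ 0 := Nat.cast_ne_zero.2 hB0.ne'
  have hB1' : ((B : ℂ) + 1) ≠ 0 := by exact_mod_cast Nat.succ_ne_zero B
  have key : ∀ Z : ℤ, ((B : ℂ) * ((B : ℂ) + 1) = (Z : ℂ) * ((Z : ℂ) + 1)) →
      (b t ^ 2 * ((B : ℂ) + 1) - a t ^ 2 * (B : ℂ) + (B : ℂ) * ((B : ℂ) + 1) = ((Z : ℂ) - 1) ^ 2) →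
      0 < Z * (Z + 1) ∧ ((C.index : ℕ) : ℤ) * (Z - 1) ^ 2 =
        2 * ((2 ^ σ.n : ℕ) : ℤ) ^ 2 * ((Nat.card (Inv t u₁) : ℕ) : ℤ) ^ 2 * (Z * (Z + 1)) := by
    intro Z e1 e2
    refine ⟨?_, ?_⟩
    · have e1' : (B : ℤ) * ((B : ℤ) + 1) = Z * (Z + 1) := by exact_mod_cast e1
      rw [← e1']; positivity
    · have e3 : (C.index : ℂ) * ((Z : ℂ) - 1) ^ 2 =
          2 * (((2 ^ σ.n : ℕ) : ℂ)) ^ 2 * ((Nat.card (Inv t u₁) : ℂ)) ^ 2 * ((Z : ℂ) * ((Z : ℂ) + 1)) := by
        rw [← e1, ← e2]
        push_cast at hG ⊢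
        field_simp at hG
        rw [← hCdef] at hG
        refine mul_left_cancel₀ hidx ?_
        linear_combination -hG
      exact_mod_cast e3
  rcases hcases with ⟨h1, h2⟩ | ⟨h1, h2⟩
  · exact ⟨B, key B (by push_cast; ring) (by rw [h1, h2]; push_cast; ring)⟩
  · exact ⟨-((B : ℤ) + 1), key _ (by push_cast; ring) (by rw [h1, h2]; push_cast; ring)⟩

end CfsgLib.GW.Dne.Exceptional
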