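import Cfsg.Agent.Lib.GW.Dne.Basic
import Cfsg.Agent.Lib.LocalEven.Generation
import Cfsg.Agent.Lib.OddLocal.RankTwoFitting

/-!
# The exceptional configuration: coprime action lemmas
-/

set_option autoImplicit false

namespace CfsgLib.GW.Dne.Exc

open Subgroup CfsgLib.GW
open CfsgLib.Signalizer (involution_sq involution_inv involution_ne_one orderOf_conj)

universe u

variable {G : Type u} [Group G] [Finite G]

omit [Finite G] in
/-- An element of odd order is a square in the group it generates. -/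
theorem exists_sq_root {d : G} (hd : Odd (orderOf d)) : ∃ e ∈ zpowers d, e * e = d := by
  obtain ⟨j, hj⟩ := hd
  refine ⟨d ^ (j + 1), pow_mem (mem_zpowers d) _, ?_⟩
  rw [← pow_add, show j + 1 + (j + 1) = orderOf d + 1 by omega, pow_succ, pow_orderOf_eq_one, one_mul]

/-- Fixed-times-inverted decomposition under an involution. -/
theorem exists_fixed_inverted {K : Subgroup G} (hK : Odd (Nat.card K)) {s : G} (hs : s * s = 1)
    (hsK : s ∈ normalizer (K : Set G)) {q : G} (hq : q ∈ K) :
    ∃ c ∈ K, ∃ i ∈ K, Commute c s ∧ s * i * s⁻¹ = i⁻¹ ∧ q = c * i ∧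
      i ∈ zpowers (q⁻¹ * (s * q * s⁻¹)) := by
  have hsi : s⁻¹ = s := inv_eq_of_mul_eq_one_right hs
  set d := q⁻¹ * (s * q * s⁻¹) with hd
  have hdK : d ∈ K := mul_mem (inv_mem hq) ((mem_normalizer_iff.1 hsK q).1 hq)
  have hds : s * d * s⁻¹ = d⁻¹ := by
    rw [hd]
    calc s * (q⁻¹ * (s * q * s⁻¹)) * s⁻¹
        = s * q⁻¹ * (s * q) * (s⁻¹ * s⁻¹) := by group
      _ = s * q⁻¹ * (s⁻¹ * q) := by rw [hsi, hs, mul_one]
      _ = _ := by group
  obtain ⟨e, he, hee⟩ := exists_sq_root (odd_orderOf_of_mem hK hdK)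
  have heK : e ∈ K := zpowers_le.2 hdK he
  have hes : s * e * s⁻¹ = e⁻¹ := by
    obtain ⟨k, rfl⟩ := he
    rw [← conj_zpow, hds, inv_zpow]
  refine ⟨q * e, mul_mem hq heK, e⁻¹, inv_mem heK, ?_, ?_, by group, inv_mem he⟩
  · refine (commute_of_conj_eq ?_).symm
    calc s * (q * e) * s⁻¹ = s * q * s⁻¹ * (s * e * s⁻¹) := by group
      _ = q * d * e⁻¹ := by rw [hes, hd]; group
      _ = q * e := by rw [← hee]; group
  · rw [show s * e⁻¹ * s⁻¹ = (s * e * s⁻¹)⁻¹ by group, hes]

/-- Displacements in a fixed subgroup of coprime order are trivial. -/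
theorem commute_of_displace {c q : G} {n : ℕ} (hc : c ^ n = 1)
    (hd : Commute c (c * q * c⁻¹ * q⁻¹)) (hcop : (orderOf (c * q * c⁻¹ * q⁻¹)).Coprime n) :
    Commute c q := by
  set d := c * q * c⁻¹ * q⁻¹ with hdd
  have hpow : ∀ m : ℕ, c ^ m * q * (c ^ m)⁻¹ = d ^ m * q := by
    intro m
    induction m with
    | zero => simp
    | succ m ih =>
      calc c ^ (m + 1) * q * (c ^ (m + 1))⁻¹ = c ^ m * (c * q * c⁻¹) * (c ^ m)⁻¹ := by
            rw [pow_succ]; group
        _ = c ^ m * (d * q) * (c ^ m)⁻¹ := by rw [hdd]; group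
        _ = c ^ m * d * q * (c ^ m)⁻¹ := by group
        _ = d * c ^ m * q * (c ^ m)⁻¹ := by rw [(hd.pow_left m).eq]
        _ = d * (c ^ m * q * (c ^ m)⁻¹) := by group
        _ = d ^ (m + 1) * q := by rw [ih, pow_succ']; group
  have h := hpow n
  rw [hc, one_mul, inv_one, mul_one, right_eq_mul] at h
  have hd1 : d = 1 := orderOf_eq_one_iff.1
    (Nat.eq_one_of_dvd_coprimes hcop dvd_rfl (orderOf_dvd_of_pow_eq_one h))
  rw [hdd, mul_inv_eq_one] at hd1
  exact commute_of_conj_eq hd1

omit [Finite G] in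
/-- An element of odd order inverted by an element of odd order is trivial. -/
theorem eq_one_of_odd_inverts {a d : G} (ha : Odd (orderOf a)) (hd : Odd (orderOf d))
    (h : d * a * d⁻¹ = a⁻¹) : a = 1 := by
  have h2 : d ^ 2 * a * (d ^ 2)⁻¹ = a := by
    calc d ^ 2 * a * (d ^ 2)⁻¹ = d * (d * a * d⁻¹) * d⁻¹ := by rw [pow_two]; group
      _ = d * a⁻¹ * d⁻¹ := by rw [h]
      _ = (d * a * d⁻¹)⁻¹ := by group
      _ = a := by rw [h, inv_inv]
  obtain ⟨j, hj⟩ := hd
  have h3 : Commute d a := by
    have h4 := ((commute_of_conj_eq h2).pow_left (j + 1))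
    rwa [← pow_mul, show 2 * (j + 1) = orderOf d + 1 by omega, pow_succ, pow_orderOf_eq_one,
      one_mul] at h4
  exact eq_one_of_inv_self ha (by rw [← h, conj_eq_of_commute h3])

omit [Finite G] in
/-- Commuting with a square of an element of odd order. -/
theorem commute_of_sq {a d : G} (hd : Odd (orderOf d)) (h : Commute (d * d) a) : Commute d a := by
  obtain ⟨j, hj⟩ := hd
  have h4 := h.pow_left (j + 1)
  rwa [← pow_two, ← pow_mul, show 2 * (j + 1) = orderOf d + 1 by omega, pow_succ, pow_orderOf_eq_one,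
    one_mul] at h4

/-- An odd group is generated by the fixed points of the involutions of a four-group. -/
theorem le_of_four_fixed {t u : G} (ht : orderOf t = 2) (hu : orderOf u = 2) (hne : t ≠ u)
    (hc : Commute t u) {N Y : Subgroup G} (hN : Odd (Nat.card N))
    (htN : t ∈ normalizer (N : Set G)) (huN : u ∈ normalizer (N : Set G))
    (h1 : ∀ a ∈ N, Commute a t → a ∈ Y) (h2 : ∀ a ∈ N, Commute a u → a ∈ Y)
    (h3 : ∀ a ∈ N, Commute a (t * u) → a ∈ Y) : N ≤ Y := by
  have : Fact (Nat.Prime 2) := ⟨Nat.prime_two⟩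
  haveI : IsMulCommutative (four t u) := ⟨⟨fun a b => Subtype.ext (by
    rcases mem_four_cases ht hu hc a.2 with e | e | e | e <;>
      rcases mem_four_cases ht hu hc b.2 with e' | e' | e' | e' <;>
      simp only [Subgroup.coe_mul, e, e', one_mul, mul_one] <;>
      first
        | rfl
        | exact hc.eq
        | exact hc.symm.eq
        | exact ((Commute.refl t).mul_right hc).eq
        | exact ((Commute.refl t).mul_right hc).symm.eq
        | exact (hc.symm.mul_right (Commute.refl u)).eq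
        | exact (hc.symm.mul_right (Commute.refl u)).symm.eq)⟩⟩
  refine CfsgLib.LocalEven.le_of_centralizers_le (p := 2) (A := four t u) (fun a ha => ?_) ?_
    (four_le htN huN) (by rw [← even_iff_two_dvd, Nat.not_even_iff_odd]; exact hN) fun a ha ha1 x hx => ?_
  · rcases mem_four_cases ht hu hc ha with e | e | e | e <;> rw [e, pow_two]
    · simp
    · exact involution_sq ht
    · exact involution_sq hu
    · rw [← pow_two, hc.mul_pow, pow_two, pow_two, involution_sq ht, involution_sq hu, mul_one]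
  · have hnc : ¬ Nat.card (four t u) ≤ 2 := fun hle => by
      have h3 : ({1, t, u} : Set G) ⊆ (four t u : Set G) := by
        rintro z (rfl | rfl | rfl)
        · exact one_mem _
        · exact subset_closure (by simp)
        · exact subset_closure (by simp)
      have := Nat.card_mono (Set.toFinite _) h3
      rw [Nat.card_coe_set_eq, Set.ncard_insert_of_notMem
          (by simp [(involution_ne_one ht).symm, (involution_ne_one hu).symm]),
        Set.ncard_pair hne] at this
      exact absurd (this.trans hle) (by norm_num)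
    obtain ⟨k, hk⟩ := (isPGroup_four ht hu hc).exists_card_eq
    rw [hk] at hnc ⊢
    refine Nat.pow_le_pow_right two_pos ?_
    by_contra hk2
    exact hnc (Nat.pow_le_pow_right two_pos (by omega : k ≤ 1))
  · have hxa := commute_of_mem_centralizer hx.2
    rcases mem_four_cases ht hu hc ha with e | e | e | e
    · exact absurd e ha1
    · exact h1 x hx.1 (e ▸ hxa)
    · exact h2 x hx.1 (e ▸ hxa)
    · exact h3 x hx.1 (e ▸ hxa)

/-- An invariant Sylow subgroup containing a given invariant subgroup. -/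
theorem exists_sylow_four {t u : G} (ht : orderOf t = 2) (hu : orderOf u = 2) (hc : Commute t u)
    {A : Subgroup G} (hA : Odd (Nat.card A)) (htA : t ∈ normalizer (A : Set G))
    (huA : u ∈ normalizer (A : Set G)) (r : ℕ) [Fact r.Prime] {R₀ : Subgroup G} (hR₀ : IsPGroup r R₀)
    (hR₀A : R₀ ≤ A) (htR : t ∈ normalizer (R₀ : Set G)) (huR : u ∈ normalizer (R₀ : Set G)) :
    ∃ R : Subgroup G, IsPGroup r R ∧ R₀ ≤ R ∧ R ≤ A ∧ t ∈ normalizer (R : Set G) ∧
      u ∈ normalizer (R : Set G) ∧ ¬ r ∣ R.relIndex A ∧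
      ((∀ c ∈ A, Commute c t → Commute c u → c ∈ normalizer (R : Set G)) →
        ∀ R' : Subgroup G, IsPGroup r R' → R' ≤ A → t ∈ normalizer (R' : Set G) →
          u ∈ normalizer (R' : Set G) → R' ≤ R) := by
  have : Fact (Nat.Prime 2) := ⟨Nat.prime_two⟩
  have hTA : four t u ≤ normalizer (A : Set G) := four_le htA huA
  have hcop : (Nat.card (four t u)).Coprime (Nat.card A) := by
    obtain ⟨k, hk⟩ := IsPGroup.iff_card.1 (isPGroup_four ht hu hc)
    rw [hk]
    exact (Nat.coprime_two_left.2 hA).pow_left k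
  have hsolv : Group.IsSolvable (four t u) ∨ Group.IsSolvable A :=
    Or.inr (CfsgLib.OddLocal.FTFinal.odd_order_solvable hA)
  obtain ⟨P, hRP, hP⟩ := CfsgLib.Core.exists_invariant_sylow_ge hTA hcop hsolv hR₀A hR₀ (four_le htR huR)
  refine ⟨(P : Subgroup A).map A.subtype, P.2.map _, hRP, map_subtype_le _,
    hP (subset_closure (by simp)), hP (subset_closure (by simp)), ?_, fun hfix R' hR' hR'A ht' hu' => ?_⟩
  · rw [relIndex, subgroupOf, comap_map_eq_self_of_injective A.subtype_injective]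
    exact P.not_dvd_index
  · obtain ⟨P₁, hR₁, hP₁⟩ :=
      CfsgLib.Core.exists_invariant_sylow_ge hTA hcop hsolv hR'A hR' (four_le ht' hu')
    obtain ⟨c, hcC, hcP⟩ := CfsgLib.Core.invariant_sylow_conj hTA hcop hsolv P₁ P hP₁ hP
    refine hR₁.trans ?_
    have hcN := hfix c c.2 (mem_centralizer_iff.1 hcC t (subset_closure (by simp))).symm
      (mem_centralizer_iff.1 hcC u (subset_closure (by simp))).symm
    rintro _ ⟨p, hp, rfl⟩
    have h1 : c * p * c⁻¹ ∈ (P : Subgroup A) := by
      rw [← hcP]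
      exact ⟨p, hp, rfl⟩
    exact (mem_normalizer_iff.1 hcN (p : G)).2 ⟨_, h1, rfl⟩

/-- `O_q` of a subgroup in the ambient group. -/
noncomputable def sCore (q : ℕ) (A : Subgroup G) : Subgroup G := (Cfsg.pCore q A).map A.subtype

omit [Finite G] in
theorem sCore_le (q : ℕ) (A : Subgroup G) : sCore q A ≤ A := map_subtype_le _

omit [Finite G] in
theorem isPGroup_sCore (q : ℕ) (A : Subgroup G) : IsPGroup q (sCore q A) :=
  (CfsgLib.Core.isPGroup_pCore q A).map _

theorem normalizer_le_sCore (q : ℕ) (A : Subgroup G) :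
    normalizer (A : Set G) ≤ normalizer (sCore q A : Set G) := fun g hg =>
  mem_normalizer_of_conj fun x ⟨a, ha, e⟩ => by
    subst e
    let f : A ≃* A := (Subgroup.normalizerMonoidHom A ⟨g, hg⟩)
    exact ⟨f a, CfsgLib.Core.map_equiv_pCore f ▸ ⟨a, ha, rfl⟩, rfl⟩

/-- An `r`-element centralising every `O_q` of an odd group lies in `O_r`. -/
theorem mem_sCore_of_centralizes {A : Subgroup G} (hA : Odd (Nat.card A)) {r j : ℕ} [Fact r.Prime]
    {x : G} (hx : x ∈ A) (ho : orderOf x = r ^ j)
    (h : ∀ q : ℕ, q.Prime → ∀ a ∈ sCore q A, Commute x a) : x ∈ sCore r A := by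
  haveI : Group.IsSolvable A := CfsgLib.OddLocal.FTFinal.odd_order_solvable hA
  haveI := CfsgLib.Core.isNilpotent_fittingSubgroup A
  have hxF : (⟨x, hx⟩ : A) ∈ Cfsg.fittingSubgroup A :=
    CfsgLib.Components.centralizer_fitting_le_of_isSolvable
      (CfsgLib.OddLocal.RankTwoFitting.mem_centralizer_fitting fun q hq =>
        mem_centralizer_iff.2 fun a ha => Subtype.ext (h q hq a ⟨a, ha, rfl⟩).symm.eq)
  exact ⟨_, CfsgLib.OddLocal.RankTwoFitting.mem_pCore_of_mem_nilpotent (q := r) (j := j) hxF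
    (by rw [Subgroup.orderOf_mk, ho]), rfl⟩

end CfsgLib.GW.Dne.Exc
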