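import Cfsg.Agent.Lib.GW.Dne.Exceptional.CentTop

/-!
# The exceptional configuration: the component of `C(y)` and the Sylow subgroups
-/

set_option autoImplicit false

namespace CfsgLib.GW.Dne.Exceptional

open Subgroup CfsgLib.GW CfsgLib.GW.Dne.Exc
open CfsgLib.Signalizer (involution_sq involution_inv involution_ne_one orderOf_conj)

universe u

variable {G : Type u} [Group G] [Finite G] {σ : Hyp G} {t u₁ u₂ g₁ g₂ : G} {r : ℕ} {x y : G}
  {K : Subgroup G} (E : Exceptional σ t u₁ u₂ g₁ g₂ r x y K)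

include E

theorem eq_one_of_Q_K {a : G} (hq : a ∈ rCore r t) (hk : a ∈ K) : a = 1 := by
  obtain ⟨j, hj⟩ := E.isP_Q ⟨a, hq⟩
  exact orderOf_eq_one_iff.1 (Nat.eq_one_of_dvd_coprimes
    ((E.prime.coprime_iff_not_dvd.2 E.K_coprime).pow_left j)
    (orderOf_dvd_of_pow_eq_one (congrArg Subtype.val hj)) (Subgroup.orderOf_dvd_natCard K hk))

theorem fused_y : Fused (centralizer ({y} : Set G)) t u₁ g₁ where
  ne_top := σ.centralizer_ne_top E.y_ne
  mem_t := mem_centralizer_of_commute (E.U_mem E.y_U).symm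
  mem_u := mem_centralizer_of_commute E.y_u₁.symm
  mem_g := mem_centralizer_of_commute E.y_g₁.symm
  rot := E.frame.rot₁

theorem fused_y' : Fused (centralizer ({y} : Set G)) u₁ (t * u₁) g₁ where
  ne_top := E.fused_y.ne_top
  mem_t := E.fused_y.mem_u
  mem_u := mul_mem E.fused_y.mem_t E.fused_y.mem_u
  mem_g := E.fused_y.mem_g
  rot := E.frame.rot₁.next

theorem x_not_core (hC : CoreFixed G) : x ∉ core (centralizer ({y} : Set G)) := by
  intro hx
  have h := E.cfixed hC _ (zpowers x) u₁ (t * u₁) g₁ E.fused_y'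
    (E.isP_Q.to_le (zpowers_le.2 E.x_mem)) (zpowers_le.2 hx) (mem_normalizer_zpowers (Or.inr E.x_inv₁))
    x (mem_zpowers x)
  have h2 := conj_eq_of_commute h.symm
  rw [E.x_inv₁] at h2
  exact E.x_ne (eq_one_of_inv_self (E.U_odd E.x_U) h2)

theorem not_solvable (hM : SolvableLocal G) (hC : CoreFixed G) :
    ¬ Group.IsSolvable (centralizer ({y} : Set G)) := by
  intro hs
  have hxX : x ∈ centralizer ({y} : Set G) := mem_centralizer_of_commute (E.x_central y E.y_U).symm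
  exact E.x_not_core hC (hM _ t u₁ g₁ x E.fused_y hs E.x_U hxX)

theorem y_core : y ∈ core (centralizer ({y} : Set G)) := by
  set X := centralizer ({y} : Set G) with hX
  have hyX : y ∈ X := mem_centralizer_of_commute (Commute.refl y)
  haveI : ((zpowers y).subgroupOf X).Normal := ⟨fun a ha g => by
    obtain ⟨j, hj⟩ := mem_subgroupOf.1 ha
    refine mem_subgroupOf.2 ⟨j, ?_⟩
    rw [Subgroup.coe_mul, Subgroup.coe_mul, InvMemClass.coe_inv, ← hj]
    exact (conj_eq_of_commute ((commute_of_mem_centralizer g.2).zpow_right j)).symm⟩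
  have hle : (zpowers y).subgroupOf X ≤ Cfsg.oddCore X := CfsgLib.Core.le_pPrimeCore (by
    rw [Nat.card_congr (subgroupOfEquivOfLe (zpowers_le.2 hyX)).toEquiv, Nat.card_zpowers, E.y_order,
      Nat.coprime_two_right]
    exact E.prime.odd_of_ne_two E.r_ne_two)
  exact mem_core_iff.2 ⟨hyX, hle (mem_subgroupOf.2 (mem_zpowers y))⟩

/-- `O(C(y)) ∩ C(t) = ⟨y⟩`. -/
theorem core_inf_eq (hC : CoreFixed G) (hB : OneComponent G) {b : G}
    (hb : b ∈ core (centralizer ({y} : Set G))) (hbt : Commute b t) : b ∈ zpowers y := by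
  set X := centralizer ({y} : Set G) with hX
  have hbU : b ∈ U t := (σ.mem_U E.ht).2 ⟨hbt, odd_orderOf_of_mem (odd_core X) hb⟩
  obtain ⟨i, j, k, hk, rfl⟩ := E.centralizer_y_le hbU (commute_of_mem_centralizer (core_le X hb))
  have hxcore : x ∉ core X := E.x_not_core hC
  have hyk : ∀ l : ℤ, y ^ l ∈ core X := fun l => zpow_mem E.y_core l
  have hxk : x ^ j * k ∈ core X := by
    have := mul_mem (hyk (-i)) hb
    rwa [← mul_assoc, ← mul_assoc, ← zpow_add, neg_add_cancel, zpow_zero, one_mul] at this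
  have hcomm : Commute (x ^ j) k := (E.x_central k (E.K_le hk)).symm.zpow_left j
  have hxj : x ^ j = 1 := by
    by_contra hne
    refine hxcore ?_
    have hpow : (x ^ j) ^ Nat.card K ∈ core X := by
      have := pow_mem hxk (Nat.card K)
      rwa [hcomm.mul_pow, show k ^ Nat.card K = 1 from orderOf_dvd_iff_pow_eq_one.1
        (Subgroup.orderOf_dvd_natCard K hk), mul_one] at this
    have hord : orderOf (x ^ j) = r := by
      haveI := E.fact
      refine orderOf_eq_prime ?_ hne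
      rw [← zpow_natCast, ← zpow_mul, mul_comm, zpow_mul, zpow_natCast, ← E.x_order, pow_orderOf_eq_one,
        one_zpow]
    obtain ⟨m, hm⟩ := exists_pow_eq_self_of_coprime (x := x ^ j) (n := Nat.card K)
      (by rw [hord]; exact (E.prime.coprime_iff_not_dvd.2 E.K_coprime).symm)
    have hxj' : x ^ j ∈ core X := hm ▸ pow_mem hpow m
    obtain ⟨m', hm'⟩ : ∃ m' : ℕ, (x ^ j) ^ m' = x := by
      have hmem : x ∈ zpowers (x ^ j) := by
        have heq : zpowers (x ^ j) = zpowers x := eq_of_le_of_card_ge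
          (zpowers_le.2 (zpow_mem (mem_zpowers x) j))
          (by rw [Nat.card_zpowers, Nat.card_zpowers, hord, E.x_order])
        rw [heq]; exact mem_zpowers x
      exact Submonoid.mem_powers_iff _ _ |>.1 (mem_powers_iff_mem_zpowers.2 hmem)
    exact hm' ▸ pow_mem hxj' m'
  rw [hxj, one_mul] at hxk
  rw [hxj, mul_one] at hb ⊢
  suffices k = 1 by rw [this, mul_one]; exact zpow_mem (mem_zpowers y) i
  by_contra hk1
  obtain ⟨v, hv, hvd⟩ := Nat.exists_prime_and_dvd (fun e => hk1 (orderOf_eq_one_iff.1 e))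
  haveI := Fact.mk hv
  set z₀ := k ^ (orderOf k / v) with hz₀
  have hz₀o : orderOf z₀ = v := orderOf_pow_orderOf_div (orderOf_pos k).ne' hvd
  have hz₀K : z₀ ∈ K := pow_mem hk _
  have hz₀c : z₀ ∈ core X := pow_mem hxk _
  have hvr : v ≠ r := fun e => E.K_coprime (e ▸ hvd.trans (Subgroup.orderOf_dvd_natCard K hk))
  have hF := E.fused_y
  have htc : t ∈ normalizer (core X : Set G) := le_normalizer_core X hF.mem_t
  have huc : u₁ ∈ normalizer (core X : Set G) := le_normalizer_core X hF.mem_u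
  obtain ⟨W, hWp, -, hWc, htW, huW, -, hmax⟩ := exists_sylow_four E.ht E.frame.hu₁ E.frame.rot₁.comm
    (odd_core X) htc huc v (R₀ := ⊥) IsPGroup.of_bot bot_le
    (mem_normalizer_of_conj fun b hb => by rw [mem_bot] at hb ⊢; rw [hb]; group)
    (mem_normalizer_of_conj fun b hb => by rw [mem_bot] at hb ⊢; rw [hb]; group)
  have hfix : ∀ c ∈ core X, Commute c t → Commute c u₁ → c ∈ normalizer (W : Set G) := by
    intro c hc hct hcu
    obtain ⟨l, rfl⟩ := E.fixed₁ ((σ.mem_U E.ht).2 ⟨hct, odd_orderOf_of_mem (odd_core X) hc⟩) hcu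
    refine mem_normalizer_of_conj fun a ha => ?_
    rwa [conj_eq_of_commute ((commute_of_mem_centralizer (core_le X (hWc ha))).symm.zpow_left l)]
  set z₁ := g₁ * z₀ * g₁⁻¹ with hz₁
  set z₂ := g₁ * z₁ * g₁⁻¹ with hz₂
  have hz₁c : z₁ ∈ core X := (mem_normalizer_iff.1 (le_normalizer_core X hF.mem_g) _).1 hz₀c
  have hz₂c : z₂ ∈ core X := (mem_normalizer_iff.1 (le_normalizer_core X hF.mem_g) _).1 hz₁c
  have hz₀t : t * z₀ * t⁻¹ = z₀ := conj_eq_of_commute (E.U_mem (E.K_le hz₀K)).symm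
  have hz₀u : u₁ * z₀ * u₁⁻¹ = z₀⁻¹ := E.K_inv₁ z₀ hz₀K
  have hz₀v : t * u₁ * z₀ * (t * u₁)⁻¹ = z₀⁻¹ := by
    rw [show t * u₁ * z₀ * (t * u₁)⁻¹ = t * (u₁ * z₀ * u₁⁻¹) * t⁻¹ by group, hz₀u,
      show t * z₀⁻¹ * t⁻¹ = (t * z₀ * t⁻¹)⁻¹ by group, hz₀t]
  have hnext : ∀ {a b c : G}, g₁ * a * g₁⁻¹ = b → a * c * a⁻¹ = c ∨ a * c * a⁻¹ = c⁻¹ →
      b * (g₁ * c * g₁⁻¹) * b⁻¹ = g₁ * (a * c * a⁻¹) * g₁⁻¹ := by
    intro a b c e _
    rw [← e]; group
  have h1 := E.frame.rot₁.conj1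
  have h2 := E.frame.rot₁.conj2
  have h3 : g₁ * (t * u₁) * g₁⁻¹ = t := by
    rw [show g₁ * (t * u₁) * g₁⁻¹ = g₁ * t * g₁⁻¹ * (g₁ * u₁ * g₁⁻¹) by group, h1, h2,
      E.frame.rot₁.comm.eq, ← mul_assoc, E.u₁_sq, one_mul]
  have hz₁u : u₁ * z₁ * u₁⁻¹ = z₁ := by
    rw [hz₁, hnext h1 (Or.inl hz₀t), hz₀t]
  have hz₁t : t * z₁ * t⁻¹ = z₁⁻¹ := by
    rw [hz₁, hnext h3 (Or.inr hz₀v), hz₀v]; group
  have hz₁v : t * u₁ * z₁ * (t * u₁)⁻¹ = z₁⁻¹ := by
    rw [hz₁, hnext h2 (Or.inr hz₀u), hz₀u]; group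
  have hz₂t : t * z₂ * t⁻¹ = z₂⁻¹ := by
    rw [hz₂, hnext h3 (Or.inr hz₁v), hz₁v]; group
  have hz₂u : u₁ * z₂ * u₁⁻¹ = z₂⁻¹ := by
    rw [hz₂, hnext h1 (Or.inr hz₁t), hz₁t]; group
  have hinW : ∀ a ∈ core X, orderOf a = v → (t * a * t⁻¹ = a ∨ t * a * t⁻¹ = a⁻¹) →
      (u₁ * a * u₁⁻¹ = a ∨ u₁ * a * u₁⁻¹ = a⁻¹) → a ∈ W := fun a ha hao hat hau =>
    hmax hfix (zpowers a) (IsPGroup.of_card (n := 1) (by rw [Nat.card_zpowers, hao, pow_one]))
      (zpowers_le.2 ha) (mem_normalizer_zpowers hat) (mem_normalizer_zpowers hau) (mem_zpowers a)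
  have hz₁o : orderOf z₁ = v := by rw [hz₁, orderOf_conj, hz₀o]
  have hz₂o : orderOf z₂ = v := by rw [hz₂, orderOf_conj, hz₁o]
  have hW₀ := hinW z₀ hz₀c hz₀o (Or.inl hz₀t) (Or.inr hz₀u)
  have hW₁ := hinW z₁ hz₁c hz₁o (Or.inr hz₁t) (Or.inl hz₁u)
  have hW₂ := hinW z₂ hz₂c hz₂o (Or.inr hz₂t) (Or.inr hz₂u)
  have hodd : ∀ a ∈ W, Odd (orderOf a) := fun a ha => odd_orderOf_of_mem (odd_core X) (hWc ha)
  have hv2 : v ≠ 2 := fun h2 => by
    have ho := E.U_odd (E.K_le hz₀K)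
    rw [hz₀o, h2] at ho
    exact absurd ho (by decide)
  have hneq : ∀ {a : G}, orderOf a = v → a * a ≠ 1 := fun {a} ha h => by
    have := Nat.le_of_dvd two_pos (ha ▸ orderOf_dvd_of_pow_eq_one (by rw [pow_two]; exact h))
    exact hv2 (le_antisymm this hv.two_le)
  have hnoninv : ∀ {a s : G}, orderOf a = v → Commute a s → s * a * s⁻¹ = a⁻¹ → False := by
    intro a s ha hc h
    rw [conj_eq_of_commute hc.symm] at h
    exact hneq ha (mul_eq_one_iff_eq_inv.2 h)
  -- a central element of `W` fixed by an involution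
  set ZW := W ⊓ centralizer (W : Set G) with hZW
  have hZN : normalizer (W : Set G) ≤ normalizer (ZW : Set G) := fun g hg =>
    CfsgLib.Transfer.normalizer_le_normalizer_inf
      ⟨hg, CfsgLib.Transfer.normalizer_le_normalizer_centralizer W hg⟩
  obtain ⟨e, heW, he1, hefix⟩ : ∃ e, e ∈ ZW ∧ e ≠ 1 ∧
      (Commute e t ∨ Commute e u₁ ∨ Commute e (t * u₁)) := by
    by_contra hno
    push Not at hno
    have hbot : ZW ≤ ⊥ := le_of_four_fixed E.ht E.frame.hu₁ E.frame.rot₁.ne E.frame.rot₁.comm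
      ((odd_core X).of_dvd_nat (card_dvd_of_le (inf_le_left.trans hWc))) (hZN htW) (hZN huW)
      (fun a ha h => mem_bot.2 (by by_contra h1; exact (hno a ha h1).1 h))
      (fun a ha h => mem_bot.2 (by by_contra h1; exact (hno a ha h1).2.1 h))
      (fun a ha h => mem_bot.2 (by by_contra h1; exact (hno a ha h1).2.2 h))
    haveI : Nontrivial W := ⟨⟨⟨z₀, hW₀⟩, 1, fun h => hneq hz₀o (by
      rw [show z₀ = 1 from congrArg Subtype.val h, mul_one])⟩⟩
    haveI := hWp.center_nontrivial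
    obtain ⟨c, hc⟩ := exists_ne (1 : center W)
    refine hc (Subtype.ext (Subtype.ext (mem_bot.1 (hbot ⟨c.1.2, ?_⟩))))
    exact mem_centralizer_iff.2 fun a ha => congrArg Subtype.val (mem_center_iff.1 c.2 ⟨a, ha⟩)
  obtain ⟨l, hl⟩ := hWp ⟨e, heW.1⟩
  obtain ⟨l', -, hlo⟩ := (Nat.dvd_prime_pow hv).1 (orderOf_dvd_of_pow_eq_one (congrArg Subtype.val hl))
  have hl' : l' ≠ 0 := fun h => he1 (orderOf_eq_one_iff.1 (by rw [hlo, h, pow_zero]))
  set e₀ := e ^ (orderOf e / v) with he₀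
  have he₀o : orderOf e₀ = v := orderOf_pow_orderOf_div (orderOf_pos e).ne' (hlo ▸ dvd_pow_self v hl')
  have he₀W : ∀ a ∈ W, Commute e₀ a := fun a ha =>
    ((show Commute e a from (mem_centralizer_iff.1 heW.2 a ha).symm)).pow_left _
  have he₀X : Commute e₀ y :=
    (commute_of_mem_centralizer (core_le X (hWc (pow_mem heW.1 _))))
  have hK' : ∀ d : G, Commute d t → Commute d y → orderOf d = v →
      centralizer ({d} : Set G) ≤ centralizer ({t} : Set G) := fun d hdt _ hdo =>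
    E.centralizer_coprime_le hC hB
      ((σ.mem_U E.ht).2 ⟨hdt, by rw [hdo]; exact hv.odd_of_ne_two hv2⟩)
      (fun h => hv.ne_one (by rw [← hdo, h, orderOf_one]))
      (by rw [hdo]; exact (Nat.coprime_primes hv E.prime).2 hvr)
  have hgy : Commute g₁ y := E.y_g₁.symm
  have hconj : ∀ {a b : G}, Commute a b → Commute (g₁ * a * g₁⁻¹) (g₁ * b * g₁⁻¹) := fun h => by
    simpa using h.map (MulAut.conj g₁).toMonoidHom
  have hconj' : ∀ {a b : G}, Commute a b → Commute (g₁⁻¹ * a * g₁) (g₁⁻¹ * b * g₁) := fun h => by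
    simpa using h.map (MulAut.conj g₁⁻¹).toMonoidHom
  have he₀f : Commute e₀ t ∨ Commute e₀ u₁ ∨ Commute e₀ (t * u₁) :=
    hefix.imp (fun h => h.pow_left _) (Or.imp (fun h => h.pow_left _) (fun h => h.pow_left _))
  rcases he₀f with h | h | h
  · refine hnoninv hz₁o (commute_of_mem_centralizer (hK' e₀ h he₀X he₀o
      (mem_centralizer_of_commute (he₀W z₁ hW₁).symm))) hz₁t
  · -- `g₁⁻¹` carries `u₁` to `t`
    have e1 : g₁⁻¹ * u₁ * g₁ = t := by rw [← h1]; group
    have e2 : g₁⁻¹ * y * g₁ = y := by rw [mul_assoc, hgy.symm.eq, inv_mul_cancel_left]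
    have h' : Commute (g₁⁻¹ * e₀ * g₁) t := e1 ▸ hconj' h
    have hy' : Commute (g₁⁻¹ * e₀ * g₁) y := e2 ▸ hconj' he₀X
    have ho' : orderOf (g₁⁻¹ * e₀ * g₁) = v := by
      have := orderOf_conj g₁⁻¹ e₀
      rw [inv_inv] at this
      rw [this, he₀o]
    have h4 := hconj (commute_of_mem_centralizer (hK' _ h' hy' ho'
      (mem_centralizer_of_commute (hconj' (he₀W z₀ hW₀)).symm)))
    rw [show g₁ * (g₁⁻¹ * z₀ * g₁) * g₁⁻¹ = z₀ by group, h1] at h4
    exact hnoninv hz₀o h4 hz₀u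
  · have h' : Commute (g₁ * e₀ * g₁⁻¹) t := h3 ▸ hconj h
    have hy' : Commute (g₁ * e₀ * g₁⁻¹) y := conj_eq_of_commute hgy ▸ hconj he₀X
    have h4 := commute_of_mem_centralizer (hK' _ h' hy' (by rw [orderOf_conj, he₀o])
      (mem_centralizer_of_commute (hconj (he₀W z₁ hW₁)).symm))
    exact hnoninv hz₂o h4 hz₂t

theorem card_U_inf_y :
    Nat.card (U t ⊓ centralizer ({y} : Set G) : Subgroup G) = r * r * Nat.card K := by
  rw [E.centralizer_y]
  have hn : zpowers y ≤ normalizer (zpowers x : Set G) := zpowers_le.2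
    (mem_normalizer_zpowers (Or.inl (conj_eq_of_commute (E.x_central y E.y_U))))
  have hKn : zpowers y ⊔ zpowers x ≤ normalizer (K : Set G) :=
    sup_le (zpowers_le.2 (E.K_normal (E.U_C E.y_U))) (zpowers_le.2 (E.K_normal (E.U_C E.x_U)))
  have hdis : zpowers y ⊓ zpowers x = ⊥ := by
    rw [eq_bot_iff]
    rintro a ⟨⟨i, hi⟩, ⟨j, hj⟩⟩
    refine mem_bot.2 (eq_one_of_inv_self ?_ ?_)
    · exact E.U_odd ((show y ^ i = a from hi) ▸ zpow_mem E.y_U i)
    · have h1 : u₁ * a * u₁⁻¹ = a⁻¹ := by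
        rw [← show x ^ j = a from hj, ← conj_zpow, E.x_inv₁, inv_zpow]
      rw [← h1, ← show y ^ i = a from hi]
      exact conj_eq_of_commute (E.y_u₁.symm.zpow_right i)
  have h := CfsgLib.Core.card_sup_mul_card_inf (zpowers y) (zpowers x) hn
  rw [hdis, card_bot, mul_one, Nat.card_zpowers, Nat.card_zpowers, E.y_order, E.x_order] at h
  rw [CfsgLib.Core.card_sup_of_coprime _ K hKn (by
    rw [h]
    exact (E.prime.coprime_iff_not_dvd.2 E.K_coprime).mul_left (E.prime.coprime_iff_not_dvd.2 E.K_coprime)), h]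

/-- Step 4: a prime power `q = 2 N r k ± 1` divides `|G|`. -/
theorem exists_q (hS : SolvableLocal G) (hN : CountData G) (hC : CoreFixed G) (hB : OneComponent G) :
    ∃ (q : ℕ) (ε : ℤ), IsPrimePow q ∧ (ε = 1 ∨ ε = -1) ∧
      (q : ℤ) - ε = 2 * 2 ^ σ.n * (r * Nat.card K : ℕ) ∧ q ∣ Nat.card G := by
  set X := centralizer ({y} : Set G) with hX
  have hyU := E.y_U
  have hD : ((D t u₁ ⊓ X) ⊔ (core X ⊓ centralizer ({t} : Set G))) = zpowers y := by
    refine le_antisymm (sup_le (inf_le_left.trans_eq E.D₁) fun b hb =>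
      E.core_inf_eq hC hB hb.1 (commute_of_mem_centralizer hb.2)) ?_
    refine le_trans ?_ le_sup_left
    exact zpowers_le.2 ⟨E.D₁.symm ▸ mem_zpowers y, mem_centralizer_of_commute (Commute.refl y)⟩
  have hidx : (zpowers y).relIndex (U t ⊓ X) = r * Nat.card K := by
    have hle : zpowers y ≤ U t ⊓ X :=
      zpowers_le.2 ⟨hyU, mem_centralizer_of_commute (Commute.refl y)⟩
    have h1 := card_mul_index ((zpowers y).subgroupOf (U t ⊓ X))
    rw [Nat.card_congr (subgroupOfEquivOfLe hle).toEquiv, Nat.card_zpowers, E.y_order, E.card_U_inf_y,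
      mul_assoc] at h1
    exact Nat.eq_of_mul_eq_mul_left E.prime.pos h1
  have h := hN σ X t u₁ u₂ g₁ g₂ E.frame (σ.centralizer_ne_top E.y_ne)
    (mem_centralizer_of_commute (E.U_mem hyU).symm) (mem_centralizer_of_commute E.y_u₁.symm)
    (mem_centralizer_of_commute E.y_u₂.symm) (mem_centralizer_of_commute E.y_g₁.symm)
    (mem_centralizer_of_commute E.y_g₂.symm) (E.not_solvable hS hC)
  simp only [hD, hidx] at h
  rcases h with ⟨q, ε, hq, hε, hqe, -, hqd, -⟩ | ⟨-, -, -, h3, -, -⟩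
  · exact ⟨q, ε, hq, hε, hqe, hqd.trans (card_subgroup_dvd_card X)⟩
  · exfalso
    have h5 := E.five_le
    have := Nat.le_of_dvd (by norm_num) ((dvd_mul_right r _).trans h3)
    omega

/-- An element of `Q` conjugating `x` into `Q` does so into `⟨x⟩`. -/
theorem center_Q {a : G} (ha : a ∈ rCore r t) (hc : ∀ q ∈ rCore r t, Commute a q) : a ∈ zpowers x := by
  haveI := E.fact
  obtain ⟨i, j, k, hk, rfl⟩ := E.centralizer_y_le (E.Q_le ha) (hc y E.y_mem)
  have hyx : y ^ i * x ^ j ∈ rCore r t := mul_mem (zpow_mem E.y_mem i) (zpow_mem E.x_mem j)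
  have hk1 : k = 1 := E.eq_one_of_Q_K (by
    have := mul_mem (inv_mem hyx) ha
    rwa [inv_mul_cancel_left] at this) hk
  rw [hk1, mul_one] at hc ⊢
  obtain ⟨b, hb, m, hm, hbm⟩ := E.exists_moving_y
  have hyi : y ^ i = 1 := by
    by_contra hne
    have h1 : Commute (y ^ i) b := by
      have := (hc b hb).mul_left (((E.x_central b (E.Q_le hb)).symm.zpow_left j).inv_left)
      rwa [mul_inv_cancel_right] at this
    have hord : orderOf (y ^ i) = r := by
      refine orderOf_eq_prime ?_ hne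
      rw [← zpow_natCast, ← zpow_mul, mul_comm, zpow_mul, zpow_natCast, ← E.y_order, pow_orderOf_eq_one,
        one_zpow]
    have hy' : y ∈ zpowers (y ^ i) := by
      have heq : zpowers (y ^ i) = zpowers y := eq_of_le_of_card_ge
        (zpowers_le.2 (zpow_mem (mem_zpowers y) i))
        (by rw [Nat.card_zpowers, Nat.card_zpowers, hord, E.y_order])
      rw [heq]; exact mem_zpowers y
    obtain ⟨l, hl⟩ := hy'
    have h2 : Commute b y := (show (y ^ i) ^ l = y from hl) ▸ h1.symm.zpow_right l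
    rw [conj_eq_of_commute h2, left_eq_mul] at hbm
    exact hm (E.x_order ▸ orderOf_dvd_of_pow_eq_one hbm)
  rw [hyi, one_mul]
  exact zpow_mem (mem_zpowers x) j

/-- Step 5: the Sylow subgroups of `O(C(t))` are Sylow subgroups of `G`. -/
theorem not_dvd_index (hC : CoreFixed G) (hB : OneComponent G) {p : ℕ} (hp : p.Prime)
    (hd : p ∣ Nat.card (U t)) : ¬ p ∣ (U t).index := by
  haveI := Fact.mk hp
  suffices h : ∃ P : Sylow p G, (P : Subgroup G) ≤ U t by
    obtain ⟨P, hP⟩ := h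
    exact fun h => P.not_dvd_index (h.trans (index_dvd_of_le hP))
  have hodd : ∀ {a : G} {P : Subgroup G}, IsPGroup p P → a ∈ P → Odd (orderOf a) := fun hP ha =>
    odd_orderOf_of_mem (Setting.odd_of_pGroup (fun h => by
      subst h
      exact (Nat.not_even_iff_odd.2 (σ.odd_U E.ht)) (even_iff_two_dvd.2 hd)) hP) ha
  rcases eq_or_ne p r with rfl | hpr
  · obtain ⟨P, hP⟩ := E.isP_Q.exists_le_sylow
    refine ⟨P, ?_⟩
    suffices (P : Subgroup G) ≤ rCore p t from this.trans E.Q_le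
    by_contra hne
    have hlt := CfsgLib.Transfer.lt_inf_normalizer P.2 (lt_of_le_of_ne hP fun e => hne e.ge)
    refine not_le_of_gt hlt fun c ⟨hcP, hcN⟩ => E.mem_Q_of_isRElt ((σ.mem_U E.ht).2
      ⟨E.commute_t_of_normalizes_x hC hB ?_, hodd P.2 hcP⟩) (isRElt_of_mem P.2 hcP)
    have hmem : ∀ {d : G}, d ∈ normalizer (rCore p t : Set G) → ∀ q ∈ rCore p t, d * q * d⁻¹ ∈ rCore p t :=
      fun hd q hq => (mem_normalizer_iff.1 hd q).1 hq
    have h1 := hmem (inv_mem hcN) x E.x_mem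
    rw [inv_inv] at h1
    refine E.center_Q h1 fun q hq => ?_
    have h2 := ((E.x_Q_comm (hmem hcN q hq)).symm).map (MulAut.conj c⁻¹).toMonoidHom
    simp only [MulEquiv.coe_toMonoidHom, MulAut.conj_apply, inv_inv] at h2
    rwa [show c⁻¹ * (c * q * c⁻¹) * c = q by group] at h2
  · obtain ⟨⟨a, haU⟩, hao⟩ := exists_prime_orderOf_dvd_card' (G := U t) p hd
    rw [Subgroup.orderOf_mk] at hao
    have hcop : ∀ {b : G}, orderOf b = p → (orderOf b).Coprime r := fun hb => by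
      rw [hb]; exact (Nat.coprime_primes hp E.prime).2 hpr
    have hne : ∀ {b : G}, orderOf b = p → b ≠ 1 := fun hb h => hp.ne_one (by rw [← hb, h, orderOf_one])
    obtain ⟨P, hP⟩ := (IsPGroup.of_card (n := 1) (by rw [Nat.card_zpowers, hao, pow_one]) :
      IsPGroup p (zpowers a)).exists_le_sylow
    refine ⟨P, ?_⟩
    have haP : a ∈ (P : Subgroup G) := hP (mem_zpowers a)
    haveI : Nontrivial (P : Subgroup G) := ⟨⟨⟨a, haP⟩, 1, fun h => hne hao (congrArg Subtype.val h)⟩⟩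
    haveI := P.2.center_nontrivial
    obtain ⟨k, hk, hcard⟩ := (P.2.to_subgroup (center (P : Subgroup G))).nontrivial_iff_card.1 inferInstance
    obtain ⟨e, he⟩ := exists_prime_orderOf_dvd_card' (G := center (P : Subgroup G)) p
      (hcard ▸ dvd_pow_self p hk.ne')
    set e' : G := ((e : (P : Subgroup G)) : G) with he'
    have he'o : orderOf e' = p := by rw [he', Subgroup.orderOf_coe, Subgroup.orderOf_coe, he]
    have hcomm : ∀ c ∈ (P : Subgroup G), Commute c e' := fun c hc =>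
      congrArg Subtype.val (mem_center_iff.1 e.2 ⟨c, hc⟩)
    have he'U : e' ∈ U t := (σ.mem_U E.ht).2 ⟨commute_of_mem_centralizer
      (E.centralizer_coprime_le hC hB haU (hne hao) (hcop hao) (mem_centralizer_of_commute (hcomm a haP).symm)),
      hodd P.2 (e : (P : Subgroup G)).2⟩
    exact fun c hc => (σ.mem_U E.ht).2 ⟨commute_of_mem_centralizer
      (E.centralizer_coprime_le hC hB he'U (hne he'o) (hcop he'o) (mem_centralizer_of_commute (hcomm c hc))),
      hodd P.2 hc⟩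

theorem index_U : (U t).index = 2 * 2 ^ σ.n * (centralizer ({t} : Set G)).index := by
  have h1 := card_mul_index (U t)
  have h2 := card_mul_index (centralizer ({t} : Set G))
  rw [E.card_C, ← h1, mul_comm (2 * 2 ^ σ.n), mul_assoc] at h2
  exact (Nat.eq_of_mul_eq_mul_left Nat.card_pos h2).symm

/-- `|G : C(t)|` is odd. -/
theorem odd_M : Odd (centralizer ({t} : Set G)).index := by
  haveI : Fact (Nat.Prime 2) := ⟨Nat.prime_two⟩
  obtain ⟨P, hP⟩ := E.frame.exists_sylow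
  rw [← Nat.not_even_iff_odd, even_iff_two_dvd]
  exact fun h => P.not_dvd_index (h.trans (index_dvd_of_le (hP ▸ E.frame.closure_le_centralizer)))

/-- `|G : C(t)|` is prime to `|O(C(t))|`. -/
theorem coprime_M (hC : CoreFixed G) (hB : OneComponent G) :
    (centralizer ({t} : Set G)).index.Coprime (Nat.card (U t)) := by
  by_contra h
  obtain ⟨p, hp, hp1, hp2⟩ := Nat.Prime.not_coprime_iff_dvd.1 h
  exact E.not_dvd_index hC hB hp hp2 (E.index_U ▸ hp1.mul_left _)

end CfsgLib.GW.Dne.Exceptional
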