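import Cfsg.Agent.Lib.GW.Dne.Exceptional.Coprime

/-!
# The exceptional configuration: structure of `C(t)`

The rotations centralise `O(C(t))`, so every involution of `C(t)` other than `t` acts on `O(C(t))`
as a conjugate of `u₁`.
-/

set_option autoImplicit false

namespace CfsgLib.GW.Dne.Exceptional

open Subgroup CfsgLib.GW CfsgLib.GW.Dne.Exc
open CfsgLib.Signalizer (involution_sq involution_inv involution_ne_one orderOf_conj)

universe u

variable {G : Type u} [Group G] [Finite G] {σ : Hyp G} {t u₁ u₂ g₁ g₂ : G} {r : ℕ} {x y : G}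
  {K : Subgroup G} (E : Exceptional σ t u₁ u₂ g₁ g₂ r x y K)

include E

theorem ht : orderOf t = 2 := E.frame.ht
theorem fact : Fact r.Prime := ⟨E.prime⟩
theorem r_ne_two : r ≠ 2 := by have := E.five_le; omega
theorem t_sq : t * t = 1 := involution_sq E.ht
theorem u₁_sq : u₁ * u₁ = 1 := involution_sq E.frame.hu₁

theorem Q_le : rCore r t ≤ U t := map_subtype_le _

theorem isP_Q : IsPGroup r (rCore r t) := (CfsgLib.Core.isPGroup_pCore r _).map _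

theorem C_le_normalizer_U : centralizer ({t} : Set G) ≤ normalizer (U t : Set G) :=
  Setting.le_normalizer_U t

theorem C_le_normalizer_Q : centralizer ({t} : Set G) ≤ normalizer (rCore r t : Set G) :=
  E.C_le_normalizer_U.trans (normalizer_le_sCore r (U t))

theorem U_mem {h : G} (hh : h ∈ U t) : Commute h t := ((σ.mem_U E.ht).1 hh).1

theorem U_odd {h : G} (hh : h ∈ U t) : Odd (orderOf h) := ((σ.mem_U E.ht).1 hh).2

theorem U_C {h : G} (hh : h ∈ U t) : h ∈ centralizer ({t} : Set G) :=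
  mem_centralizer_of_commute (E.U_mem hh)

theorem u₁_C : u₁ ∈ centralizer ({t} : Set G) := mem_centralizer_of_commute E.frame.commute₁

theorem u₂_C : u₂ ∈ centralizer ({t} : Set G) := mem_centralizer_of_commute E.frame.commute₂

theorem conj_mem_U {c h : G} (hc : c ∈ centralizer ({t} : Set G)) (hh : h ∈ U t) :
    c * h * c⁻¹ ∈ U t :=
  (mem_normalizer_iff.1 (E.C_le_normalizer_U hc) h).1 hh

theorem conj_mem_K {c h : G} (hc : c ∈ centralizer ({t} : Set G)) (hh : h ∈ K) : c * h * c⁻¹ ∈ K :=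
  (mem_normalizer_iff.1 (E.K_normal hc) h).1 hh

theorem conj_mem_Y {c h : G} (hc : c ∈ centralizer ({t} : Set G)) (hh : h ∈ rCore r t ⊔ K) :
    c * h * c⁻¹ ∈ rCore r t ⊔ K := by
  have h1 : (MulAut.conj c).toMonoidHom h ∈ (rCore r t ⊔ K).map (MulAut.conj c).toMonoidHom :=
    mem_map_of_mem _ hh
  rwa [Subgroup.map_sup, CfsgLib.Transfer.map_conj_eq_self_iff.2 (E.C_le_normalizer_Q hc),
    CfsgLib.Transfer.map_conj_eq_self_iff.2 (E.K_normal hc)] at h1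

theorem Y_le : rCore r t ⊔ K ≤ U t := sup_le E.Q_le E.K_le

theorem x_U : x ∈ U t := E.Q_le E.x_mem

theorem y_U : y ∈ U t := E.Q_le E.y_mem

theorem x_ne : x ≠ 1 := fun e => by
  have h := E.x_order
  rw [e, orderOf_one] at h
  exact E.prime.ne_one h.symm

theorem y_ne : y ≠ 1 := fun e => by
  have h := E.y_order
  rw [e, orderOf_one] at h
  exact E.prime.ne_one h.symm

theorem y_u₁ : Commute y u₁ :=
  Hyp.D_commute (E.D₁.symm ▸ mem_zpowers y : y ∈ D t u₁)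

theorem y_u₂ : Commute y u₂ :=
  Hyp.D_commute (E.D₂.symm ▸ mem_zpowers y : y ∈ D t u₂)

theorem fixed₁ {h : G} (hh : h ∈ U t) (hc : Commute h u₁) : h ∈ zpowers y :=
  E.D₁ ▸ (⟨hh, mem_centralizer_of_commute hc⟩ : h ∈ D t u₁)

theorem fixed_prod {h : G} (hh : h ∈ U t) (hc : Commute h (t * u₁)) : h ∈ zpowers y :=
  E.fixed₁ hh (by simpa [← mul_assoc, E.t_sq] using (E.U_mem hh).mul_right hc)

/-! ## Commutators in `Q` -/

theorem x_Q_comm {q : G} (hq : q ∈ rCore r t) : Commute q x := E.x_central q (E.Q_le hq)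

/-- Commutators of `Q` lie in `⟨x⟩`. -/
theorem comm_mem {a b : G} (ha : a ∈ rCore r t) (hb : b ∈ rCore r t) :
    a * b * a⁻¹ * b⁻¹ ∈ zpowers x := by
  haveI := E.fact
  set Q := rCore r t with hQ
  set Z := (zpowers x).subgroupOf Q with hZ
  haveI hZn : Z.Normal := ⟨fun z hz g => by
    obtain ⟨k, hk⟩ := mem_subgroupOf.1 hz
    refine mem_subgroupOf.2 ⟨k, ?_⟩
    rw [Subgroup.coe_mul, Subgroup.coe_mul, InvMemClass.coe_inv, ← hk]
    exact (conj_eq_of_commute ((E.x_Q_comm g.2).zpow_right k)).symm⟩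
  have hcard : Nat.card (Q ⧸ Z) = r ^ 2 := by
    have h1 := Z.card_eq_card_quotient_mul_card_subgroup
    rw [show Nat.card Z = r by
      rw [hZ, Nat.card_congr (subgroupOfEquivOfLe (zpowers_le.2 E.x_mem)).toEquiv, Nat.card_zpowers,
        E.x_order], E.card_Q] at h1
    exact Nat.eq_of_mul_eq_mul_right E.prime.pos (by rw [← h1, pow_succ])
  have hmul := IsPGroup.commutative_of_card_eq_prime_sq hcard (⟨a, ha⟩ : Q) (⟨b, hb⟩ : Q)
  rw [← QuotientGroup.mk_mul, ← QuotientGroup.mk_mul, QuotientGroup.eq] at hmul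
  have h2 : ((⟨a, ha⟩ * ⟨b, hb⟩ : Q)⁻¹ * (⟨b, hb⟩ * ⟨a, ha⟩) : Q).1 ∈ zpowers x :=
    mem_subgroupOf.1 hmul
  obtain ⟨k, hk⟩ := h2
  refine ⟨-k, ?_⟩
  have hk' : x ^ k = (a * b)⁻¹ * (b * a) := hk
  show x ^ (-k) = _
  have h3 : a * b * a⁻¹ * b⁻¹ = (b * a) * (x ^ k)⁻¹ * (b * a)⁻¹ := by rw [hk']; group
  rw [h3, zpow_neg, conj_eq_of_commute]
  exact ((E.x_Q_comm (mul_mem hb ha)).zpow_right k).inv_right

/-- Some element of `Q` moves `y` by a generator of `⟨x⟩`. -/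
theorem exists_moving_y : ∃ b ∈ rCore r t, ∃ k : ℕ, ¬ r ∣ k ∧ b * y * b⁻¹ = y * x ^ k := by
  haveI := E.fact
  obtain ⟨b, hb, hby⟩ : ∃ b ∈ rCore r t, ¬ Commute b y := by
    by_contra hno
    push Not at hno
    have hle : rCore r t ≤ zpowers y ⊔ zpowers x := by
      intro q hq
      have h1 : q ∈ U t ⊓ centralizer ({y} : Set G) :=
        ⟨E.Q_le hq, mem_centralizer_of_commute (hno q hq)⟩
      rw [E.centralizer_y] at h1
      have hKn : zpowers y ⊔ zpowers x ≤ normalizer (K : Set G) :=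
        sup_le (zpowers_le.2 (E.K_normal (E.U_C E.y_U))) (zpowers_le.2 (E.K_normal (E.U_C E.x_U)))
      obtain ⟨a, ha, k, hk, rfl⟩ := (CfsgLib.Core.mem_sup_iff_mul hKn).1 h1
      suffices k = 1 by rw [this, mul_one]; exact ha
      have hkQ : k ∈ rCore r t := by
        have := mul_mem (inv_mem (sup_le (zpowers_le.2 E.y_mem) (zpowers_le.2 E.x_mem) ha)) hq
        rwa [inv_mul_cancel_left] at this
      obtain ⟨j, hj⟩ := E.isP_Q ⟨k, hkQ⟩
      refine orderOf_eq_one_iff.1 (Nat.eq_one_of_dvd_coprimes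
        ((E.prime.coprime_iff_not_dvd.2 E.K_coprime).pow_left j) ?_ (Subgroup.orderOf_dvd_natCard K hk))
      exact orderOf_dvd_of_pow_eq_one (congrArg Subtype.val hj)
    have hn : zpowers y ≤ normalizer (zpowers x : Set G) := zpowers_le.2
      (CfsgLib.GW.mem_normalizer_of_conj fun a ha => by
        obtain ⟨k, rfl⟩ := ha
        rw [conj_eq_of_commute ((E.x_central y E.y_U).zpow_right k)]
        exact zpow_mem (mem_zpowers x) k)
    obtain ⟨a, ha, c, hc, hac⟩ := E.nonab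
    refine hac ?_
    obtain ⟨_, ⟨i, rfl⟩, _, ⟨j, rfl⟩, rfl⟩ := (CfsgLib.Core.mem_sup_iff_mul hn).1 (hle ha)
    obtain ⟨_, ⟨i', rfl⟩, _, ⟨j', rfl⟩, rfl⟩ := (CfsgLib.Core.mem_sup_iff_mul hn).1 (hle hc)
    have hxy : Commute x y := (E.x_central y E.y_U).symm
    exact (((Commute.refl y).zpow_zpow i i').mul_right (hxy.symm.zpow_zpow i j')).mul_left
      ((hxy.zpow_zpow j i').mul_right ((Commute.refl x).zpow_zpow j j'))
  obtain ⟨c, hc⟩ := E.comm_mem hb E.y_mem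
  have hc' : x ^ c = b * y * b⁻¹ * y⁻¹ := hc
  haveI : NeZero r := ⟨E.prime.ne_zero⟩
  refine ⟨b, hb, (c % r).toNat, fun hd => hby ?_, ?_⟩
  · refine commute_of_conj_eq ?_
    have h0 : x ^ c = 1 := by
      have hr0 : (0 : ℤ) ≤ c % r := Int.emod_nonneg _ (Int.natCast_ne_zero.2 E.prime.ne_zero)
      have h2 : (c % r).toNat = 0 := by
        refine Nat.eq_zero_of_dvd_of_lt hd ?_
        have := Int.emod_lt_of_pos c (Int.natCast_pos.2 E.prime.pos)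
        omega
      rw [← zpow_mod_orderOf, E.x_order, show c % (r : ℤ) = 0 by omega, zpow_zero]
    rw [h0] at hc'
    exact mul_inv_eq_one.1 hc'.symm
  · rw [← zpow_natCast, Int.toNat_of_nonneg (Int.emod_nonneg _ (Int.natCast_ne_zero.2 E.prime.ne_zero)),
      ← E.x_order, zpow_mod_orderOf, ((E.x_central y E.y_U).zpow_right c).eq, hc', inv_mul_cancel_right]

/-! ## Rotations -/

theorem rot_inv : u₁ * (u₁ * u₂) * u₁⁻¹ = (u₁ * u₂)⁻¹ := by
  rw [mul_inv_rev, involution_inv E.frame.hu₁, involution_inv E.frame.hu₂,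
    ← mul_assoc u₁ u₁ u₂, E.u₁_sq, one_mul]

theorem rot_C : u₁ * u₂ ∈ centralizer ({t} : Set G) := mul_mem E.u₁_C E.u₂_C

theorem rot_pow : (u₁ * u₂) ^ 2 ^ σ.n = 1 := by rw [← E.frame.ord, pow_orderOf_eq_one]

theorem rot_y : Commute (u₁ * u₂) y := E.y_u₁.symm.mul_left E.y_u₂.symm

theorem rot_x : Commute (u₁ * u₂) x := by
  refine commute_of_conj_eq ?_
  rw [show u₁ * u₂ * x * (u₁ * u₂)⁻¹ = u₁ * (u₂ * x * u₂⁻¹) * u₁⁻¹ by group, E.x_inv₂,
    show u₁ * x⁻¹ * u₁⁻¹ = (u₁ * x * u₁⁻¹)⁻¹ by group, E.x_inv₁, inv_inv]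

theorem rot_K {k : G} (hk : k ∈ K) : Commute (u₁ * u₂) k := by
  refine commute_of_conj_eq ?_
  rw [show u₁ * u₂ * k * (u₁ * u₂)⁻¹ = u₁ * (u₂ * k * u₂⁻¹) * u₁⁻¹ by group, E.K_inv₂ k hk,
    show u₁ * k⁻¹ * u₁⁻¹ = (u₁ * k * u₁⁻¹)⁻¹ by group, E.K_inv₁ k hk, inv_inv]

/-- The abelian maximal subgroup of `Q` fixed by the rotations. -/
theorem rot_of_mem_A {a : G} (ha : a ∈ zpowers x ⊔ zpowers y) : Commute (u₁ * u₂) a := by
  have h : zpowers x ⊔ zpowers y ≤ centralizer ({u₁ * u₂} : Set G) :=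
    sup_le (zpowers_le.2 (mem_centralizer_of_commute E.rot_x.symm))
      (zpowers_le.2 (mem_centralizer_of_commute E.rot_y.symm))
  exact (commute_of_mem_centralizer (h ha)).symm

theorem conj_mem_A {q a : G} (hq : q ∈ rCore r t) (ha : a ∈ zpowers x ⊔ zpowers y) :
    q * a * q⁻¹ ∈ zpowers x ⊔ zpowers y := by
  have hA : zpowers x ⊔ zpowers y ≤ rCore r t := sup_le (zpowers_le.2 E.x_mem) (zpowers_le.2 E.y_mem)
  have := mul_mem (mem_sup_left (T := zpowers y) (E.comm_mem hq (hA ha))) ha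
  rwa [inv_mul_cancel_right] at this

/-- `u₁` and `u₂` invert `Q` modulo `⟨x, y⟩`. -/
theorem displace_A {s : G} (hs : s * s = 1) (hsC : s ∈ centralizer ({t} : Set G))
    (hfix : ∀ h ∈ U t, Commute h s → h ∈ zpowers y) {q : G} (hq : q ∈ rCore r t) :
    s * q * s⁻¹ * q ∈ zpowers x ⊔ zpowers y := by
  haveI := E.fact
  obtain ⟨c, hc, i, hi, hcs, his, rfl, -⟩ := exists_fixed_inverted
    (Setting.odd_of_pGroup E.r_ne_two E.isP_Q) hs (E.C_le_normalizer_Q hsC) hq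
  have hcA : c ∈ zpowers x ⊔ zpowers y := mem_sup_right (hfix c (E.Q_le hc) hcs)
  rw [show s * (c * i) * s⁻¹ * (c * i) = s * c * s⁻¹ * (s * i * s⁻¹) * c * i by group, his,
    conj_eq_of_commute hcs.symm]
  have := mul_mem hcA (E.conj_mem_A (inv_mem hi) hcA)
  rwa [inv_inv, ← mul_assoc, ← mul_assoc] at this

theorem rot_Q {q : G} (hq : q ∈ rCore r t) : Commute (u₁ * u₂) q := by
  haveI := E.fact
  set ρ := u₁ * u₂ with hρ
  have hA : zpowers x ⊔ zpowers y ≤ rCore r t := sup_le (zpowers_le.2 E.x_mem) (zpowers_le.2 E.y_mem)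
  have h2 := E.displace_A (involution_sq E.frame.hu₂) E.u₂_C
    (fun h hh hc => E.D₂ ▸ (⟨hh, mem_centralizer_of_commute hc⟩ : h ∈ D t u₂)) hq
  set q2 := u₂ * q * u₂⁻¹ with hq2
  have hq2Q : q2 ∈ rCore r t := (mem_normalizer_iff.1 (E.C_le_normalizer_Q E.u₂_C) q).1 hq
  have h1 := E.displace_A E.u₁_sq E.u₁_C (fun h hh hc => E.fixed₁ hh hc) hq2Q
  have hd : ρ * q * ρ⁻¹ * q⁻¹ ∈ zpowers x ⊔ zpowers y := by
    rw [show ρ * q * ρ⁻¹ * q⁻¹ = u₁ * q2 * u₁⁻¹ * q2 * (q * (q2 * q) * q⁻¹)⁻¹ by rw [hρ, hq2]; group]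
    exact mul_mem h1 (inv_mem (E.conj_mem_A hq h2))
  refine commute_of_displace E.rot_pow (E.rot_of_mem_A hd) ?_
  obtain ⟨j, hj⟩ := E.isP_Q ⟨_, hA hd⟩
  refine (Nat.Coprime.coprime_dvd_left (orderOf_dvd_of_pow_eq_one (congrArg Subtype.val hj)) ?_)
  exact (Nat.coprime_two_right.2 ((E.prime.odd_of_ne_two E.r_ne_two).pow)).pow_right _

theorem rot_Y {h : G} (hh : h ∈ rCore r t ⊔ K) : Commute (u₁ * u₂) h := by
  have hle : rCore r t ⊔ K ≤ centralizer ({u₁ * u₂} : Set G) :=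
    sup_le (fun q hq => mem_centralizer_of_commute (E.rot_Q hq).symm)
      (fun k hk => mem_centralizer_of_commute (E.rot_K hk).symm)
  exact (commute_of_mem_centralizer (hle hh)).symm

/-- The rotations centralise `O(C(t))`. -/
theorem rot_U {h : G} (hh : h ∈ U t) : Commute (u₁ * u₂) h := by
  set ρ := u₁ * u₂ with hρ
  set h2 := u₂ * h * u₂⁻¹ with hh2
  have hd : ρ * h * ρ⁻¹ * h⁻¹ ∈ rCore r t ⊔ K := by
    rw [show ρ * h * ρ⁻¹ * h⁻¹ = u₁ * h2 * u₁⁻¹ * h2 * (h * (h2 * h) * h⁻¹)⁻¹ by rw [hρ, hh2]; group]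
    exact mul_mem (E.top_inv₁ _ (E.conj_mem_U E.u₂_C hh))
      (inv_mem (E.conj_mem_Y (E.U_C hh) (E.top_inv₂ h hh)))
  refine commute_of_displace E.rot_pow (E.rot_Y hd) ?_
  exact (Nat.coprime_two_right.2 (E.U_odd (E.Y_le hd))).pow_right _

theorem u₂_act {h : G} (hh : h ∈ U t) : u₂ * h * u₂⁻¹ = u₁ * h * u₁⁻¹ := by
  conv_lhs => rw [show u₂ = u₁ * (u₁ * u₂) by rw [← mul_assoc, E.u₁_sq, one_mul]]
  rw [show u₁ * (u₁ * u₂) * h * (u₁ * (u₁ * u₂))⁻¹ = u₁ * ((u₁ * u₂) * h * (u₁ * u₂)⁻¹) * u₁⁻¹ by group,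
    conj_eq_of_commute (E.rot_U hh)]

theorem rot_zpow_U {h : G} (hh : h ∈ U t) (i : ℤ) : Commute ((u₁ * u₂) ^ i) h := (E.rot_U hh).zpow_left i

theorem u₁_rot (i : ℤ) : (u₁ * u₂) ^ i * u₁ = u₁ * (u₁ * u₂) ^ (-i) := by
  have h1 : u₁ * (u₁ * u₂) ^ (-i) * u₁⁻¹ = (u₁ * u₂) ^ i := by
    rw [← conj_zpow, E.rot_inv, inv_zpow, zpow_neg, inv_inv]
  rw [← h1, inv_mul_cancel_right]

theorem closure_cases {s : G} (hs : s ∈ closure ({u₁, u₂} : Set G)) :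
    ∃ i : ℤ, s = (u₁ * u₂) ^ i ∨ s = u₁ * (u₁ * u₂) ^ i := by
  induction hs using closure_induction with
  | mem z hz =>
    rcases hz with rfl | rfl
    · exact ⟨0, Or.inr (by rw [zpow_zero, mul_one])⟩
    · exact ⟨1, Or.inr (by rw [zpow_one, ← mul_assoc, E.u₁_sq, one_mul])⟩
  | one => exact ⟨0, Or.inl (zpow_zero _).symm⟩
  | mul a b _ _ iha ihb =>
    obtain ⟨i, rfl | rfl⟩ := iha <;> obtain ⟨j, rfl | rfl⟩ := ihb
    · exact ⟨i + j, Or.inl (zpow_add _ i j).symm⟩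
    · exact ⟨-i + j, Or.inr (by rw [zpow_add, ← mul_assoc, E.u₁_rot, mul_assoc])⟩
    · exact ⟨i + j, Or.inr (by rw [zpow_add, mul_assoc])⟩
    · refine ⟨-i + j, Or.inl ?_⟩
      rw [zpow_add, show u₁ * (u₁ * u₂) ^ i * (u₁ * (u₁ * u₂) ^ j) =
        u₁ * ((u₁ * u₂) ^ i * u₁) * (u₁ * u₂) ^ j by group, E.u₁_rot, ← mul_assoc u₁ u₁, E.u₁_sq, one_mul]
  | inv a _ iha =>
    obtain ⟨i, rfl | rfl⟩ := iha
    · exact ⟨-i, Or.inl (zpow_neg _ i).symm⟩
    · refine ⟨i, Or.inr ?_⟩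
      rw [mul_inv_rev, involution_inv E.frame.hu₁, ← zpow_neg, E.u₁_rot, neg_neg]

/-- `C(t) = O(C(t)) ⟨u₁, u₂⟩`, in coordinates. -/
theorem C_cases {c : G} (hc : Commute c t) :
    ∃ h ∈ U t, ∃ i : ℤ, c = h * (u₁ * u₂) ^ i ∨ c = h * (u₁ * (u₁ * u₂) ^ i) := by
  obtain ⟨h, hh, s, hs, rfl⟩ := E.frame.exists_mul hc
  obtain ⟨i, rfl | rfl⟩ := E.closure_cases hs
  exacts [⟨h, hh, i, Or.inl rfl⟩, ⟨h, hh, i, Or.inr rfl⟩]

theorem zpow_sq_eq {i : ℤ} (h : (u₁ * u₂) ^ i * (u₁ * u₂) ^ i = 1) :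
    (u₁ * u₂) ^ i = 1 ∨ (u₁ * u₂) ^ i = t := by
  obtain ⟨m, hm⟩ : ∃ m, σ.n = m + 1 := ⟨σ.n - 1, by have := σ.pos; omega⟩
  rw [← zpow_add, ← orderOf_dvd_iff_zpow_eq_one, E.frame.ord, hm, pow_succ, Nat.cast_mul, ← mul_two] at h
  obtain ⟨j, rfl⟩ : ((2 ^ m : ℕ) : ℤ) ∣ i := Int.dvd_of_mul_dvd_mul_right two_ne_zero h
  rw [zpow_mul, zpow_natCast, show m = σ.n - 1 by omega, E.frame.pow]
  rcases Int.even_or_odd j with ⟨l, rfl⟩ | ⟨l, rfl⟩
  · left; rw [← two_mul, zpow_mul, zpow_two, E.t_sq, one_zpow]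
  · right; rw [zpow_add, zpow_mul, zpow_two, E.t_sq, one_zpow, one_mul, zpow_one]

theorem u₁_not_zpow (i : ℤ) : u₁ ≠ (u₁ * u₂) ^ i := by
  intro e
  have h := conj_eq_of_commute (E.rot_zpow_U E.x_U i)
  rw [← e, E.x_inv₁] at h
  exact E.x_ne (eq_one_of_inv_self (E.U_odd E.x_U) h)

theorem refl_sq (i : ℤ) : u₁ * (u₁ * u₂) ^ i * (u₁ * (u₁ * u₂) ^ i) = 1 := by
  rw [show u₁ * (u₁ * u₂) ^ i * (u₁ * (u₁ * u₂) ^ i) = u₁ * ((u₁ * u₂) ^ i * u₁) * (u₁ * u₂) ^ i by group,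
    E.u₁_rot, ← mul_assoc u₁ u₁, E.u₁_sq, one_mul, zpow_neg, inv_mul_cancel]

theorem refl_act {h : G} (hh : h ∈ U t) (i : ℤ) :
    u₁ * (u₁ * u₂) ^ i * h * (u₁ * (u₁ * u₂) ^ i)⁻¹ = u₁ * h * u₁⁻¹ := by
  rw [show u₁ * (u₁ * u₂) ^ i * h * (u₁ * (u₁ * u₂) ^ i)⁻¹ =
    u₁ * ((u₁ * u₂) ^ i * h * ((u₁ * u₂) ^ i)⁻¹) * u₁⁻¹ by group, conj_eq_of_commute (E.rot_zpow_U hh i)]

theorem disjoint_rot {h : G} (hh : h ∈ U t) {i : ℤ} (e : h = (u₁ * u₂) ^ i) : h = 1 := by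
  refine orderOf_eq_one_iff.1 (Nat.eq_one_of_dvd_coprimes
    ((Nat.coprime_two_right.2 (E.U_odd hh)).pow_right σ.n) dvd_rfl ?_)
  refine orderOf_dvd_of_pow_eq_one ?_
  rw [e, ← zpow_natCast, ← zpow_mul, mul_comm, zpow_mul, zpow_natCast, E.rot_pow, one_zpow]

/-- Every involution of `C(t)` other than `t` is a conjugate of a frame reflection. -/
theorem exists_refl {j : G} (hj : Commute j t) (hjj : j * j = 1) (hj1 : j ≠ 1) (hjt : j ≠ t) :
    ∃ e ∈ U t, u₁ * e * u₁⁻¹ = e⁻¹ ∧ ∃ i : ℤ, j = e * (u₁ * (u₁ * u₂) ^ i) * e⁻¹ := by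
  obtain ⟨h, hh, i, rfl | rfl⟩ := E.C_cases hj
  · exfalso
    have hc := E.rot_zpow_U hh i
    have h1 : h * h * ((u₁ * u₂) ^ i * (u₁ * u₂) ^ i) = 1 := by
      calc h * h * ((u₁ * u₂) ^ i * (u₁ * u₂) ^ i)
          = h * (h * (u₁ * u₂) ^ i) * (u₁ * u₂) ^ i := by group
        _ = h * ((u₁ * u₂) ^ i * h) * (u₁ * u₂) ^ i := by rw [hc.eq]
        _ = h * (u₁ * u₂) ^ i * (h * (u₁ * u₂) ^ i) := by group
        _ = 1 := hjj
    have h2 : h * h = 1 := E.disjoint_rot (i := -(i + i)) (mul_mem hh hh) (by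
      rw [zpow_neg, zpow_add]; exact eq_inv_of_mul_eq_one_left h1)
    have hh1 : h = 1 := eq_one_of_inv_self (E.U_odd hh) (inv_eq_of_mul_eq_one_right h2)
    rw [h2, one_mul] at h1
    rw [hh1, one_mul] at hj1 hjt
    rcases E.zpow_sq_eq h1 with e | e
    exacts [hj1 e, hjt e]
  · set s := u₁ * (u₁ * u₂) ^ i with hs
    have hss : s⁻¹ = s := inv_eq_of_mul_eq_one_right (E.refl_sq i)
    have hinv : s * h * s⁻¹ = h⁻¹ := by
      rw [hss]
      refine eq_inv_of_mul_eq_one_right ?_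
      simpa [mul_assoc] using hjj
    obtain ⟨e, ⟨k, hk⟩, hee⟩ := exists_sq_root (E.U_odd hh)
    have hk' : h ^ k = e := hk
    have heU : e ∈ U t := hk' ▸ zpow_mem hh k
    have hes : s * e * s⁻¹ = e⁻¹ := by rw [← hk', ← conj_zpow, hinv, inv_zpow]
    refine ⟨e, heU, by rw [← E.refl_act heU i]; exact hes, i, ?_⟩
    calc h * s = e * (s * e * s⁻¹)⁻¹ * s := by rw [hes, inv_inv, hee]
      _ = e * s * e⁻¹ := by group

/-- The action of an involution of `C(t)` other than `t`. -/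
theorem invol_act {j : G} (hj : Commute j t) (hjj : j * j = 1) (hj1 : j ≠ 1) (hjt : j ≠ t) :
    ∃ e ∈ U t, ∀ h ∈ U t, j * h * j⁻¹ = e * (u₁ * (e⁻¹ * h * e) * u₁⁻¹) * e⁻¹ := by
  obtain ⟨e, he, -, i, rfl⟩ := E.exists_refl hj hjj hj1 hjt
  refine ⟨e, he, fun h hh => ?_⟩
  rw [← E.refl_act (mul_mem (mul_mem (inv_mem he) hh) he) i]
  group

theorem invol_inv_x {j : G} (hj : Commute j t) (hjj : j * j = 1) (hj1 : j ≠ 1) (hjt : j ≠ t) :
    j * x * j⁻¹ = x⁻¹ := by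
  obtain ⟨e, he, h⟩ := E.invol_act hj hjj hj1 hjt
  rw [h x E.x_U, show e⁻¹ * x * e = x by
    have := conj_eq_of_commute (E.x_central e⁻¹ (inv_mem he)); rwa [inv_inv] at this, E.x_inv₁]
  exact conj_eq_of_commute (E.x_central e he).inv_right

/-- An element of `O(C(t))` fixed by another involution of `C(t)` is conjugate into `⟨y⟩`. -/
theorem invol_fix {j h : G} (hj : Commute j t) (hjj : j * j = 1) (hj1 : j ≠ 1) (hjt : j ≠ t)
    (hh : h ∈ U t) (hfix : Commute h j) : h ^ r = 1 ∧ h ∈ rCore r t := by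
  obtain ⟨e, he, ha⟩ := E.invol_act hj hjj hj1 hjt
  have h1 := ha h hh
  rw [conj_eq_of_commute hfix.symm] at h1
  have h2 : e⁻¹ * h * e ∈ zpowers y := by
    refine E.fixed₁ (mul_mem (mul_mem (inv_mem he) hh) he) (commute_of_conj_eq ?_).symm
    conv_rhs => rw [h1]
    group
  obtain ⟨k, hk⟩ := h2
  have hk' : h = e * y ^ k * e⁻¹ := by rw [show y ^ k = e⁻¹ * h * e from hk]; group
  refine ⟨?_, ?_⟩
  · rw [hk', conj_pow, ← zpow_natCast, ← zpow_mul, mul_comm, zpow_mul, zpow_natCast, ← E.y_order,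
      pow_orderOf_eq_one, one_zpow, mul_one, mul_inv_cancel]
  · rw [hk']
    exact (mem_normalizer_iff.1 (E.C_le_normalizer_Q (E.U_C he)) _).1 (zpow_mem E.y_mem k)

/-- No non-trivial element of `O(C(t))` is fixed by one reflection and inverted by another. -/
theorem no_fix_inv {j j' a : G} (hj : Commute j t) (hjj : j * j = 1) (hj1 : j ≠ 1) (hjt : j ≠ t)
    (hj' : Commute j' t) (hjj' : j' * j' = 1) (hj1' : j' ≠ 1) (hjt' : j' ≠ t) (ha : a ∈ U t)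
    (hfix : Commute a j) (hinv : j' * a * j'⁻¹ = a⁻¹) : a = 1 := by
  obtain ⟨e, he, hact⟩ := E.invol_act hj hjj hj1 hjt
  obtain ⟨e', he', hact'⟩ := E.invol_act hj' hjj' hj1' hjt'
  set d := e' * (u₁ * (e'⁻¹ * e) * u₁⁻¹) * e⁻¹ with hd
  have hdU : d ∈ U t :=
    mul_mem (mul_mem he' (E.conj_mem_U E.u₁_C (mul_mem (inv_mem he') he))) (inv_mem he)
  refine eq_one_of_odd_inverts (E.U_odd ha) (E.U_odd hdU) ?_
  rw [← hinv, hact' a ha]
  conv_rhs => rw [show a = j * a * j⁻¹ from (conj_eq_of_commute hfix.symm).symm, hact a ha]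
  rw [hd]
  simp only [mul_inv_rev, inv_inv, involution_inv E.frame.hu₁, mul_assoc]

end CfsgLib.GW.Dne.Exceptional
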