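import Cfsg.Agent.Lib.GW.Dne.Exceptional.Refl

/-!
# The exceptional configuration: inducing `1 + sgn - θ^C` to the group
-/

set_option autoImplicit false

open scoped ComplexConjugate

namespace CfsgLib.GW.Dne.Exceptional

open Subgroup CfsgLib.GW CfsgLib.GW.Dne.Exc CfsgLib.Char CfsgLib.Char.Exceptional
open CfsgLib.Signalizer (involution_sq involution_inv involution_ne_one orderOf_conj)

universe u

variable {G : Type u} [Group G] [Fintype G] {σ : Hyp G} {t u₁ u₂ g₁ g₂ : G} {r : ℕ} {x y : G}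
  {K : Subgroup G} (E : Exceptional σ t u₁ u₂ g₁ g₂ r x y K)

/-- The support: `h ρ` with `θ` non-trivial. -/
def Supp (E : Exceptional σ t u₁ u₂ g₁ g₂ r x y K) (l : U t →* ℂˣ) : Set G :=
  {c | c ∈ E.C0 ∧ E.theta l c ≠ 1}

include E

theorem theta_conj_outer {l : U t →* ℂˣ} (hl : ∀ h : U t, (h : G) ∈ rCore r t ⊔ K → l h = 1) {c a : G}
    (hc : c ∈ centralizer ({t} : Set G)) (hc0 : c ∉ E.C0) (ha : a ∈ E.C0) :
    E.theta l (c * a * c⁻¹) = (E.theta l a)⁻¹ := by
  have h := (E.refl_mem_or hc).resolve_left hc0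
  rw [show c * a * c⁻¹ = c * u₁ * (u₁⁻¹ * a * u₁⁻¹⁻¹) * (c * u₁)⁻¹ by group, inv_inv,
    involution_inv E.frame.hu₁]
  have e : u₁ * a * u₁ = u₁ * a * u₁⁻¹ := by rw [involution_inv E.frame.hu₁]
  rw [e, E.theta_conj_C0 l h (E.conj_u₁_mem ha), E.theta_conj_u₁ hl ha]

/-- `special` is induced from `1 - θ`. -/
theorem special_eq [Fintype (centralizer ({t} : Set G))] {l : U t →* ℂˣ}
    (hl : ∀ h : U t, (h : G) ∈ rCore r t ⊔ K → l h = 1) :
    E.special l = Cfsg.indFun (E.C0.subgroupOf (centralizer ({t} : Set G)))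
      ((fun _ : E.C0.subgroupOf (centralizer ({t} : Set G)) => (1 : ℂ)) -
        fun a : E.C0.subgroupOf (centralizer ({t} : Set G)) =>
          E.theta l ((a : centralizer ({t} : Set G)) : G)) := by
  classical
  funext c
  set C0' := E.C0.subgroupOf (centralizer ({t} : Set G)) with hC0'
  set φ : C0' → ℂ := (fun _ : C0' => (1 : ℂ)) - fun a : C0' => E.theta l ((a : (centralizer ({t} : Set G))) : G) with hφ
  have hval : ∀ z : (centralizer ({t} : Set G)), (z : G) ∈ E.C0 → Cfsg.extendByZero C0' φ z = 1 - E.theta l z := fun z hz => by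
    rw [extendByZero_of_mem C0' φ (mem_subgroupOf.2 hz), hφ]; rfl
  by_cases hc : (c : G) ∈ E.C0
  · have key : ∀ z : (centralizer ({t} : Set G)), Cfsg.extendByZero C0' φ (z⁻¹ * c * z) =
        if (z : G) ∈ E.C0 then 1 - E.theta l c else 1 - (E.theta l c)⁻¹ := by
      intro z
      have hz : ((z⁻¹ * c * z : (centralizer ({t} : Set G))) : G) = (z : G)⁻¹ * c * (z : G)⁻¹⁻¹ := by push_cast; rw [inv_inv]
      rw [hval _ (by rw [hz]; exact E.conj_C0 (inv_mem z.2) hc), hz]
      by_cases hz0 : (z : G) ∈ E.C0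
      · rw [if_pos hz0, E.theta_conj_C0 l (inv_mem hz0) hc]
      · rw [if_neg hz0, E.theta_conj_outer hl (inv_mem z.2) (fun h => hz0 (inv_mem_iff.1 h)) hc]
    have hc1 : ((Finset.univ : Finset (centralizer ({t} : Set G))).filter fun z : (centralizer ({t} : Set G)) => (z : G) ∈ E.C0).card = Nat.card C0' := by
      rw [Nat.card_eq_fintype_card, ← Fintype.card_subtype]
      exact Fintype.card_congr (Equiv.subtypeEquivRight fun z => mem_subgroupOf.symm)
    have hc2 : ((Finset.univ : Finset (centralizer ({t} : Set G))).filter fun z : (centralizer ({t} : Set G)) => ¬ (z : G) ∈ E.C0).card = Nat.card C0' := by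
      have h := Finset.card_filter_add_card_filter_not (s := (Finset.univ : Finset (centralizer ({t} : Set G))))
        (fun z : (centralizer ({t} : Set G)) => (z : G) ∈ E.C0)
      rw [hc1, Finset.card_univ, ← Nat.card_eq_fintype_card, E.card_C, E.card_C0] at h
      rw [E.card_C0]
      rw [show 2 * 2 ^ σ.n * Nat.card (U t) = 2 ^ σ.n * Nat.card (U t) + 2 ^ σ.n * Nat.card (U t) by ring]
        at h
      exact Nat.add_left_cancel h
    simp only [Cfsg.indFun, key, Finset.sum_ite, Finset.sum_const, nsmul_eq_mul]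
    rw [hc1, hc2, special, if_pos hc]
    have : (Nat.card C0' : ℂ) ≠ 0 := Nat.cast_ne_zero.2 Nat.card_pos.ne'
    field_simp
    ring
  · rw [special, if_neg hc]
    simp only [Cfsg.indFun]
    rw [Finset.sum_eq_zero, mul_zero]
    intro z _
    refine extendByZero_of_notMem C0' φ fun h => hc ?_
    have := E.conj_C0 z.2 (mem_subgroupOf.1 h)
    push_cast at this
    simpa [mul_assoc] using this

/-- Only `t` is an involution of the centraliser of a top element. -/
theorem eq_t_of_commute (hC : CoreFixed G) (hB : OneComponent G) {h j : G} (hh : h ∈ U t)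
    (hY : h ∉ rCore r t ⊔ K) (hj : Commute h j) (hjo : orderOf j = 2) : j = t := by
  by_contra hne
  have hjt := commute_of_mem_centralizer
    (E.centralizer_top_le hC hB hh hY (mem_centralizer_of_commute hj.symm))
  exact hY (mem_sup_left (E.invol_fix hjt (involution_sq hjo) (involution_ne_one hjo) hne hh hj).2)

/-- The power killing the rotations. -/
theorem pow_coords {h : G} (hh : h ∈ U t) (i : ℤ) : (h * (u₁ * u₂) ^ i) ^ 2 ^ σ.n = h ^ 2 ^ σ.n := by
  have hc : Commute h ((u₁ * u₂) ^ i) := (E.rot_zpow_U hh i).symm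
  rw [hc.mul_pow, ← zpow_natCast ((u₁ * u₂) ^ i), ← zpow_mul, mul_comm, zpow_mul, zpow_natCast, E.rot_pow,
    one_zpow, mul_one]

theorem pow_top {l : U t →* ℂˣ} (hl : ∀ h : U t, (h : G) ∈ rCore r t ⊔ K → l h = 1) {h : U t}
    (hh : l h ≠ 1) : (h : G) ^ 2 ^ σ.n ∉ rCore r t ⊔ K := by
  intro hY
  refine hh (orderOf_eq_one_iff.1 (Nat.eq_one_of_dvd_coprimes
    ((Nat.coprime_two_right.2 (E.U_odd h.2)).pow_right σ.n) ?_ (orderOf_dvd_of_pow_eq_one ?_)))
  · exact (orderOf_map_dvd l h).trans (by rw [Subgroup.orderOf_coe])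
  · rw [← map_pow]
    exact hl _ (by rw [coe_pow]; exact hY)

theorem mem_supp {l : U t →* ℂˣ} {c : G} (hc : c ∈ E.Supp l) :
    ∃ h : U t, l h ≠ 1 ∧ ∃ i : ℤ, c = (h : G) * (u₁ * u₂) ^ i := by
  obtain ⟨⟨h, hh, i, rfl⟩, hne⟩ := hc
  exact ⟨⟨h, hh⟩, fun e => hne (by rw [E.theta_eq l hh, e, Units.val_one]), i, rfl⟩

theorem supp_TI (hC : CoreFixed G) (hB : OneComponent G) {l : U t →* ℂˣ}
    (hl : ∀ h : U t, (h : G) ∈ rCore r t ⊔ K → l h = 1) :
    ∀ g : G, g ∉ centralizer ({t} : Set G) → ∀ s ∈ E.Supp l, g * s * g⁻¹ ∉ E.Supp l := by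
  intro g hg s hs hs'
  obtain ⟨h, hh, i, rfl⟩ := E.mem_supp hs
  obtain ⟨h', hh', i', e⟩ := E.mem_supp hs'
  have e' := congrArg (· ^ 2 ^ σ.n) e
  simp only [conj_pow, E.pow_coords h.2, E.pow_coords h'.2] at e'
  refine hg (mem_centralizer_of_commute (commute_of_conj_eq ?_))
  refine E.eq_t_of_commute hC hB (pow_mem h'.2 _) (E.pow_top hl hh') ?_ (by rw [orderOf_conj]; exact E.ht)
  rw [← e']
  exact ((E.U_mem h.2).pow_left _).map (MulAut.conj g).toMonoidHom

theorem special_supp (l : U t →* ℂˣ) : ∀ c : centralizer ({t} : Set G), (c : G) ∉ E.Supp l → E.special l c = 0 := by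
  intro c hc
  unfold special
  by_cases h : (c : G) ∈ E.C0
  · have h1 : E.theta l c = 1 := by
      by_contra hne
      exact hc ⟨h, hne⟩
    rw [if_pos h, h1, inv_one]; norm_num
  · rw [if_neg h]

theorem supp_le (l : U t →* ℂˣ) : E.Supp l ⊆ (centralizer ({t} : Set G) : Set G) := fun _ hc => E.C0_le hc.1

theorem supp_inv (l : U t →* ℂˣ) : ∀ s ∈ E.Supp l, s⁻¹ ∈ E.Supp l := by
  intro s hs
  refine ⟨inv_mem hs.1, ?_⟩
  rw [← E.thetaHom_eq l ⟨s⁻¹, inv_mem hs.1⟩, show (⟨s⁻¹, inv_mem hs.1⟩ : E.C0) = ⟨s, hs.1⟩⁻¹ from rfl,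
    map_inv, Units.val_inv_eq_inv_val, E.thetaHom_eq l ⟨s, hs.1⟩]
  simpa using hs.2

/-- The values of the induced function on `t O(C(t))`. -/
theorem indFun_t [Fintype (centralizer ({t} : Set G))] (hC : CoreFixed G) (hB : OneComponent G)
    {l : U t →* ℂˣ} (hl : ∀ h : U t, (h : G) ∈ rCore r t ⊔ K → l h = 1)
    (hcl : Cfsg.IsClassFunction (centralizer ({t} : Set G)) (E.special l)) (h : U t) :
    Cfsg.indFun (centralizer ({t} : Set G)) (E.special l) (t * (h : G)) =
      2 - (l h : ℂ) - (l h : ℂ)⁻¹ := by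
  classical
  have ht0 : t * (h : G) = (h : G) * (u₁ * u₂) ^ ((2 ^ (σ.n - 1) : ℕ) : ℤ) := by
    rw [zpow_natCast, E.frame.pow, (E.U_mem h.2).eq]
  have hm : t * (h : G) ∈ E.C0 := ⟨h, h.2, _, ht0⟩
  have hθ : E.theta l (t * (h : G)) = (l h : ℂ) := by rw [ht0, E.theta_eq l h.2]
  by_cases hh : l h = 1
  · rw [hh, Units.val_one, inv_one, indFun_eq_zero_of_support (S := E.Supp l) (E.special_supp l)]
    · norm_num
    intro g hg
    obtain ⟨h', hh', i', e⟩ := E.mem_supp hg
    have e' := congrArg (· ^ 2 ^ σ.n) e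
    have htN : t ^ 2 ^ σ.n = 1 := by
      obtain ⟨m, hm⟩ : ∃ m, σ.n = m + 1 := ⟨σ.n - 1, by have := σ.pos; omega⟩
      rw [hm, pow_succ', pow_mul, pow_two, E.t_sq, one_pow]
    have hconj : (g⁻¹ * (t * (h : G)) * g) ^ 2 ^ σ.n = g⁻¹ * (h : G) ^ 2 ^ σ.n * g := by
      have h1 := conj_pow (a := g⁻¹) (b := t * (h : G)) (i := 2 ^ σ.n)
      rw [inv_inv] at h1
      rw [h1, (E.U_mem h.2).symm.mul_pow, htN, one_mul]
    rw [hconj, E.pow_coords h'.2] at e'
    have hgt : g⁻¹ * t * g⁻¹⁻¹ = t := by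
      refine E.eq_t_of_commute hC hB (pow_mem h'.2 _) (E.pow_top hl hh') ?_
        (by rw [orderOf_conj]; exact E.ht)
      rw [← e', inv_inv]
      have := ((E.U_mem h.2).pow_left (2 ^ σ.n)).map (MulAut.conj g⁻¹).toMonoidHom
      simpa using this
    have hgC : g⁻¹ ∈ centralizer ({t} : Set G) := mem_centralizer_of_commute (commute_of_conj_eq hgt)
    have := hg.2
    rw [show g⁻¹ * (t * (h : G)) * g = g⁻¹ * (t * (h : G)) * g⁻¹⁻¹ by group] at this
    rcases E.theta_conj hl hgC hm with e2 | e2 <;> rw [e2, hθ, hh] at this <;> simp at this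
  · have hs : t * (h : G) ∈ E.Supp l := ⟨hm, by
      rw [hθ]; exact fun e => hh (Units.ext e)⟩
    rw [ti_indFun_eq (E.supp_TI hC hB hl) hcl (E.special_supp l)
      (x := ⟨t * (h : G), E.C0_le hm⟩) hs, special, if_pos hm, hθ]

/-- The sum of the induced function over products of involutions in `C(t)`. -/
theorem special_pair_sum {l : U t →* ℂˣ} (hl : ∀ h : U t, (h : G) ∈ rCore r t ⊔ K → l h = 1)
    (hne : ∃ h : U t, l h ≠ 1) :
    (∑ᶠ p ∈ {p : centralizer ({t} : Set G) × centralizer ({t} : Set G) |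
        IsConj t (p.1 : G) ∧ IsConj t (p.2 : G)}, E.special l (p.1 * p.2)) =
      2 * (((2 ^ σ.n : ℕ) : ℂ) * (Nat.card (Inv t u₁) : ℂ)) ^ 2 := by
  classical
  haveI := Fintype.ofFinite (centralizer ({t} : Set G))
  haveI := Fintype.ofFinite (U t)
  haveI := Fintype.ofFinite (Inv t u₁)
  rw [finsum_mem_eq_toFinset_sum]
  let ψ : Fin (2 ^ σ.n) × Inv t u₁ → centralizer ({t} : Set G) := fun p => ⟨E.reflOf p, E.reflOf_C p⟩
  have hψ : Function.Injective ψ := fun p q e => E.reflOf_injective (congrArg Subtype.val e)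
  have hconj : ∀ j : G, orderOf j = 2 → IsConj t j := fun j hj => σ.one_class t j E.ht hj
  have hord : ∀ j : G, IsConj t j → orderOf j = 2 := fun j hj => by
    obtain ⟨c, rfl⟩ := isConj_iff.1 hj
    rw [orderOf_conj]; exact E.ht
  have hpair : Function.Injective (fun pq : (Fin (2 ^ σ.n) × Inv t u₁) × (Fin (2 ^ σ.n) × Inv t u₁) =>
      (ψ pq.1, ψ pq.2)) := fun a b e => by
    rw [Prod.ext_iff] at e
    exact Prod.ext (hψ e.1) (hψ e.2)
  rw [← Finset.sum_subset (s₁ := Finset.univ.image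
    (fun pq : (Fin (2 ^ σ.n) × Inv t u₁) × (Fin (2 ^ σ.n) × Inv t u₁) => (ψ pq.1, ψ pq.2)))]
  · rw [Finset.sum_image (fun a _ b _ e => hpair e)]
    have hval : ∀ pq : (Fin (2 ^ σ.n) × Inv t u₁) × (Fin (2 ^ σ.n) × Inv t u₁),
        E.special l (ψ pq.1 * ψ pq.2) =
          2 - (l pq.1.2.1 : ℂ) * (l pq.2.2.1 : ℂ)⁻¹ - (l pq.1.2.1 : ℂ)⁻¹ * (l pq.2.2.1 : ℂ) := by
      intro pq
      obtain ⟨h1, h2⟩ := E.theta_pair l pq.1 pq.2
      unfold special
      rw [if_pos (show ((ψ pq.1 * ψ pq.2 : centralizer ({t} : Set G)) : G) ∈ E.C0 from h1),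
        show E.theta l ((ψ pq.1 * ψ pq.2 : centralizer ({t} : Set G)) : G) = _ from h2, mul_inv, inv_inv]
    simp only [hval]
    have hs : ∑ p : Fin (2 ^ σ.n) × Inv t u₁, (l p.2.1 : ℂ) = 0 := by
      rw [Fintype.sum_prod_type]
      dsimp only
      rw [E.sum_Inv hl hne, Finset.sum_const_zero]
    rw [Finset.sum_sub_distrib, Finset.sum_sub_distrib]
    simp only [Fintype.sum_prod_type (α₁ := Fin (2 ^ σ.n) × Inv t u₁), ← Finset.mul_sum, ← Finset.sum_mul, hs,
      Finset.sum_const, Finset.card_univ, nsmul_eq_mul, Fintype.card_prod, Fintype.card_fin,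
      Nat.card_eq_fintype_card]
    push_cast
    ring
  · intro pq hpq
    obtain ⟨⟨a, b⟩, -, rfl⟩ := Finset.mem_image.1 hpq
    simp only [Set.mem_toFinset, Set.mem_ofPred_eq]
    exact ⟨hconj _ (E.orderOf_reflOf a), hconj _ (E.orderOf_reflOf b)⟩
  · intro pq hpq hnot
    simp only [Set.mem_toFinset, Set.mem_ofPred_eq] at hpq
    by_contra hne0
    have hin : ∀ j : centralizer ({t} : Set G), IsConj t (j : G) → (j : G) ≠ t →
        ∃ p, ψ p = j := fun j hj hjt => by
      obtain ⟨p, hp⟩ := E.exists_reflOf (commute_of_mem_centralizer j.2) (hord _ hj) hjt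
      exact ⟨p, Subtype.ext hp⟩
    have hC0 : ((pq.1 * pq.2 : centralizer ({t} : Set G)) : G) ∈ E.C0 := by
      by_contra h
      exact hne0 (by unfold special; rw [if_neg h])
    have ht1 : (pq.1 : G) = t ∨ (pq.2 : G) = t := by
      by_contra h
      push Not at h
      obtain ⟨a, ha⟩ := hin _ hpq.1 h.1
      obtain ⟨b, hb⟩ := hin _ hpq.2 h.2
      exact hnot (Finset.mem_image.2 ⟨(a, b), Finset.mem_univ _, by rw [ha, hb]⟩)
    have htt : (pq.1 : G) = t ∧ (pq.2 : G) = t := by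
      rw [Subgroup.coe_mul] at hC0
      rcases ht1 with e | e <;> rw [e] at hC0
      · refine ⟨e, ?_⟩
        by_contra h
        obtain ⟨b, hb⟩ := hin _ hpq.2 h
        refine E.reflOf_not_C0 b ?_
        have := mul_mem (inv_mem E.t_mem_C0) hC0
        rw [inv_mul_cancel_left] at this
        rwa [← hb] at this
      · refine ⟨?_, e⟩
        by_contra h
        obtain ⟨b, hb⟩ := hin _ hpq.1 h
        refine E.reflOf_not_C0 b ?_
        have := mul_mem hC0 (inv_mem E.t_mem_C0)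
        rw [mul_inv_cancel_right] at this
        rwa [← hb] at this
    refine hne0 ?_
    have h1 : ((pq.1 * pq.2 : centralizer ({t} : Set G)) : G) = 1 := by
      rw [Subgroup.coe_mul, htt.1, htt.2, E.t_sq]
    unfold special
    have hθ : E.theta l 1 = 1 := by
      have := E.theta_eq l (one_mem (U t)) 0
      rw [zpow_zero, mul_one, show (⟨1, one_mem _⟩ : U t) = 1 from rfl, map_one, Units.val_one] at this
      exact this
    rw [h1, if_pos (one_mem _), hθ, inv_one]; norm_num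

end CfsgLib.GW.Dne.Exceptional
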