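import Cfsg.Agent.Lib.GW.Basic
import Cfsg.Agent.Lib.Transfer.Conj

/-!
# The exceptional configuration: a four-group and an inverted element on an abelian group

`M` has prime exponent `w`, the fixed points of two involutions `μ`, `τ * μ` on it are cyclic and
`ξ` of prime order `r` commutes with `τ`, is inverted by `μ` and fixes what `τ` fixes.
-/

set_option autoImplicit false

namespace CfsgLib.GW.Dne.Exc

open Subgroup CfsgLib.GW

universe u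

variable {H : Type u} [Group H]

/-- The hypotheses on the action. -/
structure Plane (M : Subgroup H) (w r : ℕ) (τ μ ξ : H) : Prop where
  prime : w.Prime
  odd : w ≠ 2
  r_prime : r.Prime
  r_odd : r ≠ 2
  ne : w ≠ r
  comm : ∀ a ∈ M, ∀ b ∈ M, Commute a b
  exp : ∀ a ∈ M, a ^ w = 1
  nτ : τ ∈ normalizer (M : Set H)
  nμ : μ ∈ normalizer (M : Set H)
  nξ : ξ ∈ normalizer (M : Set H)
  τ_sq : τ * τ = 1
  μ_sq : μ * μ = 1
  τμ : Commute τ μ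
  ξτ : Commute ξ τ
  μξ : μ * ξ * μ⁻¹ = ξ⁻¹
  ξ_pow : ξ ^ r = 1
  fix : ∀ a ∈ M, Commute a τ → Commute a ξ
  cyc₁ : IsCyclic (M ⊓ centralizer ({μ} : Set H) : Subgroup H)
  cyc₂ : IsCyclic (M ⊓ centralizer ({τ * μ} : Set H) : Subgroup H)

/-- An element of the line of the given signs. -/
def InLine (M : Subgroup H) (τ μ a : H) : Prop :=
  a ∈ M ∧ τ * a * τ⁻¹ = a⁻¹ ∧ μ * a * μ⁻¹ = a

variable {M : Subgroup H} {w r : ℕ} {τ μ ξ : H}

namespace Plane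

variable (h : Plane M w r τ μ ξ)

include h

theorem symm : Plane M w r τ (τ * μ) ξ where
  prime := h.prime
  odd := h.odd
  r_prime := h.r_prime
  r_odd := h.r_odd
  ne := h.ne
  comm := h.comm
  exp := h.exp
  nτ := h.nτ
  nμ := mul_mem h.nτ h.nμ
  nξ := h.nξ
  τ_sq := h.τ_sq
  μ_sq := by
    rw [show τ * μ * (τ * μ) = τ * (μ * τ) * μ by group, ← h.τμ.eq,
      show τ * (τ * μ) * μ = τ * τ * (μ * μ) by group, h.τ_sq, h.μ_sq, one_mul]
  τμ := (Commute.refl τ).mul_right h.τμ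
  ξτ := h.ξτ
  μξ := by
    rw [show τ * μ * ξ * (τ * μ)⁻¹ = τ * (μ * ξ * μ⁻¹) * τ⁻¹ by group, h.μξ,
      conj_eq_of_commute h.ξτ.symm.inv_right]
  ξ_pow := h.ξ_pow
  fix := h.fix
  cyc₁ := h.cyc₂
  cyc₂ := by rw [← mul_assoc, h.τ_sq, one_mul]; exact h.cyc₁

theorem conj_mem {g a : H} (hg : g ∈ normalizer (M : Set H)) (ha : a ∈ M) : g * a * g⁻¹ ∈ M :=
  (mem_normalizer_iff.1 hg a).1 ha

theorem line_symm {a : H} (haM : a ∈ M) (hτ : τ * a * τ⁻¹ = a⁻¹) (hμ : μ * a * μ⁻¹ = a⁻¹) :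
    InLine M τ (τ * μ) a :=
  ⟨haM, hτ, by
    rw [show τ * μ * a * (τ * μ)⁻¹ = τ * (μ * a * μ⁻¹) * τ⁻¹ by group, hμ,
      show τ * a⁻¹ * τ⁻¹ = (τ * a * τ⁻¹)⁻¹ by group, hτ, inv_inv]⟩

theorem of_line_symm {a : H} (ha : InLine M τ (τ * μ) a) : μ * a * μ⁻¹ = a⁻¹ := by
  have h1 := ha.2.2
  calc μ * a * μ⁻¹ = τ⁻¹ * (τ * μ * a * (τ * μ)⁻¹) * τ := by group
    _ = τ⁻¹ * (τ * a⁻¹ * τ⁻¹)⁻¹⁻¹ * τ := by rw [h1, show τ * a⁻¹ * τ⁻¹ = (τ * a * τ⁻¹)⁻¹ by group, ha.2.1, inv_inv]; group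
    _ = a⁻¹ := by group

theorem eq_one_of_sq {a : H} (ha : a ∈ M) (h2 : a * a = 1) : a = 1 := by
  refine eq_one_of_inv_self ((h.prime.odd_of_ne_two h.odd).of_dvd_nat ?_) (inv_eq_of_mul_eq_one_right h2)
  exact orderOf_dvd_of_pow_eq_one (h.exp a ha)

/-- A non-trivial element of a line generates it. -/
theorem mem_line {p q : H} (hp : InLine M τ μ p) (hp1 : p ≠ 1) (hq : InLine M τ μ q) :
    ∃ i : ℤ, q = p ^ i := by
  haveI := h.cyc₁
  obtain ⟨⟨g, hg⟩, hgen⟩ := IsCyclic.exists_generator (α := ↥(M ⊓ centralizer ({μ} : Set H)))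
  have hmem : ∀ {a : H}, InLine M τ μ a → ∃ k : ℤ, a = g ^ k := by
    intro a ha
    obtain ⟨k, hk⟩ := hgen ⟨a, ha.1, mem_centralizer_of_commute (commute_of_conj_eq ha.2.2).symm⟩
    exact ⟨k, (congrArg Subtype.val hk).symm⟩
  obtain ⟨a, rfl⟩ := hmem hp
  obtain ⟨b, rfl⟩ := hmem hq
  have hgw : g ^ (w : ℤ) = 1 := by rw [zpow_natCast]; exact h.exp g hg.1
  have hcop : Int.gcd a w = 1 := by
    by_contra hne
    refine hp1 ?_
    have h1 : Int.gcd a w ∣ w := Int.natCast_dvd_natCast.1 (Int.gcd_dvd_right a w)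
    have h2 : ((w : ℤ)) ∣ a := by
      have := Int.gcd_dvd_left a w
      rwa [((Nat.dvd_prime h.prime).1 h1).resolve_left hne] at this
    obtain ⟨c, rfl⟩ := h2
    rw [zpow_mul, hgw, one_zpow]
  refine ⟨Int.gcdA a w * b, ?_⟩
  have h1 : (1 : ℤ) = a * Int.gcdA a w + w * Int.gcdB a w := by
    rw [← Int.gcd_eq_gcd_ab, hcop]; rfl
  calc g ^ b = g ^ ((a * Int.gcdA a w + w * Int.gcdB a w) * b) := by rw [← h1, one_mul]
    _ = (g ^ a) ^ (Int.gcdA a w * b) := by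
      rw [add_mul, zpow_add, mul_assoc (w : ℤ), zpow_mul g (w : ℤ), hgw, one_zpow, mul_one, mul_assoc,
        zpow_mul]

/-- Elements inverted by `τ` split into the two lines. -/
theorem decomp {a : H} (ha : a ∈ M) (hτ : τ * a * τ⁻¹ = a⁻¹) :
    ∃ b c, InLine M τ μ b ∧ InLine M τ (τ * μ) c ∧ a = b * c := by
  obtain ⟨j, hj⟩ := h.prime.odd_of_ne_two h.odd
  set a' := μ * a * μ⁻¹ with ha'
  have ha'M : a' ∈ M := h.conj_mem h.nμ ha
  have hca : Commute a a' := h.comm a ha a' ha'M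
  have hμi : μ⁻¹ = μ := inv_eq_of_mul_eq_one_right h.μ_sq
  have hτa' : τ * a' * τ⁻¹ = a'⁻¹ := by
    rw [ha', show τ * (μ * a * μ⁻¹) * τ⁻¹ = (τ * μ) * a * (τ * μ)⁻¹ by group, h.τμ.eq,
      show μ * τ * a * (μ * τ)⁻¹ = μ * (τ * a * τ⁻¹) * μ⁻¹ by group, hτ]
    group
  have hμa' : μ * a' * μ⁻¹ = a := by
    rw [ha', show μ * (μ * a * μ⁻¹) * μ⁻¹ = (μ * μ) * a * (μ * μ)⁻¹ by group, h.μ_sq]; group
  refine ⟨(a * a') ^ (j + 1), (a * a'⁻¹) ^ (j + 1), ⟨pow_mem (mul_mem ha ha'M) _, ?_, ?_⟩,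
    h.line_symm (pow_mem (mul_mem ha (inv_mem ha'M)) _) ?_ ?_, ?_⟩
  · rw [← conj_pow, ← inv_pow]
    congr 1
    rw [show τ * (a * a') * τ⁻¹ = τ * a * τ⁻¹ * (τ * a' * τ⁻¹) by group, hτ, hτa', mul_inv_rev a a']
    exact hca.inv_inv.eq
  · rw [← conj_pow]
    congr 1
    rw [show μ * (a * a') * μ⁻¹ = a' * (μ * a' * μ⁻¹) by rw [ha']; group, hμa', hca.eq]
  · rw [← conj_pow, ← inv_pow]
    congr 1
    rw [show τ * (a * a'⁻¹) * τ⁻¹ = τ * a * τ⁻¹ * (τ * a' * τ⁻¹)⁻¹ by group, hτ, hτa', mul_inv_rev a a'⁻¹,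
      inv_inv]
    exact hca.inv_left.eq
  · rw [← conj_pow, ← inv_pow]
    congr 1
    rw [show μ * (a * a'⁻¹) * μ⁻¹ = a' * (μ * a' * μ⁻¹)⁻¹ by rw [ha']; group, hμa', mul_inv_rev a a'⁻¹, inv_inv]
  · rw [← (h.comm _ (mul_mem ha ha'M) _ (mul_mem ha (inv_mem ha'M))).mul_pow,
      show a * a' * (a * a'⁻¹) = a * (a' * a) * a'⁻¹ by group, ← hca.eq,
      show a * (a * a') * a'⁻¹ = a * a by group, ← pow_two, ← pow_mul, show 2 * (j + 1) = w + 1 by omega,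
      pow_succ, h.exp a ha, one_mul]

/-- The two lines meet trivially. -/
theorem line_indep {b c : H} (hb : InLine M τ μ b) (hc : InLine M τ (τ * μ) c) (hbc : b * c = 1) :
    b = 1 ∧ c = 1 := by
  have hb' : b = c⁻¹ := eq_inv_of_mul_eq_one_left hbc
  have h1 := congrArg (fun z => μ * z * μ⁻¹) hb'
  simp only [hb.2.2] at h1
  rw [show μ * c⁻¹ * μ⁻¹ = (μ * c * μ⁻¹)⁻¹ by group, h.of_line_symm hc, inv_inv] at h1
  have hb1 : b = 1 := h.eq_one_of_sq hb.1 (by nth_rw 1 [h1]; nth_rw 1 [hb']; exact mul_inv_cancel c)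
  exact ⟨hb1, by rw [hb1, one_mul] at hbc; exact hbc⟩

theorem inverted_conj {a : H} (hτ : τ * a * τ⁻¹ = a⁻¹) : τ * (ξ * a * ξ⁻¹) * τ⁻¹ = (ξ * a * ξ⁻¹)⁻¹ := by
  rw [show τ * (ξ * a * ξ⁻¹) * τ⁻¹ = τ * ξ * a * (τ * ξ)⁻¹ by group, ← h.ξτ.eq,
    show ξ * τ * a * (ξ * τ)⁻¹ = ξ * (τ * a * τ⁻¹) * ξ⁻¹ by group, hτ]
  group

/-- A fixed non-trivial element of a line forces trivial action on the inverted part. -/
theorem trivial_of_fixed {p : H} (hp : InLine M τ μ p) (hp1 : p ≠ 1) (hpξ : Commute ξ p)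
    {q : H} (hq : InLine M τ (τ * μ) q) : Commute ξ q := by
  by_cases hq1 : q = 1
  · rw [hq1]; exact Commute.one_right ξ
  obtain ⟨b, c, hb, hc, e⟩ := h.decomp (h.conj_mem h.nξ hq.1) (h.inverted_conj hq.2.1)
  obtain ⟨i, hi⟩ := h.mem_line hp hp1 hb
  obtain ⟨l, hl⟩ := h.symm.mem_line hq hq1 hc
  have hbξ : Commute ξ b := hi ▸ hpξ.zpow_right i
  have hμi : μ⁻¹ = μ := inv_eq_of_mul_eq_one_right h.μ_sq
  have h' : ξ⁻¹ * q * ξ = b⁻¹ * c := by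
    have h1 := congrArg (fun z => (μ * z * μ⁻¹)⁻¹) e
    simp only [show μ * (b * c) * μ⁻¹ = μ * b * μ⁻¹ * (μ * c * μ⁻¹) by group, hb.2.2, h.of_line_symm hc,
      mul_inv_rev, inv_inv] at h1
    rw [(h.comm b⁻¹ (inv_mem hb.1) c hc.1).eq, ← h1]
    calc ξ⁻¹ * q * ξ = ξ⁻¹ * q⁻¹⁻¹ * ξ := by group
      _ = (μ * ξ * μ⁻¹) * (μ * q * μ⁻¹)⁻¹ * (μ * ξ * μ⁻¹)⁻¹ := by rw [h.μξ, h.of_line_symm hq]; group
      _ = _ := by group
  have hq' : q = b⁻¹ * (b * c) ^ l := by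
    calc q = ξ * (ξ⁻¹ * q * ξ) * ξ⁻¹ := by group
      _ = ξ * b⁻¹ * ξ⁻¹ * (ξ * q ^ l * ξ⁻¹) := by rw [h', hl]; group
      _ = b⁻¹ * (ξ * q * ξ⁻¹) ^ l := by rw [conj_eq_of_commute hbξ.inv_right, conj_zpow]
      _ = _ := by rw [e]
  have hrel : b ^ (l - 1) * q ^ (l * l - 1) = 1 := by
    have hbc : Commute b c := h.comm b hb.1 c hc.1
    rw [hbc.mul_zpow, hl, ← zpow_mul, ← mul_assoc, ← zpow_neg_one, ← zpow_add] at hq'
    rw [show l - 1 = -1 + l by ring, sub_eq_add_neg (l * l), zpow_add q, ← mul_assoc, ← hq', zpow_neg_one,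
      mul_inv_cancel]
  obtain ⟨hb1, hq2⟩ := h.line_indep (b := b ^ (l - 1)) (c := q ^ (l * l - 1))
    ⟨zpow_mem hb.1 _, by rw [← conj_zpow, hb.2.1, inv_zpow], by rw [← conj_zpow, hb.2.2]⟩
    ⟨zpow_mem hq.1 _, by rw [← conj_zpow, hq.2.1, inv_zpow], by rw [← conj_zpow, hq.2.2]⟩ hrel
  have hord : orderOf q = w := by
    haveI := Fact.mk h.prime
    exact orderOf_eq_prime (h.exp q hq.1) hq1
  have hdvd : (w : ℤ) ∣ (l - 1) * (l + 1) := by
    rw [← hord, orderOf_dvd_iff_zpow_eq_one]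
    rw [show (l - 1) * (l + 1) = l * l - 1 by ring]; exact hq2
  have hstep : ∀ m : ℕ, ∀ d : H, Commute ξ d → ξ * q * ξ⁻¹ = d * q →
      ξ ^ m * q * (ξ ^ m)⁻¹ = d ^ m * q := by
    intro m d hd hdq
    induction m with
    | zero => simp
    | succ m ih =>
      calc ξ ^ (m + 1) * q * (ξ ^ (m + 1))⁻¹ = ξ ^ m * (ξ * q * ξ⁻¹) * (ξ ^ m)⁻¹ := by
            rw [pow_succ]; group
        _ = ξ ^ m * d * q * (ξ ^ m)⁻¹ := by rw [hdq]; group
        _ = d * ξ ^ m * q * (ξ ^ m)⁻¹ := by rw [(hd.pow_left m).eq]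
        _ = d * (ξ ^ m * q * (ξ ^ m)⁻¹) := by group
        _ = d ^ (m + 1) * q := by rw [ih, pow_succ']; group
  rcases (Nat.prime_iff_prime_int.1 h.prime).dvd_or_dvd hdvd with hd | hd
  · have hcq : c = q := by
      have := orderOf_dvd_iff_zpow_eq_one.1 (hord.symm ▸ hd : (orderOf q : ℤ) ∣ l - 1)
      rw [hl, show l = (l - 1) + 1 by ring, zpow_add, this, zpow_one, one_mul]
    have h1 := hstep r b hbξ (by rw [e, hcq])
    rw [h.ξ_pow, one_mul, inv_one, mul_one, right_eq_mul] at h1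
    have hb0 : b = 1 := by
      refine orderOf_eq_one_iff.1 (Nat.eq_one_of_dvd_coprimes
        ((Nat.coprime_primes h.prime h.r_prime).2 h.ne) ?_ (orderOf_dvd_of_pow_eq_one h1))
      exact orderOf_dvd_of_pow_eq_one (h.exp b hb.1)
    exact commute_of_conj_eq (by rw [e, hb0, hcq, one_mul])
  · exfalso
    have hcq : c = q⁻¹ := by
      have := orderOf_dvd_iff_zpow_eq_one.1 (hord.symm ▸ hd : (orderOf q : ℤ) ∣ l + 1)
      rw [hl, show l = (l + 1) + (-1) by ring, zpow_add, this, one_mul, zpow_neg_one]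
    have hb0 : b = 1 := by
      have h2 : b ^ (l + 1) = 1 := by
        obtain ⟨k, hk⟩ := hd
        rw [hk, zpow_mul, zpow_natCast, h.exp b hb.1, one_zpow]
      have h3 : b ^ (2 : ℤ) = 1 := by
        rw [show (2 : ℤ) = (l + 1) - (l - 1) by ring, zpow_sub, h2, hb1, inv_one, one_mul]
      exact h.eq_one_of_sq hb.1 (by rw [← pow_two, ← zpow_natCast]; exact h3)
    have hflip : ξ * q * ξ⁻¹ = q⁻¹ := by rw [e, hb0, hcq, one_mul]
    have key : ∀ m : ℕ, ξ ^ m * q * (ξ ^ m)⁻¹ = if Odd m then q⁻¹ else q := by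
      intro m
      induction m with
      | zero => simp
      | succ m ih =>
        rw [show ξ ^ (m + 1) * q * (ξ ^ (m + 1))⁻¹ = ξ * (ξ ^ m * q * (ξ ^ m)⁻¹) * ξ⁻¹ by
          rw [pow_succ']; group, ih]
        by_cases hm : Odd m
        · rw [if_pos hm, if_neg (by rw [Nat.odd_add_one]; exact not_not.2 hm),
            show ξ * q⁻¹ * ξ⁻¹ = (ξ * q * ξ⁻¹)⁻¹ by group, hflip, inv_inv]
        · rw [if_neg hm, if_pos (Nat.odd_add_one.2 hm), hflip]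
    have h1 := key r
    rw [h.ξ_pow, if_pos (h.r_prime.odd_of_ne_two h.r_odd)] at h1
    exact hq1 (h.eq_one_of_sq hq.1 (by
      nth_rw 1 [show q = q⁻¹ by simpa using h1]; exact inv_mul_cancel q))

/-- If every element inverted by `τ` is fixed, so is all of `M`. -/
theorem commute_of_inverted {ξ' : H} (hfix : ∀ a ∈ M, Commute a τ → Commute a ξ')
    (hinv : ∀ a ∈ M, τ * a * τ⁻¹ = a⁻¹ → Commute ξ' a) {a : H} (ha : a ∈ M) : Commute ξ' a := by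
  obtain ⟨j, hj⟩ := h.prime.odd_of_ne_two h.odd
  set a' := τ * a * τ⁻¹ with ha'
  have ha'M : a' ∈ M := h.conj_mem h.nτ ha
  have hca : Commute a a' := h.comm a ha a' ha'M
  have hτa' : τ * a' * τ⁻¹ = a := by
    rw [ha', show τ * (τ * a * τ⁻¹) * τ⁻¹ = (τ * τ) * a * (τ * τ)⁻¹ by group, h.τ_sq]; group
  have he : a = (a * a') ^ (j + 1) * (a * a'⁻¹) ^ (j + 1) := by
    rw [← (h.comm _ (mul_mem ha ha'M) _ (mul_mem ha (inv_mem ha'M))).mul_pow,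
      show a * a' * (a * a'⁻¹) = a * (a' * a) * a'⁻¹ by group, ← hca.eq,
      show a * (a * a') * a'⁻¹ = a * a by group, ← pow_two, ← pow_mul, show 2 * (j + 1) = w + 1 by omega,
      pow_succ, h.exp a ha, one_mul]
  rw [he]
  refine ((hfix _ (mul_mem ha ha'M) ?_).symm.pow_right _).mul_right
    ((hinv _ (mul_mem ha (inv_mem ha'M)) ?_).pow_right _)
  · refine (commute_of_conj_eq ?_).symm
    rw [show τ * (a * a') * τ⁻¹ = a' * (τ * a' * τ⁻¹) by rw [ha']; group, hτa', hca.eq]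
  · rw [show τ * (a * a'⁻¹) * τ⁻¹ = a' * (τ * a' * τ⁻¹)⁻¹ by rw [ha']; group, hτa', mul_inv_rev a a'⁻¹, inv_inv]

/-- A moved element needs both lines, and no line element is fixed. -/
theorem exists_lines {a : H} (ha : a ∈ M) (hmv : ¬ Commute ξ a) :
    ∃ p q, InLine M τ μ p ∧ p ≠ 1 ∧ InLine M τ (τ * μ) q ∧ q ≠ 1 ∧
      ¬ Commute ξ p ∧ ¬ Commute ξ q := by
  have hline : ∀ {p q : H}, InLine M τ μ p → InLine M τ (τ * μ) q → p ≠ 1 → Commute ξ p → False := by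
    intro p q hp _ hp1 hpξ
    refine hmv (h.commute_of_inverted h.fix (fun b hb hτ => ?_) ha)
    obtain ⟨b', c', hb', hc', rfl⟩ := h.decomp hb hτ
    obtain ⟨i, rfl⟩ := h.mem_line hp hp1 hb'
    exact (hpξ.zpow_right i).mul_right (h.trivial_of_fixed hp hp1 hpξ hc')
  have hline' : ∀ {q : H}, InLine M τ (τ * μ) q → q ≠ 1 → Commute ξ q → False := by
    intro q hq hq1 hqξ
    refine hmv (h.commute_of_inverted h.fix (fun b hb hτ => ?_) ha)
    obtain ⟨b', c', hb', hc', rfl⟩ := h.decomp hb hτ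
    obtain ⟨i, rfl⟩ := h.symm.mem_line hq hq1 hc'
    refine (h.symm.trivial_of_fixed hq hq1 hqξ ?_).mul_right (hqξ.zpow_right i)
    rwa [← mul_assoc, h.τ_sq, one_mul]
  -- if one line is trivial, `μ` is a scalar on the inverted part
  have hscal : (∀ p, InLine M τ μ p → p = 1) ∨ (∀ q, InLine M τ (τ * μ) q → q = 1) → False := by
    intro hor
    refine hmv (h.commute_of_inverted h.fix (fun b hb hτ => ?_) ha)
    have hsq : Commute (ξ * ξ) b := by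
      have hbc : ∀ c ∈ M, τ * c * τ⁻¹ = c⁻¹ →
          ((∀ p, InLine M τ μ p → p = 1) → μ * c * μ⁻¹ = c⁻¹) ∧
          ((∀ q, InLine M τ (τ * μ) q → q = 1) → μ * c * μ⁻¹ = c) := by
        intro c hc hτc
        obtain ⟨b', c', hb', hc', rfl⟩ := h.decomp hc hτc
        refine ⟨fun h0 => ?_, fun h0 => ?_⟩
        · rw [h0 b' hb', one_mul]; exact h.of_line_symm hc'
        · rw [h0 c' hc', mul_one]; exact hb'.2.2
      have hbM := h.conj_mem h.nξ hb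
      have h2 : ξ * b * ξ⁻¹ = ξ⁻¹ * b * ξ := by
        rcases hor with h0 | h0
        · have e1 := (hbc _ hbM (h.inverted_conj hτ)).1 h0
          rw [show μ * (ξ * b * ξ⁻¹) * μ⁻¹ = μ * ξ * μ⁻¹ * (μ * b * μ⁻¹) * (μ * ξ * μ⁻¹)⁻¹ by group,
            h.μξ, (hbc b hb hτ).1 h0] at e1
          calc ξ * b * ξ⁻¹ = (ξ * b * ξ⁻¹)⁻¹⁻¹ := (inv_inv _).symm
            _ = (ξ⁻¹ * b⁻¹ * ξ⁻¹⁻¹)⁻¹ := by rw [e1]
            _ = _ := by group
        · have e1 := (hbc _ hbM (h.inverted_conj hτ)).2 h0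
          rw [show μ * (ξ * b * ξ⁻¹) * μ⁻¹ = μ * ξ * μ⁻¹ * (μ * b * μ⁻¹) * (μ * ξ * μ⁻¹)⁻¹ by group,
            h.μξ, (hbc b hb hτ).2 h0] at e1
          rw [← e1]; group
      refine commute_of_conj_eq ?_
      calc ξ * ξ * b * (ξ * ξ)⁻¹ = ξ * (ξ * b * ξ⁻¹) * ξ⁻¹ := by group
        _ = b := by rw [h2]; group
    obtain ⟨j, hj⟩ := (h.r_prime.odd_of_ne_two h.r_odd).of_dvd_nat (orderOf_dvd_of_pow_eq_one h.ξ_pow)
    have h4 := hsq.pow_left (j + 1)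
    rwa [← pow_two, ← pow_mul, show 2 * (j + 1) = orderOf ξ + 1 by omega, pow_succ, pow_orderOf_eq_one,
      one_mul] at h4
  obtain ⟨p, hp, hp1⟩ : ∃ p, InLine M τ μ p ∧ p ≠ 1 := by
    by_contra hno
    push Not at hno
    exact hscal (Or.inl hno)
  obtain ⟨q, hq, hq1⟩ : ∃ q, InLine M τ (τ * μ) q ∧ q ≠ 1 := by
    by_contra hno
    push Not at hno
    exact hscal (Or.inr hno)
  exact ⟨p, q, hp, hp1, hq, hq1, hline hp hq hp1, hline' hq hq1⟩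

/-- No element `η` with `β η β⁻¹ = η ξ ^ k` exists unless `ξ` acts trivially. -/
theorem trivial_of_heisenberg {η β : H} (nη : η ∈ normalizer (M : Set H))
    (nβ : β ∈ normalizer (M : Set H)) (ητ : Commute η τ) (ημ : Commute η μ) (βτ : Commute β τ)
    (ξη : Commute ξ η) {k : ℕ} (hk : ¬ r ∣ k) (hβ : β * η * β⁻¹ = η * ξ ^ k) {a : H} (ha : a ∈ M) :
    Commute ξ a := by
  by_contra hmv
  obtain ⟨p, q, hp, hp1, hq, hq1, hpξ, -⟩ := h.exists_lines ha hmv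
  have hline : ∀ {μ' b : H}, Commute η μ' → InLine M τ μ' b → InLine M τ μ' (η * b * η⁻¹) := by
    intro μ' b hμ' hb
    refine ⟨h.conj_mem nη hb.1, ?_, ?_⟩
    · rw [show τ * (η * b * η⁻¹) * τ⁻¹ = τ * η * b * (τ * η)⁻¹ by group, ← ητ.eq,
        show η * τ * b * (η * τ)⁻¹ = η * (τ * b * τ⁻¹) * η⁻¹ by group, hb.2.1]
      group
    · rw [show μ' * (η * b * η⁻¹) * μ'⁻¹ = μ' * η * b * (μ' * η)⁻¹ by group, ← hμ'.eq,
        show η * μ' * b * (η * μ')⁻¹ = η * (μ' * b * μ'⁻¹) * η⁻¹ by group, hb.2.2]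
  obtain ⟨α, hα⟩ := h.mem_line hp hp1 (hline ημ hp)
  obtain ⟨α', hα'⟩ := h.symm.mem_line hq hq1 (hline (ητ.mul_right ημ) hq)
  by_cases hscal : q ^ α' = q ^ α
  · -- `η` is a scalar on the inverted part
    have hpow : ∀ b ∈ M, τ * b * τ⁻¹ = b⁻¹ → η * b * η⁻¹ = b ^ α := by
      intro b hb hτ
      obtain ⟨b', c', hb', hc', rfl⟩ := h.decomp hb hτ
      obtain ⟨i, rfl⟩ := h.mem_line hp hp1 hb'
      obtain ⟨l, rfl⟩ := h.symm.mem_line hq hq1 hc'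
      rw [show η * (p ^ i * q ^ l) * η⁻¹ = η * p ^ i * η⁻¹ * (η * q ^ l * η⁻¹) by group,
        ← conj_zpow, ← conj_zpow, hα, hα', hscal,
        (h.comm _ (zpow_mem hp.1 i) _ (zpow_mem hq.1 l)).mul_zpow, ← zpow_mul, ← zpow_mul, ← zpow_mul,
        ← zpow_mul, mul_comm α i, mul_comm α l]
    have hξk : ∀ b ∈ M, τ * b * τ⁻¹ = b⁻¹ → Commute (ξ ^ k) b := by
      intro b hb hτ
      have hb' : β⁻¹ * b * β⁻¹⁻¹ ∈ M := h.conj_mem (inv_mem nβ) hb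
      rw [inv_inv] at hb'
      have hτb' : τ * (β⁻¹ * b * β) * τ⁻¹ = (β⁻¹ * b * β)⁻¹ := by
        calc τ * (β⁻¹ * b * β) * τ⁻¹ = (τ * β⁻¹) * b * (τ * β⁻¹)⁻¹ := by group
          _ = (β⁻¹ * τ) * b * (β⁻¹ * τ)⁻¹ := by rw [← βτ.inv_left.eq]
          _ = β⁻¹ * (τ * b * τ⁻¹) * β := by group
          _ = _ := by rw [hτ]; group
      have h1 : η * (ξ ^ k * b * (ξ ^ k)⁻¹) * η⁻¹ = η * b * η⁻¹ := by
        calc η * (ξ ^ k * b * (ξ ^ k)⁻¹) * η⁻¹ = (η * ξ ^ k) * b * (η * ξ ^ k)⁻¹ := by group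
          _ = (β * η * β⁻¹) * b * (β * η * β⁻¹)⁻¹ := by rw [hβ]
          _ = β * (η * (β⁻¹ * b * β) * η⁻¹) * β⁻¹ := by group
          _ = β * (β⁻¹ * b * β) ^ α * β⁻¹ := by rw [hpow _ hb' hτb']
          _ = (β * (β⁻¹ * b * β) * β⁻¹) ^ α := (conj_zpow).symm
          _ = b ^ α := by congr 1; group
          _ = _ := (hpow b hb hτ).symm
      exact commute_of_conj_eq (mul_left_cancel (mul_right_cancel h1))
    refine hpξ ?_
    have h2 := hξk p hp.1 hp.2.1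
    obtain ⟨j, hj⟩ := exists_pow_eq_self_of_coprime (x := ξ) (n := k) (by
      refine (Nat.Coprime.coprime_dvd_right (orderOf_dvd_of_pow_eq_one h.ξ_pow) ?_)
      exact (Nat.Coprime.symm ((h.r_prime.coprime_iff_not_dvd).2 hk)))
    rw [← hj]
    exact h2.pow_left j
  · obtain ⟨b, c, hb, hc, e⟩ := h.decomp (h.conj_mem h.nξ hp.1) (h.inverted_conj hp.2.1)
    obtain ⟨i, rfl⟩ := h.mem_line hp hp1 hb
    obtain ⟨l, rfl⟩ := h.symm.mem_line hq hq1 hc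
    have h1 : (p ^ i * q ^ l) ^ α = (p ^ i) ^ α * (q ^ α') ^ l := by
      calc (p ^ i * q ^ l) ^ α = (ξ * p * ξ⁻¹) ^ α := by rw [e]
        _ = ξ * p ^ α * ξ⁻¹ := conj_zpow
        _ = ξ * (η * p * η⁻¹) * ξ⁻¹ := by rw [hα]
        _ = ξ * η * p * (ξ * η)⁻¹ := by group
        _ = η * ξ * p * (η * ξ)⁻¹ := by rw [ξη.eq]
        _ = η * (ξ * p * ξ⁻¹) * η⁻¹ := by group
        _ = η * p ^ i * η⁻¹ * (η * q ^ l * η⁻¹) := by rw [e]; group
        _ = _ := by rw [← conj_zpow, ← conj_zpow, hα, hα', ← zpow_mul p, ← zpow_mul p, mul_comm α i]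
    rw [(h.comm _ (zpow_mem hp.1 i) _ (zpow_mem hq.1 l)).mul_zpow, mul_left_cancel_iff, ← zpow_mul q,
      mul_comm l, zpow_mul, ← zpow_mul q α' l] at h1
    have hord : orderOf q = w := by
      haveI := Fact.mk h.prime
      exact orderOf_eq_prime (h.exp q hq.1) hq1
    have h2 : (w : ℤ) ∣ (α' - α) * l := by
      rw [← hord, orderOf_dvd_iff_zpow_eq_one, sub_mul, zpow_sub, ← h1, ← zpow_mul, mul_inv_cancel]
    rcases (Nat.prime_iff_prime_int.1 h.prime).dvd_or_dvd h2 with hd | hd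
    · refine hscal ?_
      have := orderOf_dvd_iff_zpow_eq_one.1 (hord.symm ▸ hd : (orderOf q : ℤ) ∣ α' - α)
      rw [show α' = (α' - α) + α by ring, zpow_add, this, one_mul]
    · have hl0 : q ^ l = 1 := orderOf_dvd_iff_zpow_eq_one.1 (hord.symm ▸ hd : (orderOf q : ℤ) ∣ l)
      rw [hl0, mul_one] at e
      have h3 : ξ⁻¹ * p * ξ = p ^ i := by
        calc ξ⁻¹ * p * ξ = (μ * ξ * μ⁻¹) * (μ * p * μ⁻¹) * (μ * ξ * μ⁻¹)⁻¹ := by
              rw [h.μξ, hp.2.2]; group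
          _ = μ * (ξ * p * ξ⁻¹) * μ⁻¹ := by group
          _ = _ := by rw [e, ← conj_zpow, hp.2.2]
      obtain ⟨j, hj⟩ := (h.r_prime.odd_of_ne_two h.r_odd).of_dvd_nat (orderOf_dvd_of_pow_eq_one h.ξ_pow)
      have h4 : Commute (ξ * ξ) p := by
        refine commute_of_conj_eq ?_
        calc ξ * ξ * p * (ξ * ξ)⁻¹ = ξ * (ξ * p * ξ⁻¹) * ξ⁻¹ := by group
          _ = ξ * (ξ⁻¹ * p * ξ) * ξ⁻¹ := by rw [h3, e]
          _ = p := by group
      have h5 := h4.pow_left (j + 1)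
      rw [← pow_two, ← pow_mul, show 2 * (j + 1) = orderOf ξ + 1 by omega, pow_succ, pow_orderOf_eq_one,
        one_mul] at h5
      exact hpξ h5

/-- A moved inverted part has order `w ^ 2`, so `r` divides `w ^ 2 - 1`. -/
theorem dvd_of_moved [Finite H] {a : H} (ha : a ∈ M) (hmv : ¬ Commute ξ a) : r ∣ w ^ 2 - 1 := by
  classical
  obtain ⟨p, q, hp, hp1, hq, hq1, hpξ, hqξ⟩ := h.exists_lines ha hmv
  have hord : ∀ b ∈ M, b ≠ 1 → orderOf b = w := fun b hb hb1 => by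
    haveI := Fact.mk h.prime
    exact orderOf_eq_prime (h.exp b hb) hb1
  let N : Subgroup H :=
    { carrier := {z | z ∈ M ∧ τ * z * τ⁻¹ = z⁻¹}
      one_mem' := ⟨one_mem _, by simp⟩
      mul_mem' := fun {b c} hb hc => ⟨mul_mem hb.1 hc.1, by
        rw [show τ * (b * c) * τ⁻¹ = τ * b * τ⁻¹ * (τ * c * τ⁻¹) by group, hb.2, hc.2,
          mul_inv_rev]
        exact (h.comm b⁻¹ (inv_mem hb.1) c⁻¹ (inv_mem hc.1)).eq⟩
      inv_mem' := fun {b} hb => ⟨inv_mem hb.1, by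
        rw [show τ * b⁻¹ * τ⁻¹ = (τ * b * τ⁻¹)⁻¹ by group, hb.2]⟩ }
  have hzp : ∀ {b : H}, b ∈ zpowers p → InLine M τ μ b := by
    rintro _ ⟨i, rfl⟩
    exact ⟨zpow_mem hp.1 _, by rw [← conj_zpow, hp.2.1, inv_zpow], by rw [← conj_zpow, hp.2.2]⟩
  have hzq : ∀ {b : H}, b ∈ zpowers q → InLine M τ (τ * μ) b := by
    rintro _ ⟨i, rfl⟩
    exact ⟨zpow_mem hq.1 _, by rw [← conj_zpow, hq.2.1, inv_zpow], by rw [← conj_zpow, hq.2.2]⟩
  have hcardN : Nat.card N = w ^ 2 := by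
    let φ : zpowers p × zpowers q → N := fun z => ⟨z.1 * z.2,
      N.mul_mem ⟨(hzp z.1.2).1, (hzp z.1.2).2.1⟩ ⟨(hzq z.2.2).1, (hzq z.2.2).2.1⟩⟩
    have hφ : Function.Bijective φ := by
      refine ⟨fun y z e => ?_, fun z => ?_⟩
      · have e' : (y.1 : H) * y.2 = z.1 * z.2 := congrArg Subtype.val e
        obtain ⟨e1, e2⟩ := h.line_indep (hzp (mul_mem (inv_mem z.1.2) y.1.2))
          (hzq (mul_mem y.2.2 (inv_mem z.2.2))) (by
            rw [show (z.1 : H)⁻¹ * y.1 * (y.2 * (z.2 : H)⁻¹) = (z.1 : H)⁻¹ * (y.1 * y.2) * (z.2 : H)⁻¹ by group,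
              e']
            group)
        exact Prod.ext (Subtype.ext (inv_mul_eq_one.1 e1).symm) (Subtype.ext (mul_inv_eq_one.1 e2))
      · obtain ⟨b, c, hb, hc, e⟩ := h.decomp z.2.1 z.2.2
        obtain ⟨i, hi⟩ := h.mem_line hp hp1 hb
        obtain ⟨l, hl⟩ := h.symm.mem_line hq hq1 hc
        exact ⟨(⟨b, i, hi.symm⟩, ⟨c, l, hl.symm⟩), Subtype.ext e.symm⟩
    rw [← Nat.card_eq_of_bijective φ hφ, Nat.card_prod, Nat.card_zpowers, Nat.card_zpowers,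
      hord p hp.1 hp1, hord q hq.1 hq1, pow_two]
  have hξN : ∀ z ∈ N, ξ * z * ξ⁻¹ ∈ N := fun z hz => ⟨h.conj_mem h.nξ hz.1, h.inverted_conj hz.2⟩
  have hNc : ∀ g : zpowers ξ, ∀ z ∈ N, (g : H) * z * (g : H)⁻¹ ∈ N := fun g z hz => by
    have hξ' : ξ ∈ normalizer (N : Set H) := by
      rw [← CfsgLib.Transfer.map_conj_eq_self_iff]
      exact eq_of_le_of_card_ge (by rintro _ ⟨b, hb, rfl⟩; exact hξN b hb)
        (CfsgLib.Transfer.card_map_conj ξ N).ge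
    exact (mem_normalizer_iff.1 (zpowers_le.2 hξ' g.2) z).1 hz
  letI act : MulAction (zpowers ξ) N :=
    { smul := fun g z => ⟨(g : H) * z * (g : H)⁻¹, hNc g z z.2⟩
      one_smul := fun z => Subtype.ext (show (1 : H) * z * 1⁻¹ = z by group)
      mul_smul := fun g g' z => Subtype.ext
        (show (g : H) * g' * z * ((g : H) * g')⁻¹ = g * (g' * z * (g' : H)⁻¹) * (g : H)⁻¹ by group) }
  haveI := Fact.mk h.r_prime
  have hξp : IsPGroup r (zpowers ξ) := by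
    rintro ⟨g, i, rfl⟩
    refine ⟨1, Subtype.ext ?_⟩
    show (ξ ^ i) ^ r ^ 1 = 1
    rw [pow_one, ← zpow_natCast, ← zpow_mul, mul_comm, zpow_mul, zpow_natCast, h.ξ_pow, one_zpow]
  have hmod := hξp.card_modEq_card_fixedPoints N
  have hfix : Nat.card (MulAction.fixedPoints (zpowers ξ) N) = 1 := by
    rw [Nat.card_eq_one_iff_unique]
    refine ⟨⟨?_⟩, ⟨⟨1, fun g => Subtype.ext (show (g : H) * (1 : H) * (g : H)⁻¹ = 1 by group)⟩⟩⟩
    suffices hz : ∀ z : MulAction.fixedPoints (zpowers ξ) N, ((z : N) : H) = 1 from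
      fun y z => Subtype.ext (Subtype.ext ((hz y).trans (hz z).symm))
    rintro ⟨⟨z, hzM, hzτ⟩, hz⟩
    have hzξ : Commute ξ z := commute_of_conj_eq (congrArg Subtype.val (hz ⟨ξ, mem_zpowers ξ⟩))
    obtain ⟨b, c, hb, hc, rfl⟩ := h.decomp hzM hzτ
    have hz' : Commute ξ (b * c⁻¹) := by
      have h1 := (hzξ.inv_left).map (MulAut.conj μ).toMonoidHom
      simp only [MulEquiv.coe_toMonoidHom, MulAut.conj_apply] at h1
      rw [show μ * ξ⁻¹ * μ⁻¹ = (μ * ξ * μ⁻¹)⁻¹ by group, h.μξ, inv_inv,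
        show μ * (b * c) * μ⁻¹ = μ * b * μ⁻¹ * (μ * c * μ⁻¹) by group, hb.2.2, h.of_line_symm hc] at h1
      exact h1
    have hbb : Commute ξ (b * b) := by
      have h1 := hzξ.mul_right hz'
      rwa [(h.comm b hb.1 c hc.1).eq, mul_assoc, ← mul_assoc b b, ← mul_assoc c,
        (h.comm c hc.1 (b * b) (mul_mem hb.1 hb.1)).eq, mul_assoc, mul_inv_cancel, mul_one] at h1
    have hodd : ∀ {d : H}, d ∈ M → Odd (orderOf d) := fun hd =>
      (h.prime.odd_of_ne_two h.odd).of_dvd_nat (orderOf_dvd_of_pow_eq_one (h.exp _ hd))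
    have hbξ : Commute ξ b := by
      obtain ⟨j, hj⟩ := hodd hb.1
      have h4 := hbb.pow_right (j + 1)
      rwa [← pow_two, ← pow_mul, show 2 * (j + 1) = orderOf b + 1 by omega, pow_succ, pow_orderOf_eq_one,
        one_mul] at h4
    have hcξ : Commute ξ c := by
      have h1 := hbξ.inv_right.mul_right hzξ
      rwa [inv_mul_cancel_left] at h1
    have hb1 : b = 1 := by
      by_contra hb1
      obtain ⟨i, hi⟩ := h.mem_line hb hb1 hp
      exact hpξ (hi ▸ hbξ.zpow_right i)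
    have hc1 : c = 1 := by
      by_contra hc1
      obtain ⟨i, hi⟩ := h.symm.mem_line hc hc1 hq
      exact hqξ (hi ▸ hcξ.zpow_right i)
    show b * c = 1
    rw [hb1, hc1, one_mul]
  rw [hcardN, hfix] at hmod
  exact (Nat.modEq_iff_dvd' (Nat.one_le_pow _ _ h.prime.pos)).1 hmod.symm

end Plane

end CfsgLib.GW.Dne.Exc
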