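import Cfsg.Agent.Lib.GW.Dne.Exceptional.Ctx

/-!
# The exceptional configuration: orders of the layers of `C(t)`
-/

set_option autoImplicit false

namespace CfsgLib.GW.Dne.Exceptional

open Subgroup CfsgLib.GW CfsgLib.GW.Dne.Exc
open CfsgLib.Signalizer (involution_sq involution_inv involution_ne_one orderOf_conj)

universe u

variable {G : Type u} [Group G] [Finite G] {σ : Hyp G} {t u₁ u₂ g₁ g₂ : G} {r : ℕ} {x y : G}
  {K : Subgroup G} (E : Exceptional σ t u₁ u₂ g₁ g₂ r x y K)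

include E

theorem K_abel {a b : G} (ha : a ∈ K) (hb : b ∈ K) : a * b = b * a :=
  CfsgLib.PGroups.BSW.commute_of_inverted K E.K_inv₁ ha hb

theorem Q_cop_K : (Nat.card (rCore r t)).Coprime (Nat.card K) := by
  rw [E.card_Q]
  exact (E.prime.coprime_iff_not_dvd.2 E.K_coprime).pow_left 3

theorem card_Y : Nat.card (rCore r t ⊔ K : Subgroup G) = r ^ 3 * Nat.card K := by
  rw [CfsgLib.Core.card_sup_of_coprime (rCore r t) K
    (fun q hq => E.K_normal (E.U_C (E.Q_le hq))) E.Q_cop_K, E.card_Q]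

/-- `|U t : Y|`. -/
noncomputable def topIndex (_E : Exceptional σ t u₁ u₂ g₁ g₂ r x y K) : ℕ :=
  (rCore r t ⊔ K).relIndex (U t)

theorem card_U : Nat.card (U t) = r ^ 3 * Nat.card K * E.topIndex := by
  rw [← E.card_Y, topIndex, relIndex, ← card_mul_index ((rCore r t ⊔ K).subgroupOf (U t)),
    Nat.card_congr (subgroupOfEquivOfLe E.Y_le).toEquiv]

theorem odd_m : Odd E.topIndex :=
  (σ.odd_U E.ht).of_dvd_nat (E.card_U ▸ dvd_mul_left _ _)

theorem m_le : E.topIndex ≤ r + 1 := by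
  have := E.five_le
  rcases E.top_dvd with h | h
  · exact Nat.le_of_dvd (by omega) h
  · exact (Nat.le_of_dvd (by omega) h).trans (by omega)

theorem m_ne_one : E.topIndex ≠ 1 := fun h => E.top_ne (relIndex_eq_one.1 h)

theorem r_not_dvd_m : ¬ r ∣ E.topIndex := by
  intro h
  have := E.five_le
  rcases E.top_dvd with h' | h'
  · exact E.prime.ne_one (Nat.dvd_one.1 ((Nat.dvd_add_right (dvd_refl r)).1 (h.trans h')))
  · have h2 : r ∣ r - (r - 1) := Nat.dvd_sub (dvd_refl r) (h.trans h')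
    rw [show r - (r - 1) = 1 by omega] at h2
    exact E.prime.ne_one (Nat.dvd_one.1 h2)

theorem Y_normal : U t ≤ normalizer ((rCore r t ⊔ K : Subgroup G) : Set G) := fun h hh =>
  mem_normalizer_of_conj fun _ hz => E.conj_mem_Y (E.U_C hh) hz

theorem mem_Y_of_coprime {h : G} (hh : h ∈ U t) (hc : (orderOf h).Coprime E.topIndex) :
    h ∈ rCore r t ⊔ K := by
  haveI : ((rCore r t ⊔ K).subgroupOf (U t)).Normal := normal_subgroupOf_of_le_normalizer E.Y_normal
  have h1 := Subgroup.pow_index_mem ((rCore r t ⊔ K).subgroupOf (U t)) (⟨h, hh⟩ : U t)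
  rw [mem_subgroupOf, coe_pow] at h1
  obtain ⟨k, hk⟩ := exists_pow_eq_self_of_coprime (x := h) (n := E.topIndex) hc.symm
  rw [← hk]
  exact pow_mem h1 k

theorem mem_Y_cases {h : G} (hh : h ∈ rCore r t ⊔ K) :
    ∃ q ∈ rCore r t, ∃ k ∈ K, Commute q k ∧ h = q * k := by
  obtain ⟨q, hq, k, hk, rfl⟩ :=
    (CfsgLib.Core.mem_sup_iff_mul (fun q hq => E.K_normal (E.U_C (E.Q_le hq)))).1 hh
  exact ⟨q, hq, k, hk, (E.K_comm k hk q hq).symm, rfl⟩

theorem mem_K_of_coprime {h : G} (hh : h ∈ rCore r t ⊔ K) (hc : (orderOf h).Coprime r) : h ∈ K := by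
  obtain ⟨q, hq, k, hk, hqk, rfl⟩ := E.mem_Y_cases hh
  have hq' : q ^ orderOf (q * k) = 1 := by
    have h1 := pow_orderOf_eq_one (q * k)
    rw [hqk.mul_pow, mul_eq_one_iff_eq_inv] at h1
    obtain ⟨j, hj⟩ := E.isP_Q ⟨q, hq⟩
    refine orderOf_eq_one_iff.1 (Nat.eq_one_of_dvd_coprimes
      ((E.prime.coprime_iff_not_dvd.2 E.K_coprime).pow_left j) ?_
      (Subgroup.orderOf_dvd_natCard K (h1 ▸ inv_mem (pow_mem hk _) : q ^ orderOf (q * k) ∈ K)))
    exact (orderOf_pow_dvd _).trans (orderOf_dvd_of_pow_eq_one (congrArg Subtype.val hj))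
  obtain ⟨j, hj⟩ := E.isP_Q ⟨q, hq⟩
  have hq1 : q = 1 := orderOf_eq_one_iff.1 (Nat.eq_one_of_dvd_coprimes (hc.pow_right j)
    (orderOf_dvd_of_pow_eq_one hq') (orderOf_dvd_of_pow_eq_one (congrArg Subtype.val hj)))
  rw [hq1, one_mul]; exact hk

theorem mem_Q_of_isRElt {h : G} (hh : h ∈ U t) (hr : IsRElt r h) : h ∈ rCore r t := by
  obtain ⟨j, hj⟩ := hr
  have hd := orderOf_dvd_of_pow_eq_one hj
  have hY := E.mem_Y_of_coprime hh
    (((E.prime.coprime_iff_not_dvd.2 E.r_not_dvd_m).pow_left j).coprime_dvd_left hd)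
  obtain ⟨q, hq, k, hk, hqk, rfl⟩ := E.mem_Y_cases hY
  have hk' : k ^ r ^ j = 1 := by
    rw [hqk.mul_pow, mul_eq_one_iff_eq_inv] at hj
    obtain ⟨l, hl⟩ := E.isP_Q ⟨q, hq⟩
    have hmem : k ^ r ^ j ∈ rCore r t := inv_mem_iff.1 (hj ▸ pow_mem hq _)
    obtain ⟨i, hi⟩ := E.isP_Q ⟨_, hmem⟩
    exact orderOf_eq_one_iff.1 (Nat.eq_one_of_dvd_coprimes
      ((E.prime.coprime_iff_not_dvd.2 E.K_coprime).pow_left i)
      (orderOf_dvd_of_pow_eq_one (congrArg Subtype.val hi)) (Subgroup.orderOf_dvd_natCard K (pow_mem hk _)))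
  have hk1 : k = 1 := orderOf_eq_one_iff.1 (Nat.eq_one_of_dvd_coprimes
    ((E.prime.coprime_iff_not_dvd.2 E.K_coprime).pow_left j)
    (orderOf_dvd_of_pow_eq_one hk') (Subgroup.orderOf_dvd_natCard K hk))
  rw [hk1, mul_one]; exact hq

theorem eq_Q_of_le {R : Subgroup G} (hR : IsPGroup r R) (hRU : R ≤ U t) : R ≤ rCore r t :=
  fun _ hh => E.mem_Q_of_isRElt (hRU hh) (isRElt_of_mem hR hh)

theorem card_C : Nat.card (centralizer ({t} : Set G)) = 2 * 2 ^ σ.n * Nat.card (U t) := by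
  have hPN : closure ({u₁, u₂} : Set G) ≤ normalizer (U t : Set G) :=
    E.frame.closure_le_centralizer.trans E.C_le_normalizer_U
  have hcop : (Nat.card (closure ({u₁, u₂} : Set G))).Coprime (Nat.card (U t)) := by
    rw [E.frame.card_closure]
    exact (Nat.coprime_two_left.2 (σ.odd_U E.ht)).pow_left _
  rw [show centralizer ({t} : Set G) = closure ({u₁, u₂} : Set G) ⊔ U t from
    le_antisymm (fun c hc => by
      obtain ⟨a, ha, s, hs, rfl⟩ := E.frame.exists_mul (commute_of_mem_centralizer hc)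
      exact mul_mem (mem_sup_right ha) (mem_sup_left hs))
      (sup_le E.frame.closure_le_centralizer (U_le t)),
    CfsgLib.Core.card_sup_of_coprime _ _ hPN hcop, E.frame.card_closure, pow_succ']

/-- The inverted elements of `U t`. -/
theorem centralizer_y_le {h : G} (hh : h ∈ U t) (hc : Commute h y) :
    ∃ i j : ℤ, ∃ k ∈ K, h = y ^ i * x ^ j * k := by
  have h1 : h ∈ U t ⊓ centralizer ({y} : Set G) := ⟨hh, mem_centralizer_of_commute hc⟩
  rw [E.centralizer_y] at h1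
  have hKn : zpowers y ⊔ zpowers x ≤ normalizer (K : Set G) :=
    sup_le (zpowers_le.2 (E.K_normal (E.U_C E.y_U))) (zpowers_le.2 (E.K_normal (E.U_C E.x_U)))
  obtain ⟨a, ha, k, hk, rfl⟩ := (CfsgLib.Core.mem_sup_iff_mul hKn).1 h1
  have hn : zpowers y ≤ normalizer (zpowers x : Set G) := zpowers_le.2
    (CfsgLib.GW.mem_normalizer_of_conj fun b hb => by
      obtain ⟨l, rfl⟩ := hb
      rw [conj_eq_of_commute ((E.x_central y E.y_U).zpow_right l)]
      exact zpow_mem (mem_zpowers x) l)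
  obtain ⟨_, ⟨i, rfl⟩, _, ⟨j, rfl⟩, rfl⟩ := (CfsgLib.Core.mem_sup_iff_mul hn).1 ha
  exact ⟨i, j, k, hk, rfl⟩

end CfsgLib.GW.Dne.Exceptional
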