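import Cfsg.Agent.Lib.GW.Dne.Exceptional.Coprime
import Cfsg.Agent.Lib.GW.Dne.Exceptional.Module
import Cfsg.Agent.Lib.PGroups.Basic

/-!
# The Frattini quotient of an invariant `q`-subgroup as a plane
-/

set_option autoImplicit false

namespace CfsgLib.GW.Dne.Exc

open Subgroup CfsgLib.GW
open CfsgLib.Signalizer (involution_sq involution_inv involution_ne_one orderOf_conj)

universe u

variable {G : Type u} [Group G]

/-- The Frattini subgroup of `W` in `N(W)`. -/
noncomputable def phiIn (W : Subgroup G) : Subgroup (normalizer (W : Set G)) :=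
  ((frattini W).map W.subtype).subgroupOf (normalizer (W : Set G))

instance phiIn_normal (W : Subgroup G) : (phiIn W).Normal := ⟨fun z hz g => by
  obtain ⟨w, hw, e⟩ := mem_subgroupOf.1 hz
  let f : W ≃* W := Subgroup.normalizerMonoidHom W g
  refine mem_subgroupOf.2 ⟨f w, ?_, ?_⟩
  · have hfix : (frattini W).comap f.toMonoidHom = frattini W := frattini_characteristic.fixed f
    rw [← hfix] at hw
    exact hw
  · show (g : G) * w * (g : G)⁻¹ = _
    rw [Subgroup.coe_mul, Subgroup.coe_mul, InvMemClass.coe_inv, ← e]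
    rfl⟩

/-- The projection to the quotient. -/
noncomputable abbrev proj (W : Subgroup G) :
    normalizer (W : Set G) →* normalizer (W : Set G) ⧸ phiIn W := QuotientGroup.mk' (phiIn W)

/-- `W / Φ(W)`. -/
noncomputable def quot (W : Subgroup G) : Subgroup (normalizer (W : Set G) ⧸ phiIn W) :=
  (W.subgroupOf (normalizer (W : Set G))).map (proj W)

theorem mem_normalizer_quot {W : Subgroup G} (g : normalizer (W : Set G)) :
    proj W g ∈ normalizer (quot W : Set (normalizer (W : Set G) ⧸ phiIn W)) := by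
  haveI : (W.subgroupOf (normalizer (W : Set G))).Normal := normal_in_normalizer
  haveI : (quot W).Normal := ‹(W.subgroupOf (normalizer (W : Set G))).Normal›.map _
    (QuotientGroup.mk'_surjective _)
  refine mem_normalizer_iff.2 fun a => ⟨fun ha => Subgroup.Normal.conj_mem inferInstance a ha _, fun ha => ?_⟩
  have := Subgroup.Normal.conj_mem (H := quot W) inferInstance _ ha (proj W g)⁻¹
  simpa [mul_assoc] using this

variable [Finite G]

/-- A fixed point of the quotient lifts. -/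
theorem exists_fixed_lift {W : Subgroup G} (hW : Odd (Nat.card W)) {s : normalizer (W : Set G)}
    (hs : (s : G) * s = 1) {a : normalizer (W : Set G) ⧸ phiIn W} (ha : a ∈ quot W)
    (hc : Commute a (proj W s)) :
    ∃ c : normalizer (W : Set G), (c : G) ∈ W ∧ Commute (c : G) s ∧ proj W c = a := by
  obtain ⟨w, hw, rfl⟩ := ha
  have hw' : (w : G) ∈ W := mem_subgroupOf.1 hw
  obtain ⟨c, hc', i, hi, hcs, -, e, j, hj⟩ := exists_fixed_inverted hW hs s.2 hw'
  refine ⟨⟨c, le_normalizer hc'⟩, hc', hcs, ?_⟩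
  have hd : proj W (w⁻¹ * (s * w * s⁻¹)) = 1 := by
    rw [map_mul, map_mul, map_mul, map_inv, map_inv, conj_eq_of_commute hc.symm, inv_mul_cancel]
  have he : w = ⟨c, le_normalizer hc'⟩ * (w⁻¹ * (s * w * s⁻¹)) ^ j := Subtype.ext (by
    rw [Subgroup.coe_mul, SubgroupClass.coe_zpow]
    exact e.trans (congrArg (c * ·) hj.symm))
  rw [he, map_mul, map_zpow, hd, one_zpow, mul_one]

theorem isCyclic_fixed {W : Subgroup G} (hW : Odd (Nat.card W)) {s : normalizer (W : Set G)}
    (hs : (s : G) * s = 1) (hcyc : IsCyclic (W ⊓ centralizer ({(s : G)} : Set G) : Subgroup G)) :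
    IsCyclic (quot W ⊓ centralizer ({proj W s} : Set (normalizer (W : Set G) ⧸ phiIn W)) :
      Subgroup (normalizer (W : Set G) ⧸ phiIn W)) := by
  set L := ((W ⊓ centralizer ({(s : G)} : Set G)).subgroupOf (normalizer (W : Set G))).map (proj W)
    with hL
  haveI : IsCyclic ((W ⊓ centralizer ({(s : G)} : Set G)).subgroupOf (normalizer (W : Set G))) :=
    (subgroupOfEquivOfLe (inf_le_left.trans le_normalizer)).isCyclic.2 hcyc
  haveI : IsCyclic L := isCyclic_of_surjective
    ((proj W).subgroupMap ((W ⊓ centralizer ({(s : G)} : Set G)).subgroupOf (normalizer (W : Set G))))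
    ((proj W).subgroupMap_surjective _)
  refine isCyclic_of_le (H' := L) fun a ha => ?_
  obtain ⟨c, hc, hcs, rfl⟩ := exists_fixed_lift hW hs ha.1 (commute_of_mem_centralizer ha.2)
  exact ⟨c, ⟨hc, mem_centralizer_of_commute hcs⟩, rfl⟩

theorem quot_comm {W : Subgroup G} {q : ℕ} [Fact q.Prime] (hW : IsPGroup q W) :
    ∀ a ∈ quot W, ∀ b ∈ quot W, Commute a b := by
  rintro _ ⟨a, ha, rfl⟩ _ ⟨b, hb, rfl⟩
  have ha' : (a : G) ∈ W := mem_subgroupOf.1 ha
  have hb' : (b : G) ∈ W := mem_subgroupOf.1 hb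
  show proj W a * proj W b = proj W b * proj W a
  rw [← map_mul, ← map_mul, QuotientGroup.mk'_apply, QuotientGroup.mk'_apply, QuotientGroup.eq]
  refine mem_subgroupOf.2 ⟨⟨(a : G), ha'⟩⁻¹ * 1 * ⟨(a : G), ha'⟩ * (((⟨(a : G), ha'⟩ : W) * ⟨(b : G), hb'⟩)⁻¹ *
    (⟨(b : G), hb'⟩ * ⟨(a : G), ha'⟩)), ?_, ?_⟩
  · refine CfsgLib.PGroups.commutator_le_frattini' hW ?_
    rw [show ∀ p q : W, p⁻¹ * 1 * p * ((p * q)⁻¹ * (q * p)) = q⁻¹ * p⁻¹ * q⁻¹⁻¹ * p⁻¹⁻¹ from
      fun p q => by group]
    exact Subgroup.commutator_mem_commutator (mem_top _) (mem_top _)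
  · push_cast
    simp

theorem quot_exp {W : Subgroup G} {q : ℕ} [Fact q.Prime] (hW : IsPGroup q W) :
    ∀ a ∈ quot W, a ^ q = 1 := by
  rintro _ ⟨a, ha, rfl⟩
  rw [← map_pow, QuotientGroup.mk'_apply, QuotientGroup.eq_one_iff]
  exact mem_subgroupOf.2 ⟨⟨(a : G), mem_subgroupOf.1 ha⟩ ^ q, CfsgLib.PGroups.pow_mem_frattini hW _,
    by push_cast; rfl⟩

/-- An element trivial on the quotient centralises `W`. -/
theorem commute_of_quot {W : Subgroup G} {q r : ℕ} [Fact q.Prime] [Fact r.Prime] (hne : q ≠ r)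
    (hW : IsPGroup q W) {x : normalizer (W : Set G)} (hx : (x : G) ^ r = 1)
    (h : ∀ a ∈ quot W, Commute (proj W x) a) {w : G} (hw : w ∈ W) : Commute (x : G) w := by
  have hle : zpowers (x : G) ≤ centralizer (W : Set G) := by
    refine CfsgLib.Core.centralizes_of_centralizes_frattini_quotient (zpowers_le.2 x.2) ?_ fun a ha k hk => ?_
    · obtain ⟨i, hi⟩ := IsPGroup.iff_card.1 (hW.to_subgroup (frattini W))
      rw [hi, Nat.card_zpowers]
      exact (((Nat.coprime_primes (Fact.out : r.Prime) (Fact.out : q.Prime)).2 hne.symm).pow_right i).coprime_dvd_left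
        (orderOf_dvd_of_pow_eq_one hx)
    · obtain ⟨j, rfl⟩ := ha
      have h1 : Commute (proj W (x ^ j)) (proj W ⟨k, le_normalizer hk⟩) := by
        rw [map_zpow]
        exact (h _ ⟨⟨k, le_normalizer hk⟩, mem_subgroupOf.2 hk, rfl⟩).zpow_left j
      have h2 : proj W (x ^ j * ⟨k, le_normalizer hk⟩ * (x ^ j)⁻¹ * (⟨k, le_normalizer hk⟩)⁻¹) = 1 := by
        rw [map_mul, map_mul, map_mul, map_inv, map_inv, conj_eq_of_commute h1, mul_inv_cancel]
      rw [QuotientGroup.mk'_apply, QuotientGroup.eq_one_iff] at h2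
      have := mem_subgroupOf.1 h2
      simpa using this
  exact (mem_centralizer_iff.1 (hle (mem_zpowers _)) w hw).symm

end CfsgLib.GW.Dne.Exc
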