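import Cfsg.Agent.Lib.GW.Dne.Exceptional.Theta

/-!
# The exceptional configuration: the reflections of `C(t)`
-/

set_option autoImplicit false

open scoped ComplexConjugate

namespace CfsgLib.GW.Dne.Exceptional

open Subgroup CfsgLib.GW CfsgLib.GW.Dne.Exc
open CfsgLib.Signalizer (involution_sq involution_inv involution_ne_one orderOf_conj)

universe u

variable {G : Type u} [Group G] [Finite G] {σ : Hyp G} {t u₁ u₂ g₁ g₂ : G} {r : ℕ} {x y : G}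
  {K : Subgroup G} (E : Exceptional σ t u₁ u₂ g₁ g₂ r x y K)

/-- The elements of `O(C(t))` inverted by `u₁`. -/
abbrev Inv (t u₁ : G) : Type u := {h : U t // u₁ * (h : G) * u₁⁻¹ = (h : G)⁻¹}

include E

theorem exists_inv_root {e : G} (he : e ∈ U t) : ∃ k : ℕ, (e * e) ^ k = e := by
  obtain ⟨j, hj⟩ := E.U_odd he
  exact ⟨j + 1, by
    rw [← pow_two, ← pow_mul, show 2 * (j + 1) = orderOf e + 1 by omega, pow_succ, pow_orderOf_eq_one,
      one_mul]⟩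

theorem bijective_split :
    Function.Bijective (fun p : zpowers y × Inv t u₁ =>
      (⟨(p.1 : G) * p.2.1, mul_mem (zpowers_le.2 E.y_U p.1.2) p.2.1.2⟩ : U t)) := by
  refine ⟨fun p q e => ?_, fun h => ?_⟩
  · have e' : (p.1 : G) * p.2.1 = q.1 * q.2.1 := congrArg Subtype.val e
    have hfix : ∀ c : zpowers y, u₁ * (c : G) * u₁⁻¹ = c := fun c => by
      obtain ⟨i, hi⟩ := c.2
      rw [← hi]
      exact conj_eq_of_commute (E.y_u₁.symm.zpow_right i)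
    have e'' : (p.1 : G) * (p.2.1 : G)⁻¹ = q.1 * (q.2.1 : G)⁻¹ := by
      have := congrArg (fun z => u₁ * z * u₁⁻¹) e'
      rwa [show u₁ * ((p.1 : G) * p.2.1) * u₁⁻¹ = u₁ * p.1 * u₁⁻¹ * (u₁ * p.2.1 * u₁⁻¹) by group,
        show u₁ * ((q.1 : G) * q.2.1) * u₁⁻¹ = u₁ * q.1 * u₁⁻¹ * (u₁ * q.2.1 * u₁⁻¹) by group,
        hfix, hfix, p.2.2, q.2.2] at this
    have h2 : (p.2.1 : G) * p.2.1 = q.2.1 * q.2.1 := by
      calc (p.2.1 : G) * p.2.1 = ((p.1 : G) * (p.2.1 : G)⁻¹)⁻¹ * ((p.1 : G) * p.2.1) := by group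
        _ = _ := by rw [e', e'']; group
    have h3 : (p.2.1 : G) = q.2.1 := by
      obtain ⟨j, hj⟩ := E.U_odd p.2.1.2
      obtain ⟨k, hk⟩ := E.U_odd q.2.1.2
      set m := (j + 1) + orderOf (p.2.1 : G) * k with hm
      have hp : ((p.2.1 : G) * p.2.1) ^ m = p.2.1 := by
        rw [← pow_two, ← pow_mul, hm, show 2 * (j + 1 + orderOf (p.2.1 : G) * k) =
          orderOf (p.2.1 : G) * (2 * k + 1) + 1 by rw [hj]; ring,
          pow_succ, pow_mul, pow_orderOf_eq_one, one_pow, one_mul]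
      have hq : ((q.2.1 : G) * q.2.1) ^ m = q.2.1 := by
        rw [← pow_two, ← pow_mul, hm, show 2 * (j + 1 + orderOf (p.2.1 : G) * k) =
          orderOf (q.2.1 : G) * (2 * j + 1) + 1 by rw [hj, hk]; ring,
          pow_succ, pow_mul, pow_orderOf_eq_one, one_pow, one_mul]
      rw [← hp, h2, hq]
    rw [h3, mul_left_inj] at e'
    exact Prod.ext (Subtype.ext e') (Subtype.ext (Subtype.ext h3))
  · obtain ⟨c, hc, i, hi, hcu, hiu, e, -⟩ := exists_fixed_inverted (σ.odd_U E.ht) E.u₁_sq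
      (E.C_le_normalizer_U E.u₁_C) h.2
    exact ⟨(⟨c, E.fixed₁ hc hcu⟩, ⟨⟨i, hi⟩, hiu⟩), Subtype.ext e.symm⟩

/-- `|U t| = r |I|`. -/
theorem card_Inv : r * Nat.card (Inv t u₁) = Nat.card (U t) := by
  rw [← Nat.card_eq_of_bijective _ E.bijective_split, Nat.card_prod, Nat.card_zpowers, E.y_order]

theorem sum_Inv [Fintype (Inv t u₁)] [Fintype (U t)] {l : U t →* ℂˣ}
    (hl : ∀ h : U t, (h : G) ∈ rCore r t ⊔ K → l h = 1) (hne : ∃ h : U t, l h ≠ 1) :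
    ∑ h : Inv t u₁, (l h.1 : ℂ) = 0 := by
  classical
  haveI := Fintype.ofFinite (zpowers y)
  have h0 : ∑ h : U t, (l h : ℂ) = 0 := by
    refine sum_hom_units_eq_zero ((Units.coeHom ℂ).comp l) ?_
    obtain ⟨h, hh⟩ := hne
    exact fun e => hh (Units.ext (DFunLike.congr_fun e h))
  have h1 := Fintype.sum_bijective _ E.bijective_split (fun p => (l p.2.1 : ℂ)) (fun h => (l h : ℂ))
    (fun p => by
      rw [show (⟨(p.1 : G) * p.2.1, mul_mem (zpowers_le.2 E.y_U p.1.2) p.2.1.2⟩ : U t) =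
        ⟨p.1, zpowers_le.2 E.y_U p.1.2⟩ * p.2.1 from Subtype.ext rfl, map_mul,
        hl ⟨p.1, zpowers_le.2 E.y_U p.1.2⟩ (mem_sup_left (zpowers_le.2 E.y_mem p.1.2)), one_mul])
  rw [h0, Fintype.sum_prod_type] at h1
  dsimp only at h1
  rw [Finset.sum_const, smul_eq_zero] at h1
  exact h1.resolve_left (Finset.card_pos.2 ⟨1, Finset.mem_univ _⟩).ne'

/-- The reflection with coordinates `(i, h)`. -/
def reflOf (_E : Exceptional σ t u₁ u₂ g₁ g₂ r x y K) (p : Fin (2 ^ σ.n) × Inv t u₁) : G :=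
  (p.2.1 : G) * (u₁ * (u₁ * u₂) ^ (p.1 : ℕ))

theorem reflOf_inv (h : Inv t u₁) (i : ℤ) :
    u₁ * (u₁ * u₂) ^ i * (h.1 : G) = (h.1 : G)⁻¹ * (u₁ * (u₁ * u₂) ^ i) := by
  have h1 := E.refl_act h.1.2 i
  rw [h.2] at h1
  rw [← h1, inv_mul_cancel_right]

theorem reflOf_sq (p : Fin (2 ^ σ.n) × Inv t u₁) : E.reflOf p * E.reflOf p = 1 := by
  unfold reflOf
  rw [← zpow_natCast, show ∀ a s : G, a * s * (a * s) = a * (s * a) * s from fun a s => by group,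
    E.reflOf_inv, ← mul_assoc (p.2.1 : G), mul_inv_cancel, one_mul, E.refl_sq]

theorem reflOf_C (p : Fin (2 ^ σ.n) × Inv t u₁) : E.reflOf p ∈ centralizer ({t} : Set G) :=
  mul_mem (E.U_C p.2.1.2) (mul_mem E.u₁_C (pow_mem E.rot_C _))

theorem reflOf_not_C0 (p : Fin (2 ^ σ.n) × Inv t u₁) : E.reflOf p ∉ E.C0 := by
  intro h
  refine E.u₁_not_C0 ?_
  have h1 : (p.2.1 : G)⁻¹ ∈ E.C0 := ⟨_, inv_mem p.2.1.2, 0, by simp⟩
  have h2 : ((u₁ * u₂) ^ (p.1 : ℕ))⁻¹ ∈ E.C0 :=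
    inv_mem ⟨1, one_mem _, (p.1 : ℕ), by rw [one_mul, zpow_natCast]⟩
  have h3 := mul_mem (mul_mem h1 h) h2
  unfold reflOf at h3
  rwa [inv_mul_cancel_left, mul_inv_cancel_right] at h3

theorem t_mem_C0 : t ∈ E.C0 :=
  ⟨1, one_mem _, (2 ^ (σ.n - 1) : ℕ), by rw [one_mul, zpow_natCast, E.frame.pow]⟩

theorem orderOf_reflOf (p : Fin (2 ^ σ.n) × Inv t u₁) : orderOf (E.reflOf p) = 2 := by
  haveI : Fact (Nat.Prime 2) := ⟨Nat.prime_two⟩
  refine orderOf_eq_prime (by rw [pow_two]; exact E.reflOf_sq p) fun h => E.reflOf_not_C0 p ?_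
  rw [h]; exact one_mem _

theorem reflOf_injective : Function.Injective E.reflOf := by
  intro p q e
  unfold reflOf at e
  have hh : (p.2.1 : G) = q.2.1 := by
    rw [← zpow_natCast, ← zpow_natCast] at e
    refine E.C0_coords p.2.1.2 q.2.1.2 (i := -((p.1 : ℕ) : ℤ)) (i' := -((q.1 : ℕ) : ℤ)) ?_
    have := congrArg (· * u₁) e
    simp only [mul_assoc] at this
    rw [E.u₁_rot, E.u₁_rot, ← mul_assoc u₁ u₁, ← mul_assoc u₁ u₁, E.u₁_sq, one_mul, one_mul] at this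
    exact this
  rw [hh, mul_right_inj, mul_right_inj] at e
  have := pow_injOn_Iio_orderOf (x := u₁ * u₂) (by simp [E.frame.ord]) (by simp [E.frame.ord]) e
  exact Prod.ext (Fin.ext this) (Subtype.ext (Subtype.ext hh))

/-- Every involution of `C(t)` other than `t` has coordinates. -/
theorem exists_reflOf {j : G} (hj : Commute j t) (hjo : orderOf j = 2) (hjt : j ≠ t) :
    ∃ p, E.reflOf p = j := by
  obtain ⟨e, he, heu, i, rfl⟩ := E.exists_refl hj (involution_sq hjo) (involution_ne_one hjo) hjt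
  have hN : (0 : ℤ) < ((2 ^ σ.n : ℕ) : ℤ) := Int.natCast_pos.2 (pow_pos two_pos _)
  refine ⟨(⟨(i % ((2 ^ σ.n : ℕ) : ℤ)).toNat, ?_⟩, ⟨⟨e * e, mul_mem he he⟩, ?_⟩), ?_⟩
  · have := Int.emod_lt_of_pos i hN
    have := Int.emod_nonneg i hN.ne'
    omega
  · rw [show u₁ * (e * e) * u₁⁻¹ = u₁ * e * u₁⁻¹ * (u₁ * e * u₁⁻¹) by group, heu, mul_inv_rev]
  · unfold reflOf
    have hpw : (u₁ * u₂) ^ (i % ((2 ^ σ.n : ℕ) : ℤ)) = (u₁ * u₂) ^ i := by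
      rw [← zpow_mod_orderOf (u₁ * u₂) i, E.frame.ord]
    rw [← zpow_natCast (u₁ * u₂), Int.toNat_of_nonneg (Int.emod_nonneg i hN.ne'), hpw]
    have h1 := E.refl_act (inv_mem he) i
    rw [show u₁ * e⁻¹ * u₁⁻¹ = (u₁ * e * u₁⁻¹)⁻¹ by group, heu, inv_inv] at h1
    calc e * e * (u₁ * (u₁ * u₂) ^ i) =
        e * (u₁ * (u₁ * u₂) ^ i * e⁻¹ * (u₁ * (u₁ * u₂) ^ i)⁻¹) * (u₁ * (u₁ * u₂) ^ i) := by rw [h1]
      _ = _ := by group

theorem theta_pair (l : U t →* ℂˣ) (p q : Fin (2 ^ σ.n) × Inv t u₁) :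
    E.reflOf p * E.reflOf q ∈ E.C0 ∧
      E.theta l (E.reflOf p * E.reflOf q) = (l p.2.1 : ℂ) * (l q.2.1 : ℂ)⁻¹ := by
  have e : E.reflOf p * E.reflOf q =
      (p.2.1 : G) * (q.2.1 : G)⁻¹ * (u₁ * u₂) ^ (-((p.1 : ℕ) : ℤ) + ((q.1 : ℕ) : ℤ)) := by
    unfold reflOf
    rw [← zpow_natCast, ← zpow_natCast, zpow_add]
    calc (p.2.1 : G) * (u₁ * (u₁ * u₂) ^ ((p.1 : ℕ) : ℤ)) *
        ((q.2.1 : G) * (u₁ * (u₁ * u₂) ^ ((q.1 : ℕ) : ℤ))) =
        (p.2.1 : G) * (u₁ * (u₁ * u₂) ^ ((p.1 : ℕ) : ℤ) * q.2.1) * (u₁ * (u₁ * u₂) ^ ((q.1 : ℕ) : ℤ)) := by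
          group
      _ = (p.2.1 : G) * (q.2.1 : G)⁻¹ * (u₁ * ((u₁ * u₂) ^ ((p.1 : ℕ) : ℤ) * u₁)) *
          (u₁ * u₂) ^ ((q.1 : ℕ) : ℤ) := by rw [E.reflOf_inv]; simp only [mul_assoc]
      _ = _ := by rw [E.u₁_rot, ← mul_assoc u₁ u₁, E.u₁_sq, one_mul, mul_assoc]
  have hm : (p.2.1 : G) * (q.2.1 : G)⁻¹ ∈ U t := mul_mem p.2.1.2 (inv_mem q.2.1.2)
  refine ⟨⟨_, hm, _, e⟩, ?_⟩
  rw [e, E.theta_eq l hm, show (⟨_, hm⟩ : U t) = p.2.1 * q.2.1⁻¹ from Subtype.ext rfl, map_mul, map_inv,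
    Units.val_mul, Units.val_inv_eq_inv_val]

end CfsgLib.GW.Dne.Exceptional
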