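import Cfsg.Agent.Lib.GW.Dne.Exceptional.CentX
import Cfsg.Agent.Lib.GW.Dne.Exceptional.Quot

/-!
# The exceptional configuration: centralisers of elements commuting with `x`

For `z` commuting with `t` and `x` and inverted by `u₁`, the odd part of `C(z)` is controlled by
its `O_q`; an `O_q` moved by `x` gives a plane.
-/

set_option autoImplicit false

namespace CfsgLib.GW.Dne.Exceptional

open Subgroup CfsgLib.GW CfsgLib.GW.Dne.Exc
open CfsgLib.Signalizer (involution_sq involution_inv involution_ne_one orderOf_conj)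

universe u

variable {G : Type u} [Group G] [Finite G] {σ : Hyp G} {t u₁ u₂ g₁ g₂ : G} {r : ℕ} {x y : G}
  {K : Subgroup G} (E : Exceptional σ t u₁ u₂ g₁ g₂ r x y K)

include E

/-- Elements of order prime to `r` fixed by the four-group are trivial. -/
theorem eq_one_of_four_fixed {a : G} {q : ℕ} (hq : q.Prime) (hqr : q ≠ r) (hqa : IsRElt q a)
    (hao : Odd (orderOf a)) (hat : Commute a t) (hau : Commute a u₁ ∨ Commute a (t * u₁)) : a = 1 := by
  have haU : a ∈ U t := (σ.mem_U E.ht).2 ⟨hat, hao⟩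
  obtain ⟨k, hk⟩ : a ∈ zpowers y := hau.elim (E.fixed₁ haU) (E.fixed_prod haU)
  obtain ⟨j, hj⟩ := hqa
  refine orderOf_eq_one_iff.1 (Nat.eq_one_of_dvd_coprimes (((Nat.coprime_primes hq E.prime).2 hqr).pow_left j)
    (orderOf_dvd_of_pow_eq_one hj) (orderOf_dvd_of_pow_eq_one ?_))
  rw [← show y ^ k = a from hk, ← zpow_natCast, ← zpow_mul, mul_comm, zpow_mul, zpow_natCast, ← E.y_order,
    pow_orderOf_eq_one, one_zpow]

set_option maxHeartbeats 1000000 in
/-- `x` centralises an invariant `q`-subgroup unless its Frattini quotient is a plane moved by `x`. -/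
theorem commute_of_invariant (hC : CoreFixed G) (hB : OneComponent G) {q : ℕ} (hq : q.Prime)
    (hq2 : q ≠ 2) (hqr : q ≠ r) {W : Subgroup G} (hW : IsPGroup q W)
    (htW : t ∈ normalizer (W : Set G)) (huW : u₁ ∈ normalizer (W : Set G))
    (hxW : x ∈ normalizer (W : Set G))
    (hplane : Plane (quot W) q r (proj W ⟨t, htW⟩) (proj W ⟨u₁, huW⟩) (proj W ⟨x, hxW⟩) →
      ∀ a ∈ quot W, Commute (proj W ⟨x, hxW⟩) a) {w : G} (hw : w ∈ W) : Commute x w := by
  haveI := E.fact
  haveI := Fact.mk hq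
  have hWo : Odd (Nat.card W) := Setting.odd_of_pGroup hq2 hW
  by_cases hbig : Big G q
  · have hcf := hC q hq hbig
    have hwW : ∀ a ∈ W, IsRElt q a ∧ Odd (orderOf a) := fun a ha =>
      ⟨isRElt_of_mem hW ha, odd_orderOf_of_mem hWo ha⟩
    -- an involution inverting `x` and `W` makes `x` centralise `W`
    have hinv : ∀ s : G, s ∈ normalizer (W : Set G) → s * x * s⁻¹ = x⁻¹ →
        (∀ a ∈ W, s * a * s⁻¹ = a⁻¹) → Commute x w := by
      intro s hs hsx hsW
      have hxw : x * w * x⁻¹ ∈ W := (mem_normalizer_iff.1 hxW w).1 hw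
      have h1 := hsW _ hxw
      rw [show s * (x * w * x⁻¹) * s⁻¹ = s * x * s⁻¹ * (s * w * s⁻¹) * (s * x * s⁻¹)⁻¹ by group, hsx,
        hsW w hw] at h1
      refine commute_of_sq (E.U_odd E.x_U) (commute_of_conj_eq ?_)
      calc x * x * w * (x * x)⁻¹ = x * (x * w * x⁻¹)⁻¹⁻¹ * x⁻¹ := by group
        _ = x * (x⁻¹ * w⁻¹ * x⁻¹⁻¹)⁻¹ * x⁻¹ := by rw [h1]
        _ = w := by group
    have hfpf : ∀ s : G, s * s = 1 → s ∈ normalizer (W : Set G) →
        (∀ a ∈ W, Commute a s → a = 1) → ∀ a ∈ W, s * a * s⁻¹ = a⁻¹ := fun s hs hsN h =>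
      CfsgLib.PGroups.BSW.inverts_of_fpf W hs (fun a ha => (mem_normalizer_iff.1 hsN a).1 ha)
        (fun a ha hfix => h a ha (commute_of_conj_eq hfix).symm)
    have htu : t * u₁ * (t * u₁) = 1 := by
      rw [← pow_two, E.frame.rot₁.comm.mul_pow, pow_two, pow_two, E.t_sq, E.u₁_sq, one_mul]
    rcases hB q W t u₁ g₁ hq hq2 hcf E.frame.rot₁ hW htW huW with h | h
    · -- then the fixed points of `t` are trivial
      have htn : ∀ a ∈ W, Commute a t → a = 1 := fun a ha hat =>
        E.eq_one_of_four_fixed hq hqr (hwW a ha).1 (hwW a ha).2 hat (Or.inl (h a ha hat))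
      rcases hB q W u₁ (t * u₁) g₁ hq hq2 hcf E.frame.rot₁.next hW huW (mul_mem htW huW) with h' | h'
      · refine hinv u₁ huW E.x_inv₁ (hfpf u₁ E.u₁_sq huW fun a ha hau => htn a ha ?_)
        have := (h' a ha hau).mul_right hau
        rwa [mul_assoc, E.u₁_sq, mul_one] at this
      · refine hinv (t * u₁) (mul_mem htW huW) E.prod_inv_x
          (hfpf _ htu (mul_mem htW huW) fun a ha hau => htn a ha ?_)
        have := hau.mul_right (h' a ha hau)
        rwa [mul_assoc, E.u₁_sq, mul_one] at this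
    · exact hinv u₁ huW E.x_inv₁ (hfpf u₁ E.u₁_sq huW fun a ha hau =>
        E.eq_one_of_four_fixed hq hqr (hwW a ha).1 (hwW a ha).2 (h a ha hau) (Or.inl hau))
  · have hcyc : ∀ s : G, orderOf s = 2 → IsCyclic (W ⊓ centralizer ({s} : Set G) : Subgroup G) := by
      intro s hs
      by_contra hnc
      exact hbig (Or.inl ⟨s, W ⊓ centralizer ({s} : Set G), hs, fun a ha => (σ.mem_U hs).2
        ⟨commute_of_mem_centralizer ha.2, odd_orderOf_of_mem hWo ha.1⟩, hW.to_le inf_le_left, hnc⟩)
    have htuo : orderOf (t * u₁) = 2 := E.frame.rot₁.prod_order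
    have hx1 : (⟨x, hxW⟩ : normalizer (W : Set G)) ^ r = 1 := Subtype.ext (by
      rw [coe_pow, coe_one]; show x ^ r = 1; rw [← E.x_order, pow_orderOf_eq_one])
    refine commute_of_quot hqr hW (x := ⟨x, hxW⟩) (by simpa using congrArg Subtype.val hx1)
      (hplane ?_) hw
    exact
      { prime := hq
        odd := hq2
        r_prime := E.prime
        r_odd := E.r_ne_two
        ne := hqr
        comm := quot_comm hW
        exp := quot_exp hW
        nτ := mem_normalizer_quot _
        nμ := mem_normalizer_quot _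
        nξ := mem_normalizer_quot _
        τ_sq := by
          rw [← map_mul, show (⟨t, htW⟩ : normalizer (W : Set G)) * ⟨t, htW⟩ = 1 from Subtype.ext E.t_sq,
            map_one]
        μ_sq := by
          rw [← map_mul, show (⟨u₁, huW⟩ : normalizer (W : Set G)) * ⟨u₁, huW⟩ = 1 from Subtype.ext E.u₁_sq,
            map_one]
        τμ := (show Commute (⟨t, htW⟩ : normalizer (W : Set G)) ⟨u₁, huW⟩ from
          Subtype.ext E.frame.rot₁.comm.eq).map (proj W)
        ξτ := (show Commute (⟨x, hxW⟩ : normalizer (W : Set G)) ⟨t, htW⟩ from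
          Subtype.ext (E.U_mem E.x_U).eq).map (proj W)
        μξ := by
          rw [← map_inv, ← map_mul, ← map_mul, ← map_inv]
          exact congrArg (proj W) (Subtype.ext E.x_inv₁)
        ξ_pow := by rw [← map_pow, hx1, map_one]
        fix := by
          intro a ha hat
          obtain ⟨c, hc, hct, rfl⟩ := exists_fixed_lift hWo (s := ⟨t, htW⟩) E.t_sq ha hat
          exact (show Commute c (⟨x, hxW⟩ : normalizer (W : Set G)) from Subtype.ext
            (E.x_central _ ((σ.mem_U E.ht).2 ⟨hct, odd_orderOf_of_mem hWo hc⟩)).eq).map (proj W)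
        cyc₁ := isCyclic_fixed hWo (s := ⟨u₁, huW⟩) E.u₁_sq (hcyc u₁ E.frame.hu₁)
        cyc₂ := by
          rw [← map_mul, show (⟨t, htW⟩ : normalizer (W : Set G)) * ⟨u₁, huW⟩ =
            ⟨t * u₁, mul_mem htW huW⟩ from Subtype.ext (Subgroup.coe_mul _ _ _)]
          exact isCyclic_fixed hWo (s := ⟨t * u₁, mul_mem htW huW⟩) (involution_sq htuo) (hcyc _ htuo) }

/-- An `r`-subgroup through `x` normalised by the four-group is centralised by `t`. -/
theorem commute_t_of_invariant (hC : CoreFixed G) (hB : OneComponent G) {R : Subgroup G}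
    (hR : IsPGroup r R) (hx : x ∈ R) (htR : t ∈ normalizer (R : Set G))
    (huR : u₁ ∈ normalizer (R : Set G)) {a : G} (ha : a ∈ R) : Commute a t := by
  haveI := E.fact
  have key : ∀ {v g : G}, Rot t v g → v ∈ normalizer (R : Set G) → v * x * v⁻¹ = x⁻¹ →
      ∀ b ∈ R, Commute b v → Commute b t := by
    intro v g hv hvR hvx
    rcases hB r R t v g E.prime E.r_ne_two (E.cfixed hC) hv hR htR hvR with h | h
    · have := conj_eq_of_commute (h x hx (E.U_mem E.x_U)).symm
      rw [hvx] at this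
      exact absurd (eq_one_of_inv_self (E.U_odd E.x_U) this) E.x_ne
    · exact h
  exact commute_of_mem_centralizer (le_of_four_fixed E.ht E.frame.hu₁ E.frame.rot₁.ne E.frame.rot₁.comm
    (Setting.odd_of_pGroup E.r_ne_two hR) htR huR (fun b _ h => mem_centralizer_of_commute h)
    (fun b hb h => mem_centralizer_of_commute (key E.frame.rot₁ huR E.x_inv₁ b hb h))
    (fun b hb h => mem_centralizer_of_commute
      (key (swap_rot E.frame.rot₁) (mul_mem htR huR) E.prod_inv_x b hb h)) ha)

/-- The common part of steps 2 and 3. -/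
theorem centralizer_le_of_plane (hC : CoreFixed G) (hB : OneComponent G) {z : G} (hzt : Commute z t)
    (hzu : u₁ * z * u₁⁻¹ = z⁻¹) (hzx : Commute z x)
    (huniq : ∀ j ∈ centralizer ({z} : Set G), orderOf j = 2 → Commute j t → j = t)
    (hplane : ∀ (q : ℕ) (W : Subgroup G) (htW : t ∈ normalizer (W : Set G))
      (huW : u₁ ∈ normalizer (W : Set G)) (hxW : x ∈ normalizer (W : Set G)),
      q.Prime → q ≠ r → IsPGroup q W → W ≤ centralizer ({z} : Set G) → Odd (Nat.card W) →
      oddPart (centralizer ({z} : Set G)) ≤ normalizer (W : Set G) →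
      Plane (quot W) q r (proj W ⟨t, htW⟩) (proj W ⟨u₁, huW⟩) (proj W ⟨x, hxW⟩) →
      ∀ a ∈ quot W, Commute (proj W ⟨x, hxW⟩) a) :
    centralizer ({z} : Set G) ≤ centralizer ({t} : Set G) := by
  haveI := E.fact
  have htX : t ∈ centralizer ({z} : Set G) := mem_centralizer_of_commute hzt.symm
  have hcX := σ.complement_of_unique htX E.ht huniq
  refine σ.le_centralizer_of_unique htX E.ht huniq ?_
  set A := oddPart (centralizer ({z} : Set G)) with hA
  have hAo : Odd (Nat.card A) := odd_oddPart hcX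
  have htA : t ∈ normalizer (A : Set G) := normalizer_le_oddPart hcX (le_normalizer htX)
  have huA : u₁ ∈ normalizer (A : Set G) :=
    normalizer_le_oddPart hcX (mem_normalizer_centralizer (Or.inr hzu))
  have hxA : x ∈ A := (mem_oddPart hcX).2 ⟨mem_centralizer_of_commute hzx.symm, E.U_odd E.x_U⟩
  -- `O_r(A)` lies in `Q`
  set R₀ := zpowers x ⊔ (A ⊓ zpowers y) with hR₀
  have hR₀Q : R₀ ≤ rCore r t :=
    sup_le (zpowers_le.2 E.x_mem) (inf_le_right.trans (zpowers_le.2 E.y_mem))
  have htR₀ : t ∈ normalizer (R₀ : Set G) := mem_normalizer_sup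
    (mem_normalizer_zpowers (Or.inl (conj_eq_of_commute (E.U_mem E.x_U).symm)))
    (CfsgLib.Transfer.normalizer_le_normalizer_inf
      ⟨htA, mem_normalizer_zpowers (Or.inl (conj_eq_of_commute (E.U_mem E.y_U).symm))⟩)
  have huR₀ : u₁ ∈ normalizer (R₀ : Set G) := mem_normalizer_sup
    (mem_normalizer_zpowers (Or.inr E.x_inv₁))
    (CfsgLib.Transfer.normalizer_le_normalizer_inf
      ⟨huA, mem_normalizer_zpowers (Or.inl (conj_eq_of_commute E.y_u₁.symm))⟩)
  obtain ⟨R, hRp, hR₀R, hRA, htR, huR, -, hmax⟩ := exists_sylow_four E.ht E.frame.hu₁ E.frame.rot₁.comm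
    hAo htA huA r (E.isP_Q.to_le hR₀Q) (sup_le (zpowers_le.2 hxA) inf_le_left) htR₀ huR₀
  have hxR : x ∈ R := hR₀R (mem_sup_left (mem_zpowers x))
  have hRQ : R ≤ rCore r t := E.eq_Q_of_le hRp fun a ha => (σ.mem_U E.ht).2
    ⟨E.commute_t_of_invariant hC hB hRp hxR htR huR ha, odd_orderOf_of_mem hAo (hRA ha)⟩
  have hOr : sCore r A ≤ rCore r t := (hmax (fun c hc hct hcu => le_normalizer (hR₀R (mem_sup_right
      ⟨hc, E.fixed₁ ((σ.mem_U E.ht).2 ⟨hct, odd_orderOf_of_mem hAo hc⟩) hcu⟩)))
    (sCore r A) (isPGroup_sCore r A) (sCore_le r A) (normalizer_le_sCore r A htA)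
    (normalizer_le_sCore r A huA)).trans hRQ
  -- `x` centralises every `O_q(A)`
  have hxO : ∀ q : ℕ, q.Prime → ∀ a ∈ sCore q A, Commute x a := by
    intro q hq a ha
    rcases eq_or_ne q r with rfl | hqr
    · exact (E.x_Q_comm (hOr ha)).symm
    rcases eq_or_ne q 2 with rfl | hq2
    · obtain ⟨j, hj⟩ := isPGroup_sCore 2 A ⟨a, ha⟩
      have ha1 : a = 1 := orderOf_eq_one_iff.1 (Nat.eq_one_of_dvd_coprimes
        ((Nat.coprime_two_right.2 (odd_orderOf_of_mem hAo (sCore_le 2 A ha))).pow_right j) dvd_rfl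
        (orderOf_dvd_of_pow_eq_one (congrArg Subtype.val hj)))
      rw [ha1]; exact Commute.one_right x
    have hN : A ≤ normalizer (sCore q A : Set G) := le_normalizer.trans (normalizer_le_sCore q A)
    exact E.commute_of_invariant hC hB hq hq2 hqr (isPGroup_sCore q A) (normalizer_le_sCore q A htA)
      (normalizer_le_sCore q A huA) (hN hxA)
      (hplane q _ _ _ _ hq hqr (isPGroup_sCore q A) ((sCore_le q A).trans (oddPart_le _))
        (hAo.of_dvd_nat (card_dvd_of_le (sCore_le q A))) hN) ha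
  have hxOr : x ∈ sCore r A :=
    mem_sCore_of_centralizes hAo (j := 1) hxA (by rw [pow_one, E.x_order]) hxO
  -- conjugates of `t` centralise `x`
  intro a ha
  have hx' : a⁻¹ * x * a ∈ sCore r A := by
    have := (mem_normalizer_iff.1 ((le_normalizer.trans (normalizer_le_sCore r A)) (inv_mem ha)) x).1 hxOr
    rwa [inv_inv] at this
  have h2 := (E.U_mem (E.Q_le (hOr hx'))).map (MulAut.conj a).toMonoidHom
  simp only [MulEquiv.coe_toMonoidHom, MulAut.conj_apply] at h2
  rw [show a * (a⁻¹ * x * a) * a⁻¹ = x by group] at h2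
  have h3 : a * t * a⁻¹ ∈ centralizer ({x} : Set G) := mem_centralizer_of_commute h2.symm
  exact commute_of_conj_eq (E.unique_x _ h3 (by rw [orderOf_conj]; exact E.ht)
    (commute_of_mem_centralizer (E.centralizer_x_le hC hB h3)))

end CfsgLib.GW.Dne.Exceptional
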