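import Cfsg.Agent.Lib.GW.Dne.Exceptional.Count
import Cfsg.Agent.Lib.Char.Exceptional.TISet
import Cfsg.Agent.Lib.Char.Exceptional.Virtual

/-!
# The exceptional configuration: the class function `1 + sgn - θ^C` on `C(t)`

`θ` is a linear character of `O(C(t)) ⟨rotations⟩` trivial on `O_r ⊔ K` and on the rotations.
-/

set_option autoImplicit false

open scoped ComplexConjugate

namespace CfsgLib.GW.Dne.Exceptional

open Subgroup CfsgLib.GW CfsgLib.GW.Dne.Exc CfsgLib.Char CfsgLib.Char.Exceptional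
open CfsgLib.Signalizer (involution_sq involution_inv involution_ne_one orderOf_conj)

universe u

variable {G : Type u} [Group G] [Finite G] {σ : Hyp G} {t u₁ u₂ g₁ g₂ : G} {r : ℕ} {x y : G}
  {K : Subgroup G} (E : Exceptional σ t u₁ u₂ g₁ g₂ r x y K)

include E

/-- A non-trivial linear character of the top layer. -/
theorem exists_linear : ∃ l : U t →* ℂˣ, (∀ h : U t, (h : G) ∈ rCore r t ⊔ K → l h = 1) ∧
    ∃ h : U t, l h ≠ 1 := by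
  set Y' := (rCore r t ⊔ K).subgroupOf (U t) with hY'
  haveI : Y'.Normal := normal_subgroupOf_of_le_normalizer E.Y_normal
  letI : CommGroup (U t ⧸ Y') :=
    { (inferInstance : Group (U t ⧸ Y')) with
      mul_comm := fun a b => by
        obtain ⟨a, rfl⟩ := QuotientGroup.mk'_surjective Y' a
        obtain ⟨b, rfl⟩ := QuotientGroup.mk'_surjective Y' b
        show QuotientGroup.mk' Y' a * QuotientGroup.mk' Y' b = QuotientGroup.mk' Y' b * QuotientGroup.mk' Y' a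
        rw [← map_mul, ← map_mul, QuotientGroup.mk'_apply, QuotientGroup.mk'_apply, QuotientGroup.eq]
        refine mem_subgroupOf.2 ?_
        push_cast
        rw [mul_inv_rev, show (b : G)⁻¹ * (a : G)⁻¹ * ((b : G) * a) =
          (b : G)⁻¹ * (a : G)⁻¹ * (b : G)⁻¹⁻¹ * (a : G)⁻¹⁻¹ by group]
        exact E.top_comm _ (inv_mem b.2) _ (inv_mem a.2) }
  obtain ⟨h₀, hh₀, hh₀Y⟩ := SetLike.not_le_iff_exists.1 E.top_ne
  have hne : QuotientGroup.mk' Y' ⟨h₀, hh₀⟩ ≠ 1 := fun e =>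
    hh₀Y (mem_subgroupOf.1 ((QuotientGroup.eq_one_iff _).1 e))
  obtain ⟨φ, hφ⟩ := CommGroup.exists_apply_ne_one_of_hasEnoughRootsOfUnity (U t ⧸ Y') ℂ hne
  refine ⟨φ.comp (QuotientGroup.mk' Y'), fun h hh => ?_, ⟨h₀, hh₀⟩, hφ⟩
  rw [MonoidHom.comp_apply, show QuotientGroup.mk' Y' h = 1 from
    (QuotientGroup.eq_one_iff h).2 (mem_subgroupOf.2 hh), map_one]

theorem l_u₁ {l : U t →* ℂˣ} (hl : ∀ h : U t, (h : G) ∈ rCore r t ⊔ K → l h = 1) (h : U t) :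
    l ⟨u₁ * h * u₁⁻¹, E.conj_mem_U E.u₁_C h.2⟩ = (l h)⁻¹ := by
  refine eq_inv_of_mul_eq_one_left ?_
  rw [← map_mul]
  exact hl _ (E.top_inv₁ h h.2)

theorem l_sq_ne {l : U t →* ℂˣ} {h : U t} (hh : l h ≠ 1) : (l h)⁻¹ ≠ l h := by
  intro e
  have h2 : l h ^ 2 = 1 := by
    rw [pow_two]; nth_rw 1 [← e]; exact inv_mul_cancel _
  refine hh (orderOf_eq_one_iff.1 (Nat.eq_one_of_dvd_coprimes
    ((Nat.coprime_two_right.2 (E.U_odd h.2))) ?_ (orderOf_dvd_of_pow_eq_one h2)))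
  exact (orderOf_map_dvd l h).trans (by rw [Subgroup.orderOf_coe])

/-- `O(C(t)) ⟨u₁ u₂⟩`. -/
def C0 (E : Exceptional σ t u₁ u₂ g₁ g₂ r x y K) : Subgroup G where
  carrier := {c | ∃ h ∈ U t, ∃ i : ℤ, c = h * (u₁ * u₂) ^ i}
  one_mem' := ⟨1, one_mem _, 0, by simp⟩
  mul_mem' := by
    rintro _ _ ⟨h, hh, i, rfl⟩ ⟨h', hh', i', rfl⟩
    refine ⟨h * h', mul_mem hh hh', i + i', ?_⟩
    rw [zpow_add, mul_assoc h, ← mul_assoc ((u₁ * u₂) ^ i), (E.rot_zpow_U hh' i).eq]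
    group
  inv_mem' := by
    rintro _ ⟨h, hh, i, rfl⟩
    refine ⟨h⁻¹, inv_mem hh, -i, ?_⟩
    rw [mul_inv_rev, ← zpow_neg, (E.rot_zpow_U (inv_mem hh) (-i)).eq]

theorem C0_le : E.C0 ≤ centralizer ({t} : Set G) := by
  rintro _ ⟨h, hh, i, rfl⟩
  exact mul_mem (E.U_C hh) (zpow_mem E.rot_C i)

theorem u₁_not_C0 : u₁ ∉ E.C0 := by
  rintro ⟨h, hh, i, e⟩
  have h1 : u₁ * x * u₁⁻¹ = x := by
    rw [e, show h * (u₁ * u₂) ^ i * x * (h * (u₁ * u₂) ^ i)⁻¹ =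
      h * ((u₁ * u₂) ^ i * x * ((u₁ * u₂) ^ i)⁻¹) * h⁻¹ by group,
      conj_eq_of_commute (E.rot_zpow_U E.x_U i), conj_eq_of_commute (E.x_central h hh)]
  rw [E.x_inv₁] at h1
  exact E.x_ne (eq_one_of_inv_self (E.U_odd E.x_U) h1)

theorem refl_mem_or {c : G} (hc : c ∈ centralizer ({t} : Set G)) : c ∈ E.C0 ∨ c * u₁ ∈ E.C0 := by
  obtain ⟨h, hh, i, rfl | rfl⟩ := E.C_cases (commute_of_mem_centralizer hc)
  · exact Or.inl ⟨h, hh, i, rfl⟩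
  · refine Or.inr ⟨h, hh, -i, ?_⟩
    rw [mul_assoc h, mul_assoc u₁, E.u₁_rot, ← mul_assoc u₁ u₁, E.u₁_sq, one_mul]

theorem C0_coords {h h' : G} (hh : h ∈ U t) (hh' : h' ∈ U t) {i i' : ℤ}
    (e : h * (u₁ * u₂) ^ i = h' * (u₁ * u₂) ^ i') : h = h' := by
  have h1 : h'⁻¹ * h = (u₁ * u₂) ^ (i' - i) := by
    rw [zpow_sub]
    calc h'⁻¹ * h = h'⁻¹ * (h * (u₁ * u₂) ^ i) * ((u₁ * u₂) ^ i)⁻¹ := by group
      _ = _ := by rw [e]; group
  exact (inv_mul_eq_one.1 (E.disjoint_rot (mul_mem (inv_mem hh') hh) h1)).symm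

omit E in
open scoped _root_.Classical in
/-- The extension of `l` to `O(C(t)) ⟨u₁ u₂⟩`, zero elsewhere. -/
noncomputable def theta (E : Exceptional σ t u₁ u₂ g₁ g₂ r x y K) (l : U t →* ℂˣ) (c : G) : ℂ :=
  if hc : c ∈ E.C0 then (l ⟨hc.choose, hc.choose_spec.1⟩ : ℂ) else 0

theorem theta_eq (l : U t →* ℂˣ) {h : G} (hh : h ∈ U t) (i : ℤ) :
    E.theta l (h * (u₁ * u₂) ^ i) = (l ⟨h, hh⟩ : ℂ) := by
  have hm : h * (u₁ * u₂) ^ i ∈ E.C0 := ⟨h, hh, i, rfl⟩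
  rw [theta, dif_pos hm]
  obtain ⟨j, hj⟩ := hm.choose_spec.2
  congr 2
  exact Subtype.ext (E.C0_coords hm.choose_spec.1 hh hj.symm)

theorem theta_zero (l : U t →* ℂˣ) {c : G} (hc : c ∉ E.C0) : E.theta l c = 0 := by
  rw [theta, dif_neg hc]

/-- `θ` as a homomorphism. -/
noncomputable def thetaHom (E : Exceptional σ t u₁ u₂ g₁ g₂ r x y K) (l : U t →* ℂˣ) : E.C0 →* ℂˣ where
  toFun c := l ⟨c.2.choose, c.2.choose_spec.1⟩
  map_one' := by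
    obtain ⟨i, hi⟩ := (1 : E.C0).2.choose_spec.2
    rw [← map_one l]
    congr 1
    refine Subtype.ext (E.C0_coords (i := i) (i' := 0) (1 : E.C0).2.choose_spec.1 (one_mem _) ?_)
    rw [← hi]; simp
  map_mul' a b := by
    obtain ⟨i, hi⟩ := (a * b).2.choose_spec.2
    obtain ⟨ia, hia⟩ := a.2.choose_spec.2
    obtain ⟨ib, hib⟩ := b.2.choose_spec.2
    rw [← map_mul]
    congr 1
    refine Subtype.ext (E.C0_coords (i := i) (i' := ia + ib) (a * b).2.choose_spec.1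
      (mul_mem a.2.choose_spec.1 b.2.choose_spec.1) ?_)
    rw [← hi, Subgroup.coe_mul]
    conv_lhs => rw [hia, hib]
    rw [zpow_add, show a.2.choose * (u₁ * u₂) ^ ia * (b.2.choose * (u₁ * u₂) ^ ib) =
      a.2.choose * ((u₁ * u₂) ^ ia * b.2.choose) * (u₁ * u₂) ^ ib by group,
      (E.rot_zpow_U b.2.choose_spec.1 ia).eq]
    simp [mul_assoc]

theorem thetaHom_eq (l : U t →* ℂˣ) (c : E.C0) : (E.thetaHom l c : ℂ) = E.theta l c := by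
  rw [theta, dif_pos c.2]; rfl

theorem theta_conj_C0 (l : U t →* ℂˣ) {c a : G} (hc : c ∈ E.C0) (ha : a ∈ E.C0) :
    E.theta l (c * a * c⁻¹) = E.theta l a := by
  rw [← E.thetaHom_eq l ⟨a, ha⟩, ← E.thetaHom_eq l ⟨c * a * c⁻¹, mul_mem (mul_mem hc ha) (inv_mem hc)⟩,
    show (⟨c * a * c⁻¹, mul_mem (mul_mem hc ha) (inv_mem hc)⟩ : E.C0) = ⟨c, hc⟩ * ⟨a, ha⟩ * ⟨c, hc⟩⁻¹
      from Subtype.ext rfl, map_mul, map_mul, map_inv, mul_inv_cancel_comm]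

theorem conj_u₁_mem {a : G} (ha : a ∈ E.C0) : u₁ * a * u₁⁻¹ ∈ E.C0 := by
  obtain ⟨h, hh, i, rfl⟩ := ha
  refine ⟨u₁ * h * u₁⁻¹, E.conj_mem_U E.u₁_C hh, -i, ?_⟩
  rw [show u₁ * (h * (u₁ * u₂) ^ i) * u₁⁻¹ = u₁ * h * u₁⁻¹ * (u₁ * (u₁ * u₂) ^ i * u₁⁻¹) by group,
    ← conj_zpow, E.rot_inv, inv_zpow, zpow_neg]

theorem theta_conj_u₁ {l : U t →* ℂˣ} (hl : ∀ h : U t, (h : G) ∈ rCore r t ⊔ K → l h = 1) {a : G}
    (ha : a ∈ E.C0) : E.theta l (u₁ * a * u₁⁻¹) = (E.theta l a)⁻¹ := by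
  obtain ⟨h, hh, i, rfl⟩ := ha
  rw [show u₁ * (h * (u₁ * u₂) ^ i) * u₁⁻¹ = u₁ * h * u₁⁻¹ * (u₁ * (u₁ * u₂) ^ i * u₁⁻¹) by group,
    ← conj_zpow, E.rot_inv, inv_zpow, ← zpow_neg, E.theta_eq l (E.conj_mem_U E.u₁_C hh), E.theta_eq l hh,
    E.l_u₁ hl ⟨h, hh⟩, Units.val_inv_eq_inv_val]

/-- `O(C(t)) ⟨u₁ u₂⟩` is normal in `C(t)`. -/
theorem conj_C0 {c a : G} (hc : c ∈ centralizer ({t} : Set G)) (ha : a ∈ E.C0) : c * a * c⁻¹ ∈ E.C0 := by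
  rcases E.refl_mem_or hc with h | h
  · exact mul_mem (mul_mem h ha) (inv_mem h)
  · rw [show c * a * c⁻¹ = c * u₁ * (u₁⁻¹ * a * u₁⁻¹⁻¹) * (c * u₁)⁻¹ by group,
      involution_inv E.frame.hu₁]
    exact mul_mem (mul_mem h (E.conj_u₁_mem ha)) (inv_mem h)

theorem theta_conj {l : U t →* ℂˣ} (hl : ∀ h : U t, (h : G) ∈ rCore r t ⊔ K → l h = 1) {c a : G}
    (hc : c ∈ centralizer ({t} : Set G)) (ha : a ∈ E.C0) :
    E.theta l (c * a * c⁻¹) = E.theta l a ∨ E.theta l (c * a * c⁻¹) = (E.theta l a)⁻¹ := by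
  rcases E.refl_mem_or hc with h | h
  · exact Or.inl (E.theta_conj_C0 l h ha)
  · right
    rw [show c * a * c⁻¹ = c * u₁ * (u₁⁻¹ * a * u₁⁻¹⁻¹) * (c * u₁)⁻¹ by group,
      inv_inv, involution_inv E.frame.hu₁]
    have e : u₁ * a * u₁ = u₁ * a * u₁⁻¹ := by rw [involution_inv E.frame.hu₁]
    rw [e, E.theta_conj_C0 l h (E.conj_u₁_mem ha), E.theta_conj_u₁ hl ha]

open scoped _root_.Classical in
/-- The class function `1 + sgn - θ^C` on `C(t)`. -/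
noncomputable def special (E : Exceptional σ t u₁ u₂ g₁ g₂ r x y K) (l : U t →* ℂˣ)
    (c : centralizer ({t} : Set G)) : ℂ :=
  if (c : G) ∈ E.C0 then 2 - E.theta l c - (E.theta l c)⁻¹ else 0

theorem card_C0 : Nat.card (E.C0.subgroupOf (centralizer ({t} : Set G))) = 2 ^ σ.n * Nat.card (U t) := by
  rw [Nat.card_congr (subgroupOfEquivOfLe E.C0_le).toEquiv]
  let φ : U t × zpowers (u₁ * u₂) → E.C0 := fun p => ⟨(p.1 : G) * (p.2 : G), by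
    obtain ⟨i, hi⟩ := p.2.2
    exact ⟨p.1, p.1.2, i, by rw [← hi]⟩⟩
  have hφ : Function.Bijective φ := by
    refine ⟨fun p q e => ?_, fun c => ?_⟩
    · have e' : (p.1 : G) * p.2 = q.1 * q.2 := congrArg Subtype.val e
      obtain ⟨i, hi⟩ := p.2.2
      obtain ⟨j, hj⟩ := q.2.2
      have h1 : (p.1 : G) = q.1 := E.C0_coords p.1.2 q.1.2 (i := i) (i' := j) (by
        simp only at hi hj; rw [hi, hj]; exact e')
      rw [h1, mul_right_inj] at e'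
      exact Prod.ext (Subtype.ext h1) (Subtype.ext e')
    · obtain ⟨h, hh, i, e⟩ := c.2
      exact ⟨(⟨h, hh⟩, ⟨_, i, rfl⟩), Subtype.ext e.symm⟩
  rw [← Nat.card_eq_of_bijective φ hφ, Nat.card_prod, Nat.card_zpowers, E.frame.ord, mul_comm]

theorem norm_theta (l : U t →* ℂˣ) (h : U t) : conj (l h : ℂ) = ((l h : ℂ))⁻¹ := by
  refine (Complex.inv_eq_conj ?_).symm
  refine Complex.norm_eq_one_of_pow_eq_one (n := orderOf h) ?_ (orderOf_pos h).ne'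
  rw [← Units.val_pow_eq_pow_val, ← map_pow, pow_orderOf_eq_one, map_one, Units.val_one]

end CfsgLib.GW.Dne.Exceptional
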